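import Cfsg.Agent.Char.Eigen
import Cfsg.Agent.Char.Ker
import Cfsg.Agent.Char.Galois
import Cfsg.Agent.Char.Central
import Cfsg.Agent.Char.Burnside
import Cfsg.Agent.Char.Congr
import Cfsg.Agent.Char.Det

/-!
# Arithmetic of characters: umbrella import

`Char/Omega.lean` (central characters on the group algebra) is imported separately.
-/
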