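import Cfsg.Agent.Char.SimpleLin
import Cfsg.Agent.S4479
import Mathlib.Analysis.Real.Pi.Bounds

/-!
# Simple groups with Sylow `2`-subgroups of order four and a character of degree four
-/

set_option autoImplicit false
set_option linter.unusedSectionVars false
set_option linter.style.haveILetI false

namespace Cfsg

open Subgroup
open scoped ComplexConjugate Classical

universe u

theorem klein_decide : (([1, 3, 5] : List ℤ).all fun k => (List.range 118).all fun a =>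
    (List.range 118).all fun b =>
    (fun y₁ y₂ : ℤ => (fun y₃ : ℤ => (fun D N : ℤ => N % D != 0 || (fun g : ℤ =>
      g % 4 != 0 || g % y₁ != 0 || g % y₂ != 0 || g % y₃ != 0 || y₁ == 1 || y₂ == 1 || y₃ == 1 ||
      g == 60 || g == 660 || g == 1092 || g == 3420 || g == 4620 ||
      (k != 1 && (y₁ == -3 || y₂ == -3 || y₃ == -3))) (N / D))
        ((y₁ + 1) * (y₂ + 1) * (y₃ + 1)) (32 * k ^ 3 * y₁ * y₂ * y₃)) (-1 - y₁ - y₂))
      (2 * a - 117) (2 * b - 117)) = true := by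
  decide +kernel

theorem klein_arith {g k : ℕ} (hk : k = 1 ∨ k = 3 ∨ k = 5) {y₁ y₂ y₃ : ℤ}
    (hs : 1 + y₁ + y₂ + y₃ = 0) (o1 : Odd y₁) (o2 : Odd y₂) (l1 : 1 < |y₁|) (l2 : 1 < |y₂|)
    (l3 : 1 < |y₃|) (d1 : y₁ ∣ g) (d2 : y₂ ∣ g) (d3 : y₃ ∣ g) (s1 : y₁ ^ 2 ≤ g) (s2 : y₂ ^ 2 ≤ g)
    (h4 : 4 ∣ g) (he : g * ((y₁ + 1) * (y₂ + 1) * (y₃ + 1)) = 32 * k ^ 3 * y₁ * y₂ * y₃) :
    (g = 60 ∨ g = 660 ∨ g = 1092 ∨ g = 3420 ∨ g = 4620) ∨
      (k ≠ 1 ∧ (y₁ = -3 ∨ y₂ = -3 ∨ y₃ = -3)) := by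
  have o3 : Odd y₃ := by
    obtain ⟨a, ha⟩ := o1
    obtain ⟨b, hb⟩ := o2
    exact ⟨-a - b - 2, by omega⟩
  have hb : ∀ y : ℤ, Odd y → 1 < |y| → 2 * |y| ≤ 3 * |y + 1| := by
    rintro y ⟨a, ha⟩ h
    rcases abs_cases y with ⟨e, _⟩ | ⟨e, _⟩ <;> rcases abs_cases (y + 1) with ⟨e', _⟩ | ⟨e', _⟩ <;>
      omega
  have hg : (g : ℤ) ≤ 108 * k ^ 3 := by
    have h1 := congrArg abs he
    simp only [abs_mul, Nat.abs_cast, abs_pow, Nat.abs_ofNat] at h1
    have h2 : (2 * |y₁|) * (2 * |y₂|) * (2 * |y₃|) ≤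
        (3 * |y₁ + 1|) * (3 * |y₂ + 1|) * (3 * |y₃ + 1|) := by
      gcongr ?_ * ?_ * ?_
      exacts [hb _ o1 l1, hb _ o2 l2, hb _ o3 l3]
    have h3 : 0 < |y₁| * |y₂| * |y₃| := by positivity
    have h5 := mul_le_mul_of_nonneg_left h2 (Int.natCast_nonneg g)
    nlinarith
  have hg' : (g : ℤ) ≤ 13500 := by
    rcases hk with rfl | rfl | rfl <;> norm_num at hg ⊢ <;> omega
  have hr : ∀ y : ℤ, Odd y → y ^ 2 ≤ g → ∃ a ∈ List.range 118, y = 2 * (a : ℤ) - 117 := by
    rintro y ⟨c, hc⟩ h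
    have h1 : -117 < y := by nlinarith
    have h2 : y < 117 := by nlinarith
    exact ⟨(c + 59).toNat, List.mem_range.2 (by omega), by omega⟩
  obtain ⟨a, ha, e1⟩ := hr _ o1 s1
  obtain ⟨b, hb', e2⟩ := hr _ o2 s2
  have n1 : ∀ y : ℤ, 1 < |y| → y ≠ 1 ∧ y + 1 ≠ 0 := fun y h => by
    rcases abs_cases y with ⟨e, _⟩ | ⟨e, _⟩ <;> omega
  have hD : (y₁ + 1) * (y₂ + 1) * (y₃ + 1) ≠ 0 :=
    mul_ne_zero (mul_ne_zero (n1 _ l1).2 (n1 _ l2).2) (n1 _ l3).2
  have h := klein_decide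
  simp only [List.all_eq_true] at h
  replace h := h k (by rcases hk with rfl | rfl | rfl <;> simp) a ha b hb'
  rw [← e1, ← e2, show -1 - y₁ - y₂ = y₃ by omega, ← he, Int.mul_ediv_cancel _ hD,
    Int.mul_emod_left, Int.emod_eq_zero_of_dvd d1, Int.emod_eq_zero_of_dvd d2,
    Int.emod_eq_zero_of_dvd d3, show (g : ℤ) % 4 = 0 by omega] at h
  simp only [bne_self_eq_false, Bool.false_or, Bool.or_eq_true, beq_iff_eq, (n1 _ l1).1,
    (n1 _ l2).1, (n1 _ l3).1, false_or, Bool.and_eq_true, bne_iff_ne] at h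
  omega

variable {G : Type u} [Group G] [Finite G]

theorem sum_zpowers_of_orderOf_two {J : G} (hJ : orderOf J = 2) [Fintype (zpowers J)]
    (F : G → ℂ) : ∑ a : zpowers J, F a = F 1 + F J := by
  have h1 : J ≠ 1 := by rintro rfl; simp at hJ
  have : (Finset.univ : Finset (zpowers J)) = {1, ⟨J, mem_zpowers J⟩} := by
    ext a
    simp only [Finset.mem_univ, Finset.mem_insert, Finset.mem_singleton, true_iff, Subtype.ext_iff]
    exact eq_one_or_eq_of_mem_zpowers_of_orderOf_two hJ a.2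
  rw [this, Finset.sum_pair fun e => h1 (congrArg Subtype.val e).symm]
  rfl

/-- The fixed part of a character on an odd subgroup inverted by `τ`. -/
theorem IsCharacter.exists_half {ψ : G → ℂ} (hψ : IsCharacter G ψ) {J τ : G} (hJ : orderOf J = 2)
    (hτ : Commute τ J) {K : Subgroup G} (hK : ∀ x ∈ K, Commute x J) (ho : Odd (Nat.card K))
    (hinv : ∀ x ∈ K, τ * x * τ⁻¹ = x⁻¹) {n : ℕ} (hn : ψ 1 + ψ J = 2 * n) :
    ∃ f : Fin n → (K →* ℂˣ), (∀ x : K, ψ x + ψ (x * J) = 2 * ∑ i, (f i x : ℂ)) ∧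
      ∀ x, ∏ i, (f i x : ℂ) = 1 := by
  letI : Fintype (zpowers J) := Fintype.ofFinite _
  have hc : ∀ x y : K, x * y = y * x := fun x y => Subtype.ext (by
    have h1 := hinv _ (x * y).2
    rw [coe_mul, ← conj_mul, hinv _ x.2, hinv _ y.2, ← mul_inv_rev, inv_inj] at h1
    exact h1.symm)
  haveI : IsMulCommutative K := ⟨⟨hc⟩⟩
  have h1 := hψ.avg_mul (K := K) (A := zpowers J) fun x hx a ha => by
    obtain ⟨k, rfl⟩ := ha
    exact (hK x hx).zpow_right k
  simp only [Nat.card_zpowers, hJ] at h1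
  set θ : K → ℂ := fun x => ((2 : ℕ) : ℂ)⁻¹ * ∑ a : zpowers J, ψ (x * a) with hθ
  have h2 : ∀ x : K, ψ x + ψ (x * J) = 2 * θ x := fun x => by
    simp only [hθ, sum_zpowers_of_orderOf_two hJ (fun a => ψ (x * a)), mul_one]
    push_cast
    ring
  have hd : charDegree θ = n := by
    have := h2 1
    rw [OneMemClass.coe_one, one_mul, hn, h1.apply_one] at this
    exact_mod_cast (mul_left_cancel₀ two_ne_zero this).symm
  subst hd
  obtain ⟨f, hf, hf'⟩ := h1.exists_eq_sum_monoidHom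
  refine ⟨f, fun x => by rw [h2, hf], fun x => ?_⟩
  let ι : K →* K := ⟨⟨fun x => x⁻¹, inv_one⟩, fun a b => (mul_inv_rev a b).trans (hc _ _)⟩
  have h3 : θ ∘ ι = θ := by
    ext y
    refine mul_left_cancel₀ (two_ne_zero (α := ℂ)) ?_
    rw [Function.comp_apply, ← h2, ← h2, ← hψ.isClassFunction (y : G) τ,
      ← hψ.isClassFunction (y * J) τ, ← conj_mul, hinv _ y.2, hτ.eq, mul_inv_cancel_right]
    rfl
  have h4 := congrFun (h1.detChar_comp ι) x
  rw [h3] at h4
  have h5 : detChar θ x ^ 2 = 1 := by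
    rw [sq]
    nth_rewrite 2 [h4]
    rw [Function.comp_apply, ← detChar_map_mul]
    exact (congrArg _ (mul_inv_cancel x)).trans (detChar_apply_one θ)
  have h6 : detChar θ x ^ Nat.card K = 1 := by
    rw [← detChar_map_pow, pow_card_eq_one', detChar_apply_one]
  obtain ⟨m, hm⟩ := ho
  rw [hm, pow_succ, pow_mul, h5, one_pow, one_mul] at h6
  rw [← hf', h6]

/-- The principal `2`-block for a Klein four Sylow subgroup. -/
theorem exists_principal_klein {M : Ideal AlgInt} (hM : IsPModular 2 M) {P : Subgroup G} {J τ : G}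
    (h : IsDihPair P J τ) (hP : IsPGroup 2 P) (hi : ¬ 2 ∣ P.index) (hJ : orderOf J = 2) :
    ∃ (χ : Fin 3 → IrrCharacter G) (ε : Fin 3 → ℤ), (∀ i, χ i ≠ IrrCharacter.one G) ∧
      (∀ i, χ i ∈ principalBlock M G) ∧ (∀ i, ε i = 1 ∨ ε i = -1) ∧ (∀ i, χ i J = ε i) ∧
      ∀ F : IrrCharacter G → ℂ, ∑ᶠ ψ ∈ principalBlock M G, F ψ =
        F (IrrCharacter.one G) + F (χ 0) + F (χ 1) + F (χ 2) := by
  have hm := mem_zpowers J
  have hJ1 : J ≠ 1 := by rintro rfl; simp at hJ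
  have hJJ : J ^ 2 = 1 := hJ ▸ pow_orderOf_eq_one J
  choose n hn using fun ψ : IrrCharacter G => ψ.isCharacter.exists_int_of_sq_eq_one hJJ
  set T := (Finset.univ.filter fun ψ => ψ ∈ principalBlock M G).erase (IrrCharacter.one G) with hT
  have hF : ∀ F : IrrCharacter G → ℂ, ∑ᶠ ψ ∈ principalBlock M G, F ψ =
      F (IrrCharacter.one G) + ∑ ψ ∈ T, F ψ := fun F => by
    rw [hT, Finset.add_sum_erase _ _ (by simpa using hM.one_mem_principalBlock),
      finsum_mem_eq_sum_of_inter_support_eq]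
    simp
  have h1 := h.finsum_mul hM hP hi hm hJ hm hm hJ1
  rw [hF, hJ, if_pos rfl, if_pos (eq_inv_of_mul_eq_one_left (by rw [← sq, hJJ])),
    Finset.sum_congr rfl fun ψ _ => by rw [(hn ψ).1]] at h1
  have h2 : ∑ ψ ∈ T, n ψ * n ψ = 3 := by
    simp only [IrrCharacter.one_apply] at h1
    have : (1 : ℤ) * 1 + ∑ ψ ∈ T, n ψ * n ψ = 2 * (1 + 1) := by exact_mod_cast h1
    omega
  have hmem : ∀ ψ ∈ T, ψ ≠ IrrCharacter.one G ∧ ψ ∈ principalBlock M G := fun ψ hψ => by
    simpa [hT] using hψ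
  have h3 : ∀ ψ ∈ T, n ψ = 1 ∨ n ψ = -1 := fun ψ hψ => by
    have a1 : n ψ * n ψ ≤ 3 := h2 ▸ Finset.single_le_sum (f := fun ψ => n ψ * n ψ)
      (fun _ _ => mul_self_nonneg _) hψ
    have a2 : n ψ ≠ 0 := fun e => h.irr_apply_ne_zero hM hP hi hm hJ (hmem ψ hψ).2 (by
      rw [(hn ψ).1, e, Int.cast_zero])
    have a3 : n ψ < 2 := by nlinarith
    have a4 : -2 < n ψ := by nlinarith
    omega
  have h4 : T.card = 3 := by
    rw [Finset.sum_congr rfl (g := fun _ => 1) fun ψ hψ => by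
      rcases h3 ψ hψ with e | e <;> simp [e]] at h2
    rw [Finset.sum_const, nsmul_one] at h2
    exact_mod_cast h2
  obtain ⟨a, b, c, hab, hac, hbc, e⟩ := Finset.card_eq_three.1 h4
  have h5 : ∀ i, ![a, b, c] i ∈ T := fun i => by fin_cases i <;> simp [e]
  refine ⟨![a, b, c], fun i => n (![a, b, c] i), fun i => (hmem _ (h5 i)).1,
    fun i => (hmem _ (h5 i)).2, fun i => h3 _ (h5 i), fun i => (hn _).1, fun F => ?_⟩
  rw [hF, e, Finset.sum_insert (by simp [hab, hac]), Finset.sum_pair hbc]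
  simp [add_assoc]

theorem card_le_of_two_eigen [IsSimpleGroup G] (hna : ¬ IsMulCommutative G) {χ : IrrCharacter G}
    (h1 : χ ≠ IrrCharacter.one G) {K : Subgroup G} (ho : Odd (Nat.card K)) (f : K →* ℂˣ)
    (hf : ∀ x : K, χ x = 2 * (f x + (f x : ℂ)⁻¹)) : Nat.card K < 7 := by
  by_contra h7
  have hfa := IrrCharacter.faithful_of_isSimpleGroup h1
  have hinj : Function.Injective ((Units.coeHom ℂ).comp f) := by
    rw [injective_iff_map_eq_one]
    intro x hx
    change (f x : ℂ) = 1 at hx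
    refine Subtype.ext (hfa _ ?_)
    have := hf 1
    rw [OneMemClass.coe_one] at this
    rw [hf, this, hx, map_one, Units.val_one]
  haveI := isCyclic_of_injective_ringHom _ hinj
  obtain ⟨g, hg⟩ := IsCyclic.exists_generator (α := K)
  set k := Nat.card K with hk
  have hk0 : k ≠ 0 := by omega
  haveI : NeZero k := ⟨hk0⟩
  have hζ : IsPrimitiveRoot (f g : ℂ) k := by
    have := IsPrimitiveRoot.orderOf (((Units.coeHom ℂ).comp f) g)
    rwa [orderOf_injective _ hinj, orderOf_eq_card_of_forall_mem_zpowers hg] at this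
  have hω := Complex.isPrimitiveRoot_exp k hk0
  obtain ⟨j, -, hj⟩ := hζ.eq_pow_of_pow_eq_one hω.pow_eq_one
  obtain ⟨m, hm⟩ := ho
  set x : K := g ^ (j * (m + 1)) with hx
  set α : ℂ := ((f x : ℂˣ) : ℂ) with hα
  have hα2 : α ^ 2 = Complex.exp (2 * Real.pi * Complex.I / k) := by
    rw [← hj, hα, hx, map_pow, Units.val_pow_eq_pow_val, ← pow_mul,
      show j * (m + 1) * 2 = k * j + j by rw [hm]; ring, pow_add, pow_mul, hζ.pow_eq_one, one_pow,
      one_mul]
  have hx1 : (x : G) ≠ 1 := fun e => by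
    have e1 : x = 1 := Subtype.ext e
    rw [hα, e1, map_one, Units.val_one, one_pow] at hα2
    exact hω.ne_one (by omega) hα2.symm
  have hαo : α ^ orderOf (x : G) = 1 := by
    rw [orderOf_coe, hα, ← Units.val_pow_eq_pow_val, ← map_pow, pow_orderOf_eq_one, map_one,
      Units.val_one]
  have hn : ‖α‖ = 1 := Complex.norm_eq_one_of_pow_eq_one hαo (orderOf_pos _).ne'
  have hα0 : α ≠ 0 := Units.ne_zero _
  have hd : ‖α⁻¹ - α‖ < 1 := by
    have e1 : α⁻¹ - α = -α⁻¹ * (α ^ 2 - 1) := by field_simp; ring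
    have e2 : 2 * Real.pi * Complex.I / k = Complex.I * ((2 * Real.pi / k : ℝ) : ℂ) := by
      push_cast
      ring
    rw [e1, norm_mul, norm_neg, norm_inv, hn, inv_one, one_mul, hα2, e2]
    refine Real.norm_exp_I_mul_ofReal_sub_one_le.trans_lt ?_
    have a1 : (7 : ℝ) ≤ k := by exact_mod_cast not_lt.1 h7
    have a2 := Real.pi_lt_d2
    have a3 := Real.pi_pos
    rw [Real.norm_of_nonneg (by positivity), div_lt_one (by linarith)]
    linarith
  have hc := χ.mem_center_of_sixty hfa (s := x) (ι := Fin 4) (ε := ![α, α, α⁻¹, α⁻¹])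
    ((IsSimpleGroup.eq_bot_or_eq_top_of_normal _ inferInstance).resolve_left fun e =>
      hx1 (mem_bot.1 (e ▸ subset_normalClosure (Set.mem_singleton _))))
    (fun i => by
      have := hαo
      rw [orderOf_coe] at this
      fin_cases i <;> simp [this]) (fun r => by
      rw [← coe_pow, hf, map_pow, Units.val_pow_eq_pow_val, ← hα]
      simp [Fin.sum_univ_four]
      ring) 0 (fun i => by fin_cases i <;> simp [hd])
  rw [center_eq_bot_of_isSimpleGroup hna] at hc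
  exact hx1 hc

theorem card_eq_of_charDegree_four [IsSimpleGroup G] (hna : ¬ IsMulCommutative G)
    (h4 : (Nat.card G).factorization 2 = 2) (χ : IrrCharacter G) (hχ : charDegree χ.1 = 4) :
    Nat.card G = 60 ∨ Nat.card G = 660 ∨ Nat.card G = 1092 ∨ Nat.card G = 3420 ∨
      Nat.card G = 4620 := by
  obtain ⟨P⟩ : Nonempty (Sylow 2 G) := inferInstance
  have hP : Nat.card P = 4 := by rw [P.card_eq_multiplicity, h4]; rfl
  have h4d : 4 ∣ Nat.card G := hP ▸ card_subgroup_dvd_card _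
  have hn := not_hasNormalPComplement_of_isSimpleGroup hna (p := 2) (Dvd.dvd.trans (by norm_num) h4d)
  obtain ⟨⟨J, hJ⟩, hJ2⟩ := exists_prime_orderOf_dvd_card' (G := (P : Subgroup G)) 2
    (by rw [hP]; norm_num)
  rw [orderOf_mk] at hJ2
  obtain ⟨hexp, -⟩ := klein_of_not_hasNormalPComplement P hP hn hJ hJ2
  obtain ⟨τ, h⟩ := exists_isDihPair_of_card_four hP hexp hJ hJ2
  have hm := mem_zpowers J
  have hχ1 : χ ≠ IrrCharacter.one G := by
    rintro rfl
    have := (IrrCharacter.one G).apply_one_eq_one_iff.1 rfl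
    omega
  have h0 : 2 ^ (Nat.card G).factorization 2 ∣ charDegree χ.1 := by rw [h4, hχ]; rfl
  have hreg : ∀ y, IsPRegular 2 y → Commute y J → Commute y τ → y = 1 := fun y hy h1 h2 => by
    have := χ.mem_charCenter_of_defect_zero h0 P.isPGroup' (hP.trans hχ.symm) hy fun a ha => by
      by_cases ha' : a ∈ zpowers J
      · obtain ⟨k, rfl⟩ := ha'
        exact h1.zpow_right k
      · obtain ⟨_, ⟨k, rfl⟩, rfl⟩ := h.exists_eq_mul ha ha'
        exact (h1.zpow_right k).mul_right h2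
    rwa [IrrCharacter.charCenter_eq_bot_of_isSimpleGroup hna hχ1] at this
  have hCP : Nat.card (centralizer ((P : Subgroup G) : Set G)) = 4 := by
    haveI : IsMulCommutative (P : Subgroup G) :=
      IsPGroup.isMulCommutative_of_card_eq_prime_sq (p := 2) hP
    rw [P.is_maximal' (fun g => ?_) (le_centralizer _), hP]
    have hg : ∀ a ∈ (P : Subgroup G), Commute (pPrimePart 2 (g : G)) a := fun a ha =>
      ((commute_iff_commute_pPart 2).1 (g.2 a ha)).2.symm
    have h1 := hreg _ (isPRegular_pPrimePart 2 _) (hg J hJ) (hg τ h.mem_τ)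
    obtain ⟨k, hk⟩ := isPElt_iff_pow_eq_one.1 (pPrimePart_eq_one_iff.1 h1)
    exact ⟨k, Subtype.ext hk⟩
  set C := centralizer ({J} : Set G) with hC
  have hCn : HasNormalPComplement 2 C := h.hasNormalPComplement P.isPGroup' P.not_dvd_index hm hJ2
  set K := (pPrimeCore 2 C).map C.subtype with hK
  have hKc : Nat.card K = Nat.card (pPrimeCore 2 C) := card_subtype _ _
  have hKo : Odd (Nat.card K) := by
    rw [hKc]
    exact Nat.not_even_iff_odd.1 (mt even_iff_two_dvd.1 (not_dvd_card_pPrimeCore 2 C))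
  have hCc : Nat.card C = 4 * Nat.card K := by
    have h1 := h.factorization_centralizer_J P.isPGroup' P.not_dvd_index hm hJ2
    rw [hJ2] at h1
    rw [← (pPrimeCore 2 C).card_mul_index, hCn.index_pPrimeCore, hKc, mul_comm]
    exact congrArg (· * _) h1
  have hτC : τ ∈ C := h.le_centralizer hm hJ2 h.mem_τ
  have hτJ : Commute τ J := (mem_centralizer_singleton_iff.1 hτC)
  have hKJ : ∀ x ∈ K, Commute x J := by
    rintro _ ⟨x, -, rfl⟩
    exact mem_centralizer_singleton_iff.1 x.2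
  have hKr : ∀ x ∈ K, IsPRegular 2 x := fun x hx =>
    isPRegular_of_mem_of_not_dvd hKo.not_two_dvd_nat hx
  have hinv : ∀ x ∈ K, τ * x * τ⁻¹ = x⁻¹ := by
    rintro _ ⟨x, hx, rfl⟩
    let φ : MulAut (pPrimeCore 2 C) := MulAut.conjNormal (⟨τ, hτC⟩ : C)
    have h1 : MonoidHom.FixedPointFree φ := fun y hy => by
      have e1 : τ * (y : C) * τ⁻¹ = (y : C) := congrArg (fun z : pPrimeCore 2 C => ((z : C) : G)) hy
      have hy' : ((y : C) : G) ∈ K := ⟨y, y.2, rfl⟩
      exact Subtype.ext (Subtype.ext (hreg _ (hKr _ hy') (hKJ _ hy')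
        (mul_inv_eq_iff_eq_mul.1 e1).symm))
    have h2 : Function.Involutive φ := fun y => Subtype.ext (Subtype.ext (by
      change τ * (τ * _ * τ⁻¹) * τ⁻¹ = _
      rw [h.inv_eq, ← mul_assoc, ← mul_assoc, h.mul_self, one_mul, mul_assoc, h.mul_self, mul_one]))
    exact congrArg (fun z : pPrimeCore 2 C => ((z : C) : G))
      (congrFun (h1.coe_eq_inv_of_involutive h2) ⟨x, hx⟩)
  have hk7 : Nat.card K < 7 := by
    have hv : ∀ x ∈ K, χ (x * J) = 0 := fun x hx => by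
      refine χ.eq_zero_of_defect_zero 2 h0 ?_
      by_contra hn
      have e2 := pPart_mul_eq (hKJ x hx).symm (isPElt_two_of_orderOf hJ2) (hKr x hx)
      rw [(hKJ x hx).symm.eq, pPart_eq_one_iff.2 hn] at e2
      simp [← e2] at hJ2
    obtain ⟨f, hf, hf'⟩ := χ.isCharacter.exists_half hJ2 hτJ hKJ hKo hinv (n := 2) (by
      have := hv 1 (one_mem _)
      rw [one_mul] at this
      rw [this, χ.isCharacter.apply_one, hχ]
      norm_num)
    refine card_le_of_two_eigen hna hχ1 hKo (f 0) fun x => ?_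
    have e1 := hf x
    have e2 := hf' x
    rw [hv _ x.2, add_zero, Fin.sum_univ_two] at e1
    rw [Fin.prod_univ_two] at e2
    rw [e1, eq_inv_of_mul_eq_one_right e2]
  obtain ⟨M, hM⟩ := exists_isPModular Nat.prime_two
  obtain ⟨ψ, ε, h1, hB, hε, hv, hF⟩ := exists_principal_klein hM h P.isPGroup' P.not_dvd_index hJ2
  have hJ1 : J ≠ 1 := by rintro rfl; simp at hJ2
  set y : Fin 3 → ℤ := fun i => ε i * charDegree (ψ i).1 with hy
  have habs : ∀ i, |y i| = charDegree (ψ i).1 := fun i => by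
    rcases hε i with e | e <;> simp [hy, e]
  have hl : ∀ i, 1 < |y i| := fun i => by
    rw [habs]
    exact_mod_cast IrrCharacter.one_lt_charDegree_of_isSimpleGroup hna (h1 i)
  have hy0 : ∀ i, (y i : ℂ) ≠ 0 := fun i e => by
    have := hl i
    rw [Int.cast_eq_zero.1 e] at this
    simp at this
  have hs : 1 + y 0 + y 1 + y 2 = 0 := by
    have := h.finsum_mul hM P.isPGroup' P.not_dvd_index hm hJ2 (one_mem _) hm hJ1
    rw [hF, if_neg hJ1.symm, if_neg (by simpa using hJ1)] at this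
    simp only [IrrCharacter.one_apply, hv, (ψ _).isCharacter.apply_one] at this
    have h2 : ((1 + y 0 + y 1 + y 2 : ℤ) : ℂ) = 0 := by
      simp only [hy]
      push_cast
      linear_combination this
    exact_mod_cast h2
  have ho : ∀ i, Odd (y i) := fun i => by
    obtain ⟨n, e1, e2, -⟩ := (ψ i).isCharacter.exists_int_of_sq_eq_one
      (hJ2 ▸ pow_orderOf_eq_one J)
    rw [hv, Int.cast_inj] at e1
    rw [← e1, Int.ModEq] at e2
    rw [← odd_abs, habs, Int.odd_iff]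
    rcases hε i with e | e <;> omega
  have hd : ∀ i, y i ∣ Nat.card G := fun i => by
    rw [← abs_dvd, habs]
    exact_mod_cast (ψ i).charDegree_dvd_card
  have hsq : ∀ i, y i ^ 2 ≤ Nat.card G := fun i => by
    rw [← sq_abs, habs]
    exact_mod_cast (ψ i).sq_charDegree_le_index.trans (Nat.le_of_dvd Nat.card_pos
      (index_dvd_card _))
  have he : Nat.card G * ((y 0 + 1) * (y 1 + 1) * (y 2 + 1)) =
      32 * (Nat.card K : ℤ) ^ 3 * y 0 * y 1 * y 2 := by
    have h2 := Agent.S4479.count hM P hP hn hJ hJ2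
    have h3 : ∀ i, ψ i J ^ 3 / ψ i 1 = (y i : ℂ)⁻¹ := fun i => by
      rw [hv, (ψ i).isCharacter.apply_one]
      rcases hε i with e | e <;> simp [hy, e]
      ring
    rw [hF, hCP, ← hC, hCc] at h2
    simp only [h3, IrrCharacter.one_apply] at h2
    have h5 : ((1 + y 0 + y 1 + y 2 : ℤ) : ℂ) = 0 := by exact_mod_cast hs
    have h6 : ((Nat.card G * ((y 0 + 1) * (y 1 + 1) * (y 2 + 1)) : ℤ) : ℂ) =
        ((32 * (Nat.card K : ℤ) ^ 3 * y 0 * y 1 * y 2 : ℤ) : ℂ) := by
      have a0 := hy0 0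
      have a1 := hy0 1
      have a2 := hy0 2
      push_cast at h2 h5 ⊢
      field_simp at h2
      linear_combination (Nat.card G : ℂ) * h5 + h2
    exact_mod_cast h6
  have hk : Nat.card K = 1 ∨ Nat.card K = 3 ∨ Nat.card K = 5 := by
    obtain ⟨m, hm⟩ := hKo
    omega
  refine (klein_arith hk hs (ho 0) (ho 1) (hl 0) (hl 1) (hl 2) (hd 0) (hd 1) (hd 2) (hsq 0) (hsq 1)
    h4d he).resolve_right fun ⟨hk1, h3⟩ => hk1 ?_
  obtain ⟨i, hi⟩ : ∃ i, y i = -3 := by rcases h3 with e | e | e <;> exact ⟨_, e⟩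
  have hd3 : charDegree (ψ i).1 = 3 := by
    have := habs i
    rw [hi] at this
    change (3 : ℤ) = _ at this
    omega
  have hε3 : ε i = -1 := by
    simp only [hy, hd3] at hi
    omega
  obtain ⟨f, hf, hf'⟩ := (ψ i).isCharacter.exists_half hJ2 hτJ hKJ hKo hinv (n := 1) (by
    rw [hv, (ψ i).isCharacter.apply_one, hd3, hε3]
    norm_num)
  rw [card_eq_one, eq_bot_iff]
  intro x hx
  refine IrrCharacter.faithful_of_isSimpleGroup (h1 i) x ?_
  have e1 := hf ⟨x, hx⟩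
  have e2 := hf' ⟨x, hx⟩
  rw [Fin.prod_univ_one] at e2
  rw [Fin.sum_univ_one, e2, (hKJ x hx).eq, irr_apply_mul_of_isPRegular hM
    (isPElt_two_of_orderOf hJ2) hCn (hB i) (hKr x hx) (hKJ x hx).symm, hv, hε3] at e1
  rw [(ψ i).isCharacter.apply_one, hd3]
  push_cast at e1 ⊢
  linear_combination e1

end Cfsg
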