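import Cfsg.Agent.Mod.SmallDim
import Cfsg.Agent.Mod.Brauer
import Cfsg.Agent.Char.CliffordBasic
import Cfsg.Agent.Char.Abelian
import Cfsg.Agent.Char.Ker
import Cfsg.Agent.Char.Central
import Cfsg.Agent.Grp.Zass
import Cfsg.Agent.Grp.Coprime

/-!
# Brauer's theorems on faithful characters of degree at most `(p - 1) / 2`
-/

set_option autoImplicit false

namespace Cfsg

open Subgroup

universe u v

variable {G : Type u} [Group G] [Finite G] {p : ℕ} [hp : Fact p.Prime]

omit [Finite G] in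
theorem mem_zpowers_of_isPElt_of_mem_normalizer {x y : G} (hx : orderOf x = p)
    (hsq : ¬ p ^ 2 ∣ Nat.card G) (hy : IsPElt p y)
    (hn : y ∈ normalizer ((zpowers x : Subgroup G) : Set G)) : y ∈ zpowers x := by
  have hPg : IsPGroup p (zpowers x) :=
    IsPGroup.of_card (by rw [Nat.card_zpowers, hx]; exact (pow_one p).symm)
  have hPi : ¬ p ∣ (zpowers x).index := fun h => hsq (by
    rw [← (zpowers x).card_mul_index, Nat.card_zpowers, hx, sq]
    exact Nat.mul_dvd_mul_left p h)
  have h := (isPElt_iff_isPGroup_zpowers.mp hy).inf_normalizer_sylow (hPg.toSylow hPi)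
  have h1 : y ∈ zpowers y ⊓ normalizer ((hPg.toSylow hPi : Subgroup G) : Set G) :=
    ⟨mem_zpowers y, hn⟩
  exact (h ▸ h1).2

theorem normal_zpowers_of_le_normalizer {x : G} (hx : orderOf x = p)
    (hsq : ¬ p ^ 2 ∣ Nat.card G) {U : Subgroup G} [hU : U.Normal] (hxU : x ∈ U)
    (hn : U ≤ normalizer ((zpowers x : Subgroup G) : Set G)) : (zpowers x).Normal := by
  rw [← normalizer_eq_top_iff, eq_top_iff]
  intro g _
  refine mem_normalizer_zpowers_of_conj_mem (mem_zpowers_of_isPElt_of_mem_normalizer hx hsq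
    (isPElt_conj_iff.mpr (isPElt_iff_pow_eq_one.mpr ⟨1, ?_⟩)) (hn (hU.conj_mem x hxU g)))
  rw [pow_one, ← hx, pow_orderOf_eq_one]

theorem IsCharacter.exists_dickson {χ : G → ℂ} (hχ : IsCharacter G χ)
    (hf : ∀ g, χ g = χ 1 → g = 1) (hd : 2 * charDegree χ + 1 ≤ p) {x : G} (hx : orderOf x = p)
    (hsq : ¬ p ^ 2 ∣ Nat.card G) (hnn : ¬ (zpowers x).Normal) :
    5 ≤ p ∧ ∃ (K : Subgroup G) (_ : K.Normal), SelfCent p (x : G ⧸ K) ∧
      (normalizer ((zpowers (x : G ⧸ K) : Subgroup (G ⧸ K)) : Set (G ⧸ K))).index = p + 1 ∧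
      p - 1 ≤ 2 * (zpowers (x : G ⧸ K)).relIndex
        (normalizer ((zpowers (x : G ⧸ K) : Subgroup (G ⧸ K)) : Set (G ⧸ K))) := by
  obtain ⟨M, hM⟩ := exists_isPModular hp.out
  haveI := hM.charP
  obtain ⟨φ, hφ, hφx⟩ : ∃ φ : IBr p M G, decNum χ φ ≠ 0 ∧ φ.rep x ≠ 1 := by
    by_contra h
    push Not at h
    set L := normalClosure ({x} : Set G)
    have hxL : x ∈ L := subset_normalClosure rfl
    have h1 : ∀ g ∈ L, IsPElt p g := by
      intro g hg
      rw [← pPrimePart_eq_one_iff]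
      refine hf _ ?_
      rw [hχ.apply_eq_sum_decNum hM (isPRegular_pPrimePart p g),
        hχ.apply_eq_sum_decNum hM isPRegular_one]
      refine Finset.sum_congr rfl fun φ _ => ?_
      by_cases hφ : decNum χ φ = 0
      · simp [hφ]
      have h2 : L ≤ φ.rep.ker := normalClosure_le_normal (by rintro _ rfl; exact h φ hφ)
      have h3 : φ.rep (pPrimePart p g) = 1 := h2 (pPrimePart_mem p hg)
      congr 1
      rw [← φ.brauerChar_rep, brauerChar_of_reg _ (isPRegular_pPrimePart p g),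
        brauerChar_of_reg _ isPRegular_one, h3, map_one]
    have h2 : IsPGroup p L := isPGroup_iff_forall_isPElt.mpr h1
    have h3 : zpowers x = L := by
      obtain ⟨n, hn⟩ := h2.exists_card_eq
      have hn1 : n ≤ 1 := by
        by_contra hk2
        exact hsq (((pow_dvd_pow p (by omega)).trans hn.symm.dvd).trans (card_subgroup_dvd_card _))
      refine eq_of_le_of_card_ge (zpowers_le.mpr hxL) ?_
      rw [hn, Nat.card_zpowers, hx]
      calc p ^ n ≤ p ^ 1 := Nat.pow_le_pow_right hp.out.pos hn1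
        _ = p := pow_one p
    exact hnn (h3 ▸ inferInstance)
  refine dickson_of_small_dim hx hsq φ.rep φ.rep_isIrreducible ?_ hφx
  have h1 : φ.deg ≤ charDegree χ := by
    rw [hχ.charDegree_eq_sum_decNum hM]
    exact (Nat.le_mul_of_pos_left _ (Nat.pos_of_ne_zero hφ)).trans
      (Finset.single_le_sum (f := fun φ : IBr p M G => decNum χ φ * φ.deg)
        (fun _ _ => Nat.zero_le _) (Finset.mem_univ φ))
  rw [Module.finrank_fin_fun]
  omega

theorem normalizer_zpowers_quot {x : G} (hx : orderOf x = p) (hsq : ¬ p ^ 2 ∣ Nat.card G)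
    {K : Subgroup G} [K.Normal] (hx' : orderOf (x : G ⧸ K) = p) :
    ¬ p ∣ Nat.card K ∧ normalizer ((zpowers (x : G ⧸ K) : Subgroup (G ⧸ K)) : Set (G ⧸ K)) =
      (normalizer ((zpowers x : Subgroup G) : Set G)).map (QuotientGroup.mk' K) := by
  have hK : ¬ p ∣ Nat.card K := fun h => hsq (by
    rw [card_eq_card_quotient_mul_card_subgroup K, sq]
    exact Nat.mul_dvd_mul (hx' ▸ orderOf_dvd_natCard _) h)
  refine ⟨hK, ?_⟩
  rw [← (isCoprimeAction_zpowers (N := K) (a := x) (le_normalizer_of_normal (mem_top x)) (by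
    rw [hx]; exact ((Nat.Prime.coprime_iff_not_dvd hp.out).mpr hK).symm)).normalizer_map_mk',
    MonoidHom.map_zpowers]
  rfl

theorem SelfCent.relIndex_quot_dvd {x : G} (hx : orderOf x = p) (hsq : ¬ p ^ 2 ∣ Nat.card G)
    {K : Subgroup G} [K.Normal] (hS : SelfCent p (x : G ⧸ K)) :
    (zpowers (x : G ⧸ K)).relIndex
        (normalizer ((zpowers (x : G ⧸ K) : Subgroup (G ⧸ K)) : Set (G ⧸ K))) ∣
      (centralizer {x}).relIndex (normalizer ((zpowers x : Subgroup G) : Set G)) := by
  rw [(normalizer_zpowers_quot hx hsq hS.order).2, ← relIndex_comap]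
  refine relIndex_dvd_of_le_left _ fun c hc => ?_
  rw [mem_comap, ← hS.cent, mem_centralizer_singleton_iff]
  exact congrArg (QuotientGroup.mk' K) (mem_centralizer_singleton_iff.mp hc)

theorem IsCharacter.sub_one_le_two_mul_relIndex {χ : G → ℂ} (hχ : IsCharacter G χ)
    (hf : ∀ g, χ g = χ 1 → g = 1) (hd : 2 * charDegree χ + 1 ≤ p) {x : G} (hx : orderOf x = p)
    (hsq : ¬ p ^ 2 ∣ Nat.card G) {U : Subgroup G} (hxU : x ∈ U)
    (hnn : ¬ U ≤ normalizer ((zpowers x : Subgroup G) : Set G)) :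
    p - 1 ≤ 2 * (centralizer {x}).relIndex (normalizer ((zpowers x : Subgroup G) : Set G) ⊓ U) := by
  have hx' : orderOf (⟨x, hxU⟩ : U) = p := by rw [← orderOf_coe, hx]
  have hsq' : ¬ p ^ 2 ∣ Nat.card U := fun h => hsq (h.trans (card_subgroup_dvd_card U))
  have hz : zpowers (⟨x, hxU⟩ : U) = (zpowers x).subgroupOf U := by
    ext y
    rw [mem_subgroupOf, ← mem_map_iff_mem U.subtype_injective, MonoidHom.map_zpowers]
    rfl
  have hN : normalizer ((zpowers (⟨x, hxU⟩ : U) : Subgroup U) : Set U) =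
      (normalizer ((zpowers x : Subgroup G) : Set G)).subgroupOf U := by
    rw [hz, subgroupOf_normalizer_eq (zpowers_le.mpr hxU)]
  obtain ⟨-, K, _, hS, -, h1⟩ := (hχ.comp U.subtype).exists_dickson
    (fun g hg => Subtype.ext (hf _ hg)) hd hx' hsq' fun h => hnn (by
      rw [← normalizer_eq_top_iff, hN, subgroupOf_eq_top] at h
      exact h)
  have h2 := Nat.le_of_dvd (relIndex_pos _ _)
    (hS.relIndex_quot_dvd hx' hsq')
  conv_rhs at h2 => rw [hN, centralizer_singleton_subgroupOf, ← inf_subgroupOf_right (normalizer _),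
    relIndex_subgroupOf inf_le_right]
  exact h1.trans (Nat.mul_le_mul_left 2 h2)

theorem IsCharacter.relIndex_le_charDegree {χ : G → ℂ} (hχ : IsCharacter G χ) {x : G}
    (hx : orderOf x = p) (hx1 : χ x ≠ χ 1) :
    (centralizer {x}).relIndex (normalizer ((zpowers x : Subgroup G) : Set G)) ≤ charDegree χ := by
  set P := zpowers x
  set N := normalizer (P : Set G)
  have hPN : P ≤ N := le_normalizer
  obtain ⟨θ, hθ, hθx⟩ : ∃ θ : IrrCharacter P, ip (χ ∘ P.subtype) θ.1 ≠ 0 ∧
      (⟨x, mem_zpowers x⟩ : P) ∉ charKer θ.1 := by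
    by_contra h
    push Not at h
    exact hx1 ((hχ.comp P.subtype).mem_charKer.mp
      ((hχ.comp P.subtype).mem_charKer_iff_forall.mpr h))
  obtain ⟨ψ, h1, h2⟩ := LiesOver.exists_mid (f := P.subtype) (i := N.subtype)
    (j := inclusion hPN) (fun _ => rfl) hχ hθ
  have h3 := Nat.le_of_dvd ψ.charDegree_pos h2.index_inertia_dvd
  refine le_trans (Nat.le_of_dvd (index_pos _) (index_dvd_of_le fun g hg => ?_))
    (h3.trans (h1.charDegree_le hχ))
  have hk : charKer θ.1 = ⊥ := by
    haveI : Fact (Nat.card P).Prime := ⟨by rw [Nat.card_zpowers, hx]; exact hp.out⟩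
    exact (eq_bot_or_eq_top_of_prime_card _).resolve_right fun h => hθx (h ▸ mem_top _)
  have h4 : (g : G) * x * (g : G)⁻¹ ∈ P := (mem_normalizer_iff.mp g.2 x).mp (mem_zpowers x)
  have h5 := mem_inertia_iff_forall.mp hg ⟨x, mem_zpowers x⟩ ⟨_, h4⟩ (Subtype.ext rfl)
  have h6 := θ.apply_one_eq_one_of_isMulCommutative
  have h7 : (⟨_, h4⟩ : P) * (⟨x, mem_zpowers x⟩ : P)⁻¹ ∈ charKer θ.1 := by
    rw [θ.mem_charKer, θ.isCharacter.map_mul_of_apply_one h6, θ.isCharacter.map_inv_of_apply_one h6,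
      h5, h6, mul_inv_cancel₀ (θ.isCharacter.ne_zero_of_apply_one h6 _)]
  rw [hk, mem_bot, mul_inv_eq_one] at h7
  rw [mem_subgroupOf, mem_centralizer_singleton_iff]
  exact mul_inv_eq_iff_eq_mul.mp (congrArg Subtype.val h7)

/-- Brauer's bound for the degree of a faithful character. -/
theorem IsCharacter.le_two_mul_charDegree_add_one {χ : G → ℂ} (hχ : IsCharacter G χ)
    (hf : ∀ g, χ g = χ 1 → g = 1) {x : G} (hx : orderOf x = p) (hsq : ¬ p ^ 2 ∣ Nat.card G)
    (hnn : ¬ (zpowers x).Normal) : p ≤ 2 * charDegree χ + 1 := by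
  by_contra h
  have h1 := hχ.sub_one_le_two_mul_relIndex hf (by omega) hx hsq (mem_top x)
    fun h => hnn (normalizer_eq_top_iff.mp (top_le_iff.mp h))
  have h2 := hχ.relIndex_le_charDegree hx fun h =>
    hp.out.one_lt.ne' (by rw [← hx, hf x h, orderOf_one])
  rw [inf_top_eq] at h1
  omega

/-- Brauer's characterization of `PSL(2, p)`. -/
theorem IsCharacter.nonempty_quotient_center_equiv_psl {χ : G → ℂ} (hχ : IsCharacter G χ)
    (hf : ∀ g, χ g = χ 1 → g = 1) {x : G} (hx : orderOf x = p) (hsq : ¬ p ^ 2 ∣ Nat.card G)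
    (hnn : ¬ (zpowers x).Normal) (hd : 2 * charDegree χ + 1 = p) :
    5 ≤ p ∧
      Nonempty (G ⧸ center G ≃* Matrix.ProjectiveSpecialLinearGroup (Fin 2) (ZMod p)) := by
  obtain ⟨hp5, K, _, hS, hD, h1⟩ := hχ.exists_dickson hf hd.le hx hsq hnn
  refine ⟨hp5, ?_⟩
  obtain ⟨hK, hNN⟩ := normalizer_zpowers_quot hx hsq hS.order
  have hx1 : x ≠ 1 := fun h => hp.out.one_lt.ne' (by rw [← hx, h, orderOf_one])
  have h2 := hχ.relIndex_le_charDegree hx fun h => hx1 (hf x h)
  have h3 := Nat.le_of_dvd (relIndex_pos _ _)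
    (hS.relIndex_quot_dvd hx hsq)
  set P := zpowers x with hP
  set N := normalizer (P : Set G) with hN
  set C := centralizer ({x} : Set G) with hC
  set P' := zpowers (x : G ⧸ K) with hP'
  set N' := normalizer (P' : Set (G ⧸ K)) with hN'
  set e := charDegree χ with he
  have he' : P'.relIndex N' = e := by omega
  have hPK : P ⊓ K = ⊥ := inf_eq_bot_of_isPGroup_of_not_dvd
    (IsPGroup.of_card (by rw [Nat.card_zpowers, hx]; exact (pow_one p).symm)) hK
  have hKC : ∀ k ∈ K, k ∈ N → k ∈ C := fun k hk hkN => by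
    have h4 : k * x * k⁻¹ * x⁻¹ ∈ P ⊓ K :=
      ⟨P.mul_mem ((mem_normalizer_iff.mp hkN x).mp (mem_zpowers x)) (P.inv_mem (mem_zpowers x)), by
        rw [mul_assoc, mul_assoc, ← mul_assoc x]
        exact K.mul_mem hk (Normal.conj_mem inferInstance _ (K.inv_mem hk) x)⟩
    rw [hPK, mem_bot, mul_inv_eq_one, mul_inv_eq_iff_eq_mul] at h4
    exact mem_centralizer_singleton_iff.mpr h4
  have hPC : P ≤ C := zpowers_le.mpr (mem_centralizer_singleton_iff.mpr rfl)
  have hKN : K ⊔ P ≤ N := by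
    by_contra h
    have h4 := hχ.sub_one_le_two_mul_relIndex hf hd.le hx hsq (mem_sup_right (mem_zpowers x)) h
    rw [relIndex_eq_one.mpr] at h4
    · omega
    · rintro n ⟨hn, hn'⟩
      obtain ⟨k, hk, y, hy, rfl⟩ := mem_sup_of_normal_left.mp hn'
      exact C.mul_mem (hKC k hk ((N.mul_mem_cancel_right (le_normalizer hy)).mp hn)) (hPC hy)
  set L := normalClosure ({x} : Set G) with hL
  have hxL : x ∈ L := subset_normalClosure rfl
  have hLK : L ≤ centralizer (K : Set G) := normalClosure_le_normal (by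
    rintro _ rfl k hk
    exact mem_centralizer_singleton_iff.mp (hKC k hk (hKN (mem_sup_left hk))))
  have hirr : IsIrrCharacter L (χ ∘ L.subtype) := by
    have hχL := hχ.comp L.subtype
    obtain ⟨ψ, hψ, hψn⟩ : ∃ ψ : IrrCharacter L, ip (χ ∘ L.subtype) ψ.1 ≠ 0 ∧
        ¬ (zpowers ((⟨x, hxL⟩ : L) : L ⧸ charKer ψ.1)).Normal := by
      by_contra h
      push Not at h
      refine hnn (normal_zpowers_of_le_normalizer hx hsq hxL fun g hg => ?_)
      refine mem_normalizer_zpowers_of_conj_mem (mem_zpowers_of_isPElt_of_mem_normalizer hx hsq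
        (isPElt_conj_iff.mpr (isPElt_iff_pow_eq_one.mpr ⟨1, ?_⟩)) ?_)
      · rw [pow_one, ← hx, pow_orderOf_eq_one]
      set x' : L := ⟨x, hxL⟩
      set g' : L := ⟨g, hg⟩
      have h4 : (g' * x' * g'⁻¹) * x' * (g' * x' * g'⁻¹)⁻¹ * x'⁻¹ ∈ charKer (χ ∘ L.subtype) := by
        refine hχL.mem_charKer_iff_forall.mpr fun ψ hψ => ?_
        obtain ⟨n, hn⟩ := mem_zpowers_iff.mp ((h ψ hψ).conj_mem _ (mem_zpowers _) g')
        rw [← QuotientGroup.eq_one_iff]
        simp only [QuotientGroup.mk_mul, QuotientGroup.mk_inv, ← hn]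
        group
      have h5 := hf _ (hχL.mem_charKer.mp h4)
      refine mem_normalizer_zpowers_of_conj_mem ?_
      have h6 : g * x * g⁻¹ * x * (g * x * g⁻¹)⁻¹ = x := mul_inv_eq_one.mp h5
      rw [h6]
      exact mem_zpowers x
    obtain ⟨ψ', h4, h5⟩ := ψ.exists_faithful_quotient
    have h6 : orderOf ((⟨x, hxL⟩ : L) : L ⧸ charKer ψ.1) = p := by
      have h7 : orderOf ((⟨x, hxL⟩ : L) : L ⧸ charKer ψ.1) ∣ p := by
        have h8 : orderOf (⟨x, hxL⟩ : L) = p := by rw [← orderOf_coe, hx]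
        exact h8 ▸ orderOf_map_dvd (QuotientGroup.mk' _) _
      refine ((Nat.dvd_prime hp.out).mp h7).resolve_left fun h => hψn ?_
      rw [orderOf_eq_one_iff.mp h, zpowers_one_eq_bot]
      infer_instance
    have h7 := ψ'.isCharacter.le_two_mul_charDegree_add_one
      (ψ'.isCharacter.charKer_eq_bot_iff.mp h5) h6
      (fun h => hsq ((h.trans (card_quotient_dvd_card _)).trans (card_subgroup_dvd_card L))) hψn
    have h8 : charDegree ψ'.1 = charDegree ψ.1 := (congrArg charDegree h4 :)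
    rw [hχL.eq_irr_of_charDegree_le ψ hψ (by change e ≤ _; omega)]
    exact ψ.2
  have hKZ : K = center G := by
    refine le_antisymm (fun k hk => ?_) fun z hz => ?_
    · refine hχ.charCenter_le_center_of_faithful (hχ.charKer_eq_bot_iff.mpr hf) ?_
      obtain ⟨n, ρ, rfl⟩ := hχ
      rw [mem_charCenter_character]
      exact rep_exists_eq_smul_of_commute (ρ.comp L.subtype)
        (rep_isIrreducible_of_isIrrCharacter hirr) _ fun g => by
          change ρ k * ρ g = ρ g * ρ k
          rw [← map_mul, ← map_mul, hLK g.2 k hk]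
    · by_contra hzK
      have h4 : (z : G ⧸ K) ∈ P' := by
        rw [hP', ← hS.cent, mem_centralizer_singleton_iff]
        exact congrArg (QuotientGroup.mk' K) (mem_center_iff.mp hz x).symm
      have h5 : zpowers (z : G ⧸ K) = P' :=
        (eq_bot_or_eq_of_prime_card hS.prime_card (zpowers_le.mpr h4)).resolve_left
          fun h => hzK ((QuotientGroup.eq_one_iff z).mp (zpowers_eq_bot.mp h))
      have h6 : N' = ⊤ := by
        rw [hN', ← h5, eq_top_iff]
        intro g _
        obtain ⟨g, rfl⟩ := QuotientGroup.mk_surjective g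
        refine mem_normalizer_zpowers_of_conj_mem ?_
        rw [← QuotientGroup.mk_mul, mem_center_iff.mp hz g, QuotientGroup.mk_mul,
          mul_inv_cancel_right]
        exact mem_zpowers _
      rw [h6, index_top] at hD
      omega
  have hSyl : Nat.card (Sylow p (G ⧸ K)) = p + 1 := by
    rw [hS.sylow.card_eq_index_normalizer]; exact hD
  have hperf : commutator (G ⧸ K) = ⊤ := by
    set U := (commutator (G ⧸ K)).comap (QuotientGroup.mk' K) with hU
    have h4 : P' ≤ commutator (G ⧸ K) := hS.le_commutator_of_ne fun h => by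
      rw [← hP', ← hN'] at h
      rw [h, relIndex_self] at he'
      omega
    have hxU : x ∈ U := h4 (mem_zpowers _)
    have h5 := hχ.sub_one_le_two_mul_relIndex hf hd.le hx hsq hxU
      fun h => hnn (normal_zpowers_of_le_normalizer hx hsq hxU h)
    have h6 : C ≤ N ⊓ U := le_inf (fun c hc => mem_normalizer_zpowers_of_conj_mem (by
      rw [mem_centralizer_singleton_iff.mp hc, mul_inv_cancel_right]; exact mem_zpowers x))
      fun c hc => h4 (by
        rw [hP', ← hS.cent, mem_centralizer_singleton_iff]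
        exact congrArg (QuotientGroup.mk' K) (mem_centralizer_singleton_iff.mp hc))
    have h7 := relIndex_mul_relIndex C (N ⊓ U) N h6 inf_le_left
    have h8 : (N ⊓ U).relIndex N = 1 := by
      by_contra h
      have h9 : 2 ≤ (N ⊓ U).relIndex N := by
        have : (N ⊓ U).relIndex N ≠ 0 := index_ne_zero_of_finite
        omega
      rw [← hP, ← hN, ← hC] at h5
      have := Nat.mul_le_mul_left (C.relIndex (N ⊓ U)) h9
      omega
    rw [eq_top_iff, ← hS.normalizer_sup_eq_top h4, ← hP', ← hN', hNN]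
    exact sup_le (map_le_iff_le_comap.mpr ((relIndex_eq_one.mp h8).trans inf_le_right)) le_rfl
  obtain ⟨φ⟩ := nonempty_quotient_equiv_psl hS.sylow hS.card_zpowers (e := e) (by omega) hSyl ⊥
    (fun g => ⟨fun h Q => by rw [mem_bot.mp h, one_smul], fun h => by
      set K' := (MulAction.toPermHom (G ⧸ K) (Sylow p (G ⧸ K))).ker
      have h4 : ∀ g, g ∈ K' ↔ ∀ Q : Sylow p (G ⧸ K), g • Q = Q := fun g => by
        simp [K', Equiv.ext_iff]
      have h5 : ¬ p ∣ Nat.card K' := fun h => by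
        have h6 := (h4 _).mp (hS.le_of_dvd h (mem_zpowers _))
        haveI : Subsingleton (Sylow p (G ⧸ K)) := ⟨fun Q Q' =>
          (Sylow.eq_of_smul_eq_of_card hS.sylow hS.card_zpowers (mem_zpowers _) hS.ne_one
            (h6 Q)).trans (Sylow.eq_of_smul_eq_of_card hS.sylow hS.card_zpowers (mem_zpowers _)
            hS.ne_one (h6 Q')).symm⟩
        have := Finite.card_le_one_iff_subsingleton.mpr this
        omega
      rw [← hS.inf_normalizer_eq_bot h5 le_normalizer_of_normal]
      exact ⟨(h4 g).mpr h, Sylow.smul_eq_iff_mem_normalizer.mp (h hS.sylow)⟩⟩)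
    (by rw [index_bot, ← N'.index_mul_card, hD, mul_assoc, ← he', relIndex,
      ← (P'.subgroupOf N').card_mul_index,
      Nat.card_congr (subgroupOfEquivOfLe le_normalizer).toEquiv, hS.card_zpowers])
    (by rw [hperf, top_sup_eq])
  exact ⟨((QuotientGroup.quotientMulEquivOfEq hKZ.symm).trans
    QuotientGroup.quotientBot.symm).trans φ⟩

end Cfsg
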