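import Cfsg.Agent.Char.Except

/-!
# Fourier coefficients on a cyclic `2`-group
-/

set_option autoImplicit false
set_option linter.unusedSectionVars false
set_option linter.style.haveILetI false

namespace Cfsg.Exc

open scoped ComplexConjugate Classical

variable {A : Type*} [Group A] [Fintype A] {ι : Type*} [Fintype ι] {x : A} {n r : ℕ}

theorem gram_pow {D : ι → A → ℂ} {lam mu : A →* ℂˣ} (hl : lam ≠ 1) (hm : mu ≠ 1) (hm' : mu ^ r ≠ 1)
    (h : ∀ u v, lam u ≠ 1 → mu v ≠ 1 → ∑ χ, D χ u * conj (D χ v) =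
      Nat.card A * ((if v = u then 1 else 0) + if v = u ^ r then 1 else 0)) :
    ∑ χ, coef (D χ) lam * conj (coef (D χ) mu) =
      2 + (if mu = lam then 1 else 0) + if mu ^ r = lam then 1 else 0 := by
  have hA0 : (Nat.card A : ℂ) ≠ 0 := by exact_mod_cast Nat.card_pos.ne'
  have h1 : ∀ χ, coef (D χ) lam * conj (coef (D χ) mu) = (Nat.card A : ℂ)⁻¹ * (Nat.card A : ℂ)⁻¹ *
      ∑ u : A, ∑ v : A, (D χ u * conj (D χ v)) *
        ((conj ((lam u : ℂˣ) : ℂ) - 1) * (((mu v : ℂˣ) : ℂ) - 1)) := by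
    intro χ
    simp only [coef, map_mul, map_sum, map_sub, map_one, map_inv₀, Complex.conj_natCast,
      Complex.conj_conj]
    rw [mul_mul_mul_comm, Finset.sum_mul_sum]
    congr 1
    exact Finset.sum_congr rfl fun u _ => Finset.sum_congr rfl fun v _ => by ring
  have h2 : ∀ u v : A, (∑ χ, D χ u * conj (D χ v)) *
      ((conj ((lam u : ℂˣ) : ℂ) - 1) * (((mu v : ℂˣ) : ℂ) - 1)) =
      Nat.card A * (((if v = u then 1 else 0) + if v = u ^ r then 1 else 0) *
        ((conj ((lam u : ℂˣ) : ℂ) - 1) * (((mu v : ℂˣ) : ℂ) - 1))) := fun u v => by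
    by_cases hu : lam u = 1
    · simp [hu]
    by_cases hv : mu v = 1
    · simp [hv]
    rw [h u v hu hv, mul_assoc]
  have h3 : ∀ nu : A →* ℂˣ, nu ≠ 1 → ∑ u : A, (conj ((lam u : ℂˣ) : ℂ) - 1) * (((nu u : ℂˣ) : ℂ) - 1) =
      Nat.card A * (1 + if nu = lam then 1 else 0) := fun nu hne => by
    have e1 := sum_mul_conj lam nu
    have e2 := sum_mul_conj lam 1
    have e3 := sum_mul_conj 1 nu
    simp only [MonoidHom.one_apply, Units.val_one, map_one, mul_one, one_mul, hne, hl.symm,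
      if_false] at e1 e2 e3
    have : ∀ u : A, (conj ((lam u : ℂˣ) : ℂ) - 1) * (((nu u : ℂˣ) : ℂ) - 1) =
        ((nu u : ℂˣ) : ℂ) * conj ((lam u : ℂˣ) : ℂ) - conj ((lam u : ℂˣ) : ℂ) -
          ((nu u : ℂˣ) : ℂ) + 1 := fun u => by ring
    simp only [this, Finset.sum_add_distrib, Finset.sum_sub_distrib, e1, e2, e3]
    split_ifs <;> simp; ring
  simp only [h1, ← Finset.mul_sum]
  rw [Finset.sum_comm]
  simp only [fun u => Finset.sum_comm (s := Finset.univ) (t := Finset.univ) (f := fun χ v =>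
    (D χ u * conj (D χ v)) * ((conj ((lam u : ℂˣ) : ℂ) - 1) * (((mu v : ℂˣ) : ℂ) - 1))),
    ← Finset.sum_mul, h2, ← Finset.mul_sum, add_mul, ite_mul, one_mul, zero_mul,
    Finset.sum_add_distrib, Finset.sum_ite_eq', Finset.mem_univ, if_true, map_pow,
    ← MonoidHom.pow_apply, h3 mu hm, h3 _ hm']
  field_simp
  ring

theorem exists_int_coef {F : A → ℂ} (hF : IsGeneralizedCharacter A F) (lam : A →* ℂˣ) :
    ∃ N : ℤ, coef F lam = N := by
  obtain ⟨a, ha⟩ := hF.exists_ip_eq_int (isCharacter_linear lam).isGen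
  obtain ⟨b, hb⟩ := hF.exists_ip_eq_int IsCharacter.one.isGen
  refine ⟨a - b, ?_⟩
  rw [Int.cast_sub, ← ha, ← hb, ip_def, ip_def, coef, ← mul_sub, ← Finset.sum_sub_distrib]
  simp [mul_sub]

theorem coef_pow {F : A → ℂ} (hr : ∀ u : A, (u ^ r) ^ r = u) (hF : ∀ u, F (u ^ r) = F u)
    (lam : A →* ℂˣ) : coef F (lam ^ r) = coef F lam := by
  rw [coef, coef, ← Equiv.sum_comp (Function.Involutive.toPerm _ hr)]
  congr 1
  refine Finset.sum_congr rfl fun u _ => ?_
  change F (u ^ r) * (conj ((lam (u ^ r) ^ r : ℂˣ) : ℂ) - 1) = _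
  rw [hF, ← map_pow, hr]

section cyc

variable (hx : ∀ a, a ∈ Subgroup.zpowers x)
include hx

theorem comm_of_gen (a b : A) : a * b = b * a := by
  obtain ⟨k, rfl⟩ := Subgroup.mem_zpowers_iff.1 (hx a)
  obtain ⟨l, rfl⟩ := Subgroup.mem_zpowers_iff.1 (hx b)
  exact (Commute.zpow_zpow_self x k l).eq

theorem linear_ext {lam mu : A →* ℂˣ} (h : lam x = mu x) : lam = mu := MonoidHom.ext fun a => by
  obtain ⟨k, rfl⟩ := Subgroup.mem_zpowers_iff.1 (hx a)
  rw [map_zpow, map_zpow, h]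

omit hx in
theorem units_mul_self {a : ℂˣ} (h : a * a = 1) : a = 1 ∨ a = -1 :=
  (mul_self_eq_one_iff.1 (by simpa using congrArg Units.val h : (a : ℂ) * a = 1)).imp Units.ext
    Units.ext

theorem mul_self_iff {s : A →* ℂˣ} (hs : s x = -1) {lam : A →* ℂˣ} :
    lam * lam = 1 ↔ lam = 1 ∨ lam = s := by
  constructor
  · exact fun h => (units_mul_self (DFunLike.congr_fun h x)).imp (linear_ext hx)
      fun e => linear_ext hx (e.trans hs.symm)
  · rintro (rfl | rfl)
    exacts [linear_ext hx (by simp), linear_ext hx (by simp [hs])]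

theorem exists_sgn (ho : Nat.card A = 2 ^ (n + 1)) : ∃ s : A →* ℂˣ, s x = -1 := by
  haveI : Fact (Nat.Prime 2) := ⟨Nat.prime_two⟩
  obtain ⟨s, hs⟩ := exists_prime_orderOf_dvd_card' (G := A →* ℂˣ) 2 (by
    rw [card_linear_of_comm (comm_of_gen hx), ho]; exact dvd_pow_self 2 n.succ_ne_zero)
  have : s * s = 1 := (sq s).symm.trans (hs ▸ pow_orderOf_eq_one s)
  refine ⟨s, (units_mul_self (DFunLike.congr_fun this x)).resolve_left fun e => ?_⟩
  simp [linear_ext hx (mu := 1) e] at hs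

omit hx in
theorem sgn_ne_one {s : A →* ℂˣ} (hs : s x = -1) : s ≠ 1 := fun e => by
  have := congrArg Units.val (e ▸ hs)
  norm_num at this

theorem im_eq_zero_iff {lam : A →* ℂˣ} : (lam x : ℂ).im = 0 ↔ lam * lam = 1 := by
  rw [← Complex.conj_eq_iff_im, linear_conj_apply, inv_eq_iff_eq_inv, ← mul_eq_one_iff_eq_inv₀ (lam x).ne_zero]
  exact ⟨fun h => linear_ext hx (Units.ext h), fun h => congrArg Units.val (DFunLike.congr_fun h x)⟩

theorem sum_dual_eq [Fintype (A →* ℂˣ)] {s : A →* ℂˣ} (hs : s x = -1) {R : Type*}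
    [AddCommMonoid R] (F : (A →* ℂˣ) → R) : ∑ lam, F lam =
      F 1 + F s + ∑ j : {lam : A →* ℂˣ // 0 < (lam x : ℂ).im}, (F j + F j.1⁻¹) := by
  have key : ∀ lam : A →* ℂˣ, ((lam⁻¹ x : ℂˣ) : ℂ).im = -(lam x : ℂ).im := fun lam => by
    rw [MonoidHom.inv_apply, Units.val_inv_eq_inv_val, ← linear_conj_apply, Complex.conj_im]
  rw [← Finset.sum_filter_add_sum_filter_not _ fun lam : A →* ℂˣ => (lam x : ℂ).im = 0,
    ← Finset.sum_pair (sgn_ne_one hs).symm, ← Finset.sum_filter_add_sum_filter_not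
      (Finset.univ.filter fun lam : A →* ℂˣ => ¬ (lam x : ℂ).im = 0)
      fun lam : A →* ℂˣ => 0 < (lam x : ℂ).im, Finset.sum_add_distrib]
  congr 2
  · ext lam
    simp [im_eq_zero_iff hx, mul_self_iff hx hs]
  · exact Finset.sum_subtype _ (fun lam => by simpa using ne_of_gt) F
  · rw [← Finset.sum_subtype (Finset.univ.filter fun lam : A →* ℂˣ => 0 < (lam x : ℂ).im)
      (by simp) fun lam => F lam⁻¹]
    refine Finset.sum_equiv (Equiv.inv _) (fun lam => ?_) fun lam _ => by simp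
    simp only [Finset.mem_filter, Finset.mem_univ, true_and, Equiv.inv_apply, key]
    constructor
    · rintro ⟨h1, h2⟩
      rcases lt_trichotomy (lam x : ℂ).im 0 with h | h | h
      exacts [by linarith, absurd h h1, absurd h h2]
    · exact fun h => ⟨by linarith [h] |> fun (e : (lam x : ℂ).im < 0) => e.ne, by linarith⟩

theorem card_pos_im (ho : Nat.card A = 2 ^ (n + 1)) :
    Nat.card {lam : A →* ℂˣ // 0 < (lam x : ℂ).im} + 1 = 2 ^ n := by
  letI := Fintype.ofFinite (A →* ℂˣ)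
  obtain ⟨s, hs⟩ := exists_sgn hx ho
  have := sum_dual_eq hx hs fun _ => (1 : ℕ)
  simp only [Finset.sum_const, Finset.card_univ, smul_eq_mul, ← Nat.card_eq_fintype_card,
    card_linear_of_comm (comm_of_gen hx), ho] at this
  omega

theorem even_sum_sub [Fintype (A →* ℂˣ)] (ho : Nat.card A = 2 ^ (n + 1)) {s : A →* ℂˣ}
    (hs : s x = -1) (hr : r % 4 = 3) (hr' : ∀ u : A, (u ^ r) ^ r = u) {N : (A →* ℂˣ) → ℤ}
    (h : ∀ lam, N (lam ^ r) = N lam) : Even (∑ lam, N lam - N 1 - N s) := by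
  rw [← Finset.sum_filter_add_sum_filter_not _ fun lam : A →* ℂˣ => lam * lam = 1,
    show Finset.univ.filter (fun lam : A →* ℂˣ => lam * lam = 1) = {1, s} by
      ext lam; simp [mul_self_iff hx hs], Finset.sum_pair (sgn_ne_one hs).symm, sub_sub,
    add_sub_cancel_left, ← ZMod.intCast_eq_zero_iff_even, Int.cast_sum]
  obtain ⟨t, ht, e⟩ : ∃ t, t % 2 = 1 ∧ r = 2 * t + 1 := ⟨r / 2, by omega⟩
  have key : ∀ lam : A →* ℂˣ, lam ^ r = lam → lam * lam = 1 := fun lam h1 => by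
    have h2 : lam x ^ r = lam x := DFunLike.congr_fun h1 x
    rw [e, pow_succ, mul_eq_right, ← orderOf_dvd_iff_pow_eq_one] at h2
    obtain ⟨k, -, hk⟩ := (Nat.dvd_prime_pow Nat.prime_two).1
      (ho ▸ (orderOf_map_dvd lam x).trans (orderOf_dvd_natCard x))
    refine linear_ext hx (show lam x * lam x = 1 from ?_)
    rw [← sq, ← orderOf_dvd_iff_pow_eq_one]
    exact Nat.Coprime.dvd_of_dvd_mul_right (hk ▸ Nat.Coprime.pow_left _ (by
      rw [Nat.coprime_two_left, Nat.odd_iff]; exact ht)) h2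
  have key2 : ∀ lam : A →* ℂˣ, (lam ^ r) ^ r = lam := fun lam => MonoidHom.ext fun u => by
    rw [MonoidHom.pow_apply, MonoidHom.pow_apply, ← map_pow, ← map_pow, hr']
  refine Finset.sum_involution (fun lam _ => lam ^ r) (fun lam _ => by
    rw [h, CharTwo.add_self_eq_zero]) (fun lam hl _ e => (Finset.mem_filter.1 hl).2 (key lam e))
    (fun lam hl => Finset.mem_filter.2 ⟨Finset.mem_univ _, fun e => (Finset.mem_filter.1 hl).2 ?_⟩)
    fun lam _ => key2 lam
  have h3 : lam x ^ r * lam x ^ r = 1 := DFunLike.congr_fun e x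
  refine linear_ext hx (show lam x * lam x = 1 from ?_)
  rw [← hr' x, map_pow, map_pow, ← mul_pow, h3, one_pow]

end cyc

end Cfsg.Exc
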