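import Cfsg.Agent.Char.GlaubInv
import Cfsg.Agent.Char.PPrimeDeg
import Cfsg.Agent.Char.Degrees
import Cfsg.Agent.Char.Extend
import Cfsg.Agent.GA.Conj
import Cfsg.Agent.Grp.PSolvable
import Cfsg.Agent.Grp.Misc

/-!
# Groups whose characters of `p'`-degree have `q'`-degree (after Navarro–Wolf)
-/

set_option autoImplicit false
set_option linter.unusedSectionVars false
set_option linter.unusedVariables false
set_option linter.style.haveILetI false

namespace Cfsg

open Subgroup GA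

universe u v

variable {p q : ℕ} [Fact p.Prime] [Fact q.Prime] {G : Type u} [Group G] [Finite G]

local notation "C(" Q ")" => Subgroup.centralizer (SetLike.coe Q)
local notation "N(" Q ")" => Subgroup.normalizer (SetLike.coe Q)

theorem isSolvable_sup_of_le_normalizer {H K : Subgroup G} [Group.IsSolvable H]
    [Group.IsSolvable K] (h : H ≤ N(K)) : Group.IsSolvable (H ⊔ K : Subgroup G) := by
  haveI : (K.subgroupOf (H ⊔ K)).Normal :=
    normal_subgroupOf_of_le_normalizer (sup_le h le_normalizer)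
  haveI := isSolvable_of_equiv (subgroupOfEquivOfLe (le_sup_left : H ≤ H ⊔ K)).symm
  haveI := isSolvable_of_equiv (subgroupOfEquivOfLe (le_sup_right : K ≤ H ⊔ K)).symm
  haveI := isSolvable_quotient_of_sup_eq_top (subgroupOf_sup_subgroupOf_eq_top' (N := K) (H := H))
  exact isSolvable_of_normal_of_quotient (K.subgroupOf (H ⊔ K))

theorem GA.IsSylowIn.map_hom {G' : Type v} [Group G'] {D L : Subgroup G} (h : IsSylowIn p D L)
    (f : G →* G') : IsSylowIn p (D.map f) (L.map f) := by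
  obtain ⟨S, rfl⟩ := isSylowIn_iff.1 h
  refine isSylowIn_iff.2 ⟨S.mapSurjective (f.subgroupMap_surjective L), ?_⟩
  rw [Sylow.coe_mapSurjective, map_map, map_map]
  rfl

theorem card_irr_le_inertia {K S : Subgroup G} [K.Normal] [Group.IsSolvable S]
    (hc : (Nat.card K).Coprime (Nat.card S)) :
    Nat.card {θ : IrrCharacter K // S ≤ inertia K.subtype θ} =
      Nat.card (ConjClasses (K ⊓ C(S) : Subgroup G)) := by
  rw [← card_irr_eq_card_conjClasses, ← card_invariant_irr_of_isSolvable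
    ((conjAut K.subtype).comp S.subtype) hc (inclusion_injective inf_le_left) fun g => ?_]
  · exact Nat.card_congr (Equiv.subtypeEquivRight fun θ =>
      ⟨fun h s => h s.2, fun h s hs => h ⟨s, hs⟩⟩)
  · rw [inclusion_range, mem_subgroupOf]
    refine ⟨fun h s => (conjAut_eq_iff _).2 ?_, fun h => ⟨g.2, fun s hs => ?_⟩⟩
    · rw [coe_subtype, coe_subtype, h.2 s s.2, mul_inv_cancel_right]
    · have := (conjAut_eq_iff K.subtype (g := s) (n := g) (n' := g)).1 (h ⟨s, hs⟩)
      exact (eq_mul_inv_iff_mul_eq.1 this).symm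

theorem inf_centralizer_le_of_forall_inertia {K A S : Subgroup G} [K.Normal] [Group.IsSolvable S]
    (hAS : A ≤ S) (hc : (Nat.card K).Coprime (Nat.card S))
    (h : ∀ θ : IrrCharacter K, A ≤ inertia K.subtype θ → S ≤ inertia K.subtype θ) :
    K ⊓ C(A) ≤ C(S) := by
  haveI := isSolvable_of_le hAS
  have hle : K ⊓ C(S) ≤ K ⊓ C(A) := inf_le_inf_left _ (centralizer_anti hAS)
  have e : Nat.card (ConjClasses (K ⊓ C(A) : Subgroup G)) =
      Nat.card (ConjClasses (K ⊓ C(S) : Subgroup G)) := by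
    rw [← card_irr_le_inertia hc, ← card_irr_le_inertia (hc.coprime_dvd_right (card_dvd_of_le hAS))]
    exact Nat.card_congr (Equiv.subtypeEquivRight fun θ => ⟨h θ, hAS.trans⟩)
  have hco : IsCoprimeAction S K := ⟨le_normalizer_of_normal, hc, Or.inr inferInstance⟩
  have hinj : Function.Injective (ConjClasses.map (inclusion hle)) := by
    intro a b hab
    obtain ⟨x, rfl⟩ := ConjClasses.mk_surjective a
    obtain ⟨y, rfl⟩ := ConjClasses.mk_surjective b
    obtain ⟨n, hn⟩ := isConj_iff.1 (ConjClasses.mk_eq_mk_iff_isConj.1 hab)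
    have hn' : (n : G) * x * (n : G)⁻¹ = y := congrArg Subtype.val hn
    obtain ⟨c, hc, e⟩ := hco.exists_centralizer_conj_eq x.2.2 n.2.1 (hn' ▸ y.2.2)
    exact ConjClasses.mk_eq_mk_iff_isConj.2 (isConj_iff.2 ⟨⟨c, hc⟩, Subtype.ext (e.trans hn')⟩)
  have hsurj := (hinj.bijective_of_nat_card_le e.le).2
  have : (K ⊓ C(S)).subgroupOf (K ⊓ C(A)) = ⊤ := by
    refine eq_top_of_forall_exists_conj_mem fun g => ?_
    obtain ⟨a, ha⟩ := hsurj (ConjClasses.mk g)
    obtain ⟨x, rfl⟩ := ConjClasses.mk_surjective a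
    obtain ⟨n, hn⟩ := isConj_iff.1 (ConjClasses.mk_eq_mk_iff_isConj.1 ha).symm
    exact ⟨n, by rw [hn]; exact x.2⟩
  exact (subgroupOf_eq_top.1 this).trans inf_le_right

theorem le_inertia_inflate_subgroupMap {G' : Type v} [Group G'] [Finite G'] (f : G →* G')
    {A L : Subgroup G} [L.Normal] [(L.map f).Normal] {β : IrrCharacter (L.map f)}
    (h : A.map f ≤ inertia (L.map f).subtype β) :
    A ≤ inertia L.subtype (β.inflate _ (f.subgroupMap_surjective L)) := by
  intro a ha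
  refine mem_inertia_iff_forall.2 fun n n' e => ?_
  refine mem_inertia_iff_forall.1 (h (mem_map_of_mem f ha)) _ _ ?_
  change f n' = f a * f n * (f a)⁻¹
  rw [← map_mul, ← map_inv, ← map_mul]
  exact congrArg f e

theorem exists_invariant_isSylowIn_le {A L T : Subgroup G} [L.Normal] (hA : IsPGroup p A)
    (hL : ¬ p ∣ Nat.card L) (hAT : A ≤ T) (hT : ¬ q ∣ T.relIndex L) :
    ∃ Q, IsSylowIn q Q L ∧ A ≤ N(Q) ∧ Q ≤ T := by
  obtain ⟨Q, h1, h2, h3, h4⟩ := (isCoprimeAction_of_isPGroup_left (N := T ⊓ L)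
    (le_normalizer_inf (hAT.trans le_normalizer) le_normalizer_of_normal) hA
    fun h => hL (h.trans (card_dvd_of_le inf_le_right))).exists_invariant_sylow q
  refine ⟨Q, isSylowIn_of_not_dvd (h1.trans inf_le_right) h2 ?_, h4, h1.trans inf_le_left⟩
  rw [← relIndex_mul_relIndex Q (T ⊓ L) L h1 inf_le_right, inf_relIndex_right]
  exact fun h => ((Fact.out : q.Prime).dvd_mul.1 h).elim h3 hT

/-- If the `A`-invariant characters of `L` have `q'`-degree, there is only one `A`-invariant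
Sylow `q`-subgroup. -/
theorem invariant_isSylowIn_unique (hpq : p ≠ q) (G : Type u) [Group G] [Finite G] :
    ∀ (A L : Subgroup G) [L.Normal], IsPGroup p A → ¬ p ∣ Nat.card L → IsPSolvable q L →
      (∀ θ : IrrCharacter L, A ≤ inertia L.subtype θ → ¬ q ∣ charDegree θ.1) →
      ∀ Q₁ Q₂, IsSylowIn q Q₁ L → A ≤ N(Q₁) → IsSylowIn q Q₂ L → A ≤ N(Q₂) → Q₁ = Q₂ := by
  refine card_induction (P := fun G _ _ => ∀ (A L : Subgroup G) [L.Normal], IsPGroup p A →
    ¬ p ∣ Nat.card L → IsPSolvable q L →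
      (∀ θ : IrrCharacter L, A ≤ inertia L.subtype θ → ¬ q ∣ charDegree θ.1) →
      ∀ Q₁ Q₂, IsSylowIn q Q₁ L → A ≤ N(Q₁) → IsSylowIn q Q₂ L → A ≤ N(Q₂) → Q₁ = Q₂)
    (fun G _ _ ih A L _ hA hL hs h => ?_) G
  by_cases h0 : L = ⊥
  · intro Q₁ Q₂ h1 _ h2 _
    exact (eq_bot_iff.2 (h0 ▸ h1.le)).trans (eq_bot_iff.2 (h0 ▸ h2.le)).symm
  obtain ⟨K, hK, hKL⟩ := exists_isMinNormal_le L h0
  haveI := hK.normal
  have hπ := QuotientGroup.mk'_surjective K
  haveI : (L.map (QuotientGroup.mk' K)).Normal := Normal.map inferInstance _ hπ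
  have key : ∀ Q₁ Q₂, IsSylowIn q Q₁ L → A ≤ N(Q₁) → IsSylowIn q Q₂ L → A ≤ N(Q₂) →
      Q₁ ⊔ K = Q₂ ⊔ K := by
    intro Q₁ Q₂ h1 h2 h3 h4
    rw [← comap_map_mk'_eq_sup, ← comap_map_mk'_eq_sup]
    congr 1
    refine ih (G ⧸ K) (card_quotient_lt hK.ne_bot) (A.map (QuotientGroup.mk' K))
      (L.map (QuotientGroup.mk' K)) (hA.map _) (fun h => hL (h.trans (card_map_dvd _ _)))
      (hs.map _) (fun β hβ => ?_) _ _ (h1.map_hom _)
      ((map_mono h2).trans (le_normalizer_map _)) (h3.map_hom _)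
      ((map_mono h4).trans (le_normalizer_map _))
    rw [← β.charDegree_inflate _ ((QuotientGroup.mk' K).subgroupMap_surjective L)]
    exact h _ (le_inertia_inflate_subgroupMap _ hβ)
  intro Q₁ Q₂ h1 h2 h3 h4
  have e := key Q₁ Q₂ h1 h2 h3 h4
  rcases hK.isPGroup_or (hs.to_le hKL) with hq | hq
  · have : ∀ Q, IsSylowIn q Q L → K ≤ Q := fun Q hQ => by
      obtain ⟨g, -, hg⟩ := hQ.exists_cjS_le hq hKL
      rwa [cjS_of_normal] at hg
    rwa [sup_eq_left.2 (this _ h1), sup_eq_left.2 (this _ h3)] at e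
  have hKp : ¬ p ∣ Nat.card K := fun h => hL (h.trans (card_dvd_of_le hKL))
  haveI := isSolvable_of_isPGroup hA
  haveI := isSolvable_of_isPGroup h1.isPGroup
  haveI := isSolvable_sup_of_le_normalizer h2
  have h5 : K ⊓ C(A) ≤ C(A ⊔ Q₁) := by
    refine inf_centralizer_le_of_forall_inertia le_sup_left
      (((IsPGroup.coprime_card_of_not_dvd hA hKp).symm.mul_right
        (IsPGroup.coprime_card_of_not_dvd h1.isPGroup hq).symm).coprime_dvd_right
        (card_sup_dvd_of_le_normalizer h2)) fun θ hθ => sup_le hθ ?_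
    have hfac : ∀ k, L.subtype (inclusion hKL k) = K.subtype k := fun _ => rfl
    haveI : IsNormalEmb (inclusion hKL) := IsNormalEmb.of_factor L.subtype_injective hfac
    obtain ⟨χ, h6, h7⟩ := exists_invariant_liesOver_above_of_isSolvable (f := inclusion hKL)
      (φ := (conjAut L.subtype).comp A.subtype) (ψ := (conjAut K.subtype).comp A.subtype)
      (fun s n => Subtype.ext ((map_conjAut K.subtype s n).trans
        (map_conjAut L.subtype s (inclusion hKL n)).symm))
      (IsPGroup.coprime_card_of_not_dvd hA hL).symm (θ := θ) fun s => hθ s.2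
    have h8 := h6.index_inertia_dvd
    rw [inertia_of_factor hfac] at h8
    obtain ⟨Q₃, h9, h10, h11⟩ := exists_invariant_isSylowIn_le hA hL hθ
      fun h' => h χ (fun s hs => h7 ⟨s, hs⟩) (h'.trans h8)
    exact le_sup_left.trans ((key _ _ h1 h2 h9 h10).le.trans
      (sup_le h11 (le_inertia_subtype K θ)))
  have hU : Q₁ ⊔ K ≤ L := sup_le h1.le hKL
  obtain ⟨c, ⟨hc1, hc2⟩, e'⟩ := (isCoprimeAction_of_isPGroup_left
    (le_normalizer_sup h2 le_normalizer_of_normal) hA
    fun h => hL (h.trans (card_dvd_of_le hU))).exists_centralizer_map_conj_sylow le_sup_left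
    h1.isPGroup (h1.of_le le_sup_left hU).not_dvd_relIndex h2 (e ▸ le_sup_left) h3.isPGroup
    (h3.of_le (e ▸ le_sup_left) hU).not_dvd_relIndex h4
  rw [← e', eq_comm, map_conj_eq_iff]
  obtain ⟨x, hx, m, hm, rfl⟩ := mem_sup_of_normal_right.1 hc1
  refine mul_mem (le_normalizer hx) (centralizer_le_normalizer' _ (centralizer_anti le_sup_right
    (h5 ⟨hm, fun a ha => ?_⟩)))
  have h6 : a * m * a⁻¹ * m⁻¹ ∈ Q₁ ⊓ K := by
    refine mem_inf.2 ⟨?_, mul_mem (Normal.conj_mem inferInstance m hm a) (inv_mem hm)⟩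
    have : a * m * a⁻¹ * m⁻¹ = (a * x * a⁻¹)⁻¹ * (a * (x * m)) * a⁻¹ * m⁻¹ := by group
    rw [this, hc2 a ha]
    have : (a * x * a⁻¹)⁻¹ * (x * m * a) * a⁻¹ * m⁻¹ = (a * x * a⁻¹)⁻¹ * x := by group
    rw [this]
    exact mul_mem (inv_mem (Cfsg.conj_mem_of_mem_normalizer (h2 ha) hx)) hx
  rw [inf_eq_bot_of_isPGroup_of_not_dvd h1.isPGroup hq, mem_bot, mul_inv_eq_one,
    mul_inv_eq_iff_eq_mul] at h6
  exact h6

theorem exists_liesOver_not_dvd_of_sylow_le_inertia {L : Subgroup G} [L.Normal]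
    (hL : ¬ p ∣ Nat.card L) (P : Sylow p G) {θ : IrrCharacter L}
    (hθ : (P : Subgroup G) ≤ inertia L.subtype θ) :
    ∃ χ : IrrCharacter G, LiesOver L.subtype χ.1 θ.1 ∧ ¬ p ∣ charDegree χ.1 := by
  obtain ⟨H, hH⟩ : ∃ H, H = (P : Subgroup G) ⊔ L := ⟨_, rfl⟩
  have hLH : L ≤ H := hH ▸ le_sup_right
  have hfac : ∀ k, H.subtype (inclusion hLH k) = L.subtype k := fun _ => rfl
  haveI : IsNormalEmb (inclusion hLH) := IsNormalEmb.of_factor H.subtype_injective hfac
  obtain ⟨η, hη, -⟩ := exists_extension_of_coprime_card (f := inclusion hLH) (θ := θ)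
    (by rw [inertia_of_factor hfac]
        exact subgroupOf_eq_top.2 (hH ▸ sup_le hθ (le_inertia_subtype L θ)))
    (by rw [inclusion_range, ← relIndex, hH, relIndex_sup_right]
        exact ((IsPGroup.coprime_card_of_not_dvd P.2 hL).coprime_dvd_left
          (relIndex_dvd_card L _)).symm)
  obtain ⟨χ, h1, h2⟩ := IrrCharacter.exists_liesOver_above_not_dvd (Fact.out : p.Prime)
    H.subtype_injective (θ := η)
    (by rw [range_subtype]; exact not_dvd_index_of_sylow_le P (hH ▸ le_sup_left))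
    (by rw [charDegree_eq_of_comp_eq hη]; exact fun h => hL (h.trans θ.charDegree_dvd_card))
  exact ⟨χ, LiesOver.trans_of_eq hfac χ.isCharacter θ.isCharacter h1 (liesOver_of_comp_eq hη), h2⟩

theorem exists_monoidHom_ne_one_of_ne_top [Group.IsNilpotent G] {R : Subgroup G} (h : R ≠ ⊤) :
    ∃ μ : G →* ℂˣ, R ≤ μ.ker ∧ μ.ker ≠ ⊤ := by
  obtain ⟨W, hW, hRW⟩ := exists_isCoatom_ge h
  haveI := isNilpotent_iff_forall_coatom_normal.1 inferInstance W hW
  obtain ⟨g, -, hg⟩ := SetLike.exists_of_lt hW.lt_top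
  obtain ⟨ξ, h1, h2⟩ := exists_irr_le_charKer_not_mem W hg
  have h3 := ξ.commutator_le_charKer_iff.1
    ((commutator_le_frattini_of_isNilpotent.trans (frattini_le_coatom hW)).trans h1)
  obtain ⟨μ, hμ⟩ := ξ.isCharacter.exists_monoidHom h3
  have : ∀ x, x ∈ charKer ξ.1 ↔ x ∈ μ.ker := fun x => by
    rw [ξ.mem_charKer, h3, MonoidHom.mem_ker, ← Units.val_eq_one]
    exact Eq.congr_left (congrFun hμ x)
  exact ⟨μ, fun x hx => (this x).1 (h1 (hRW hx)), fun e => h2 ((this g).2 (e ▸ mem_top g))⟩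

/-- If the characters of `p'`-degree have `q'`-degree, then `O_{p'}(G)` contains the Sylow
`q`-subgroups. -/
theorem not_dvd_index_pPrimeCore_of_forall (hpq : p ≠ q) (G : Type u) [Group G] [Finite G] :
    IsPSolvable p G → IsPSolvable q G →
      (∀ χ : IrrCharacter G, ¬ p ∣ charDegree χ.1 → ¬ q ∣ charDegree χ.1) →
      ¬ q ∣ (pPrimeCore p G).index := by
  refine card_induction (P := fun G _ _ => IsPSolvable p G → IsPSolvable q G →
      (∀ χ : IrrCharacter G, ¬ p ∣ charDegree χ.1 → ¬ q ∣ charDegree χ.1) →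
      ¬ q ∣ (pPrimeCore p G).index) (fun G _ _ ih hp hq h => ?_) G
  have hq' : q.Prime := Fact.out
  have hquot : ∀ (K : Subgroup G) [K.Normal] (β : IrrCharacter (G ⧸ K)),
      ¬ p ∣ charDegree β.1 → ¬ q ∣ charDegree β.1 := fun K _ β => by
    rw [← β.charDegree_inflate _ (QuotientGroup.mk'_surjective K)]
    exact h _
  by_cases h0 : pPrimeCore p G ≠ ⊥
  · have := ih _ (card_quotient_lt h0) (hp.to_quotient _) (hq.to_quotient _) (hquot _)
    rwa [pPrimeCore_quotient_pPrimeCore, index_bot] at this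
  rw [not_not] at h0
  rw [h0, index_bot]
  rcases subsingleton_or_nontrivial G with hG | hG
  · rw [Nat.card_of_subsingleton (1 : G)]
    exact hq'.not_dvd_one
  obtain ⟨K, hK⟩ := exists_isMinNormal G
  haveI := hK.normal
  have hKp : IsPGroup p K := (hK.isPGroup_or (hp.to_subgroup K)).resolve_right fun h' =>
    hK.ne_bot (eq_bot_iff.2 (h0 ▸ le_pPrimeCore_of_not_dvd h'))
  haveI : IsMulCommutative K := (hK.isElementaryAbelian_of_isPGroup hKp).1
  have hKq : ¬ q ∣ Nat.card K := fun h' => by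
    obtain ⟨k, hk⟩ := IsPGroup.iff_card.1 hKp
    exact hpq ((Nat.prime_dvd_prime_iff_eq hq' Fact.out).1 (hq'.dvd_of_dvd_pow (hk ▸ h'))).symm
  have hπ := QuotientGroup.mk'_surjective K
  have h1 := ih _ (card_quotient_lt hK.ne_bot) (hp.to_quotient K) (hq.to_quotient K) (hquot K)
  obtain ⟨P⟩ : Nonempty (Sylow p G) := inferInstance
  have hKP : K ≤ P := (le_pCore hKp).trans (pCore_le_sylow P)
  obtain ⟨S, hS⟩ : ∃ S : Sylow p (G ⧸ K), (S : Subgroup (G ⧸ K)) =
    (P : Subgroup G).map (QuotientGroup.mk' K) := ⟨P.mapSurjective hπ, rfl⟩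
  obtain ⟨L, hL⟩ : ∃ L, L = pPrimeCore p (G ⧸ K) := ⟨_, rfl⟩
  haveI : L.Normal := hL ▸ inferInstance
  have hLp : ¬ p ∣ Nat.card L := hL ▸ not_dvd_card_pPrimeCore p _
  rw [← hL] at h1
  have huniq := invariant_isSylowIn_unique hpq (G ⧸ K) S L S.2 hLp
    ((hq.to_quotient K).to_subgroup L) fun θ hθ h' => by
      obtain ⟨χ, h2, h3⟩ := exists_liesOver_not_dvd_of_sylow_le_inertia hLp S hθ
      exact hquot K χ h3 (h'.trans h2.charDegree_dvd)
  obtain ⟨Q', hQ', hSQ', -⟩ := exists_invariant_isSylowIn_le (q := q) S.2 hLp le_top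
    (by rw [relIndex_top_left]; exact hq'.not_dvd_one)
  obtain ⟨U, hU⟩ : ∃ U, U = Q'.comap (QuotientGroup.mk' K) := ⟨_, rfl⟩
  have hKU : K ≤ U := hU ▸ le_comap_mk'_self K Q'
  have hPU : (P : Subgroup G) ≤ N(U) := by
    rw [hU]
    exact (map_le_iff_le_comap.1 (hS ▸ hSQ')).trans (le_normalizer_comap _)
  obtain ⟨Q, hQ⟩ := exists_isSylowIn q U
  have hQQ' : Q.map (QuotientGroup.mk' K) = Q' := by
    have := hQ.map_hom (QuotientGroup.mk' K)
    rw [hU, map_comap_eq_self_of_surjective hπ] at this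
    exact (this.maximal _ le_rfl hQ'.isPGroup this.le).symm
  have hQK : Q ⊔ K = U := by rw [← comap_map_mk'_eq_sup, hQQ', hU]
  have hco : IsCoprimeAction Q K :=
    isCoprimeAction_of_isPGroup_left le_normalizer_of_normal hQ.isPGroup hKq
  have hQC : Q ≤ C(K) := by
    by_contra hn
    have hR : N(Q).subgroupOf P ≠ ⊤ := fun e => hn (le_centralizer_of_normalizes_of_inf_eq_bot
      le_normalizer_of_normal (hKP.trans (subgroupOf_eq_top.1 e))
      (inf_eq_bot_of_isPGroup_of_not_dvd hQ.isPGroup hKq))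
    haveI := P.2.isNilpotent
    obtain ⟨μ, hμ1, hμ2⟩ := exists_monoidHom_ne_one_of_ne_top hR
    have hfac : ∀ k, (P : Subgroup G).subtype (inclusion hKP k) = K.subtype k := fun _ => rfl
    haveI : IsNormalEmb (inclusion hKP) := IsNormalEmb.of_factor (subtype_injective _) hfac
    obtain ⟨χ, h2, h3⟩ := IrrCharacter.exists_liesOver_above_not_dvd (Fact.out : p.Prime)
      (P : Subgroup G).subtype_injective (θ := ⟨_, isIrrCharacter_of_monoidHom μ⟩)
      (by rw [range_subtype]; exact P.not_dvd_index)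
      (by rw [charDegree_eq_of_apply_one (n := 1) (by simp)]
          exact (Fact.out : p.Prime).not_dvd_one)
    obtain ⟨lam, hlam⟩ : ∃ lam : IrrCharacter K,
        (fun g => (μ g : ℂ)) ∘ inclusion hKP = lam.1 :=
      ⟨⟨_, isIrrCharacter_of_monoidHom (μ.comp (inclusion hKP))⟩, rfl⟩
    have h4 := (LiesOver.trans_of_eq hfac χ.isCharacter lam.isCharacter h2
      (liesOver_of_comp_eq hlam)).index_inertia_dvd
    have h5 : (P : Subgroup G) ≤ inertia K.subtype lam := by
      rw [← subgroupOf_eq_top, subgroupOf, ← inertia_of_factor hfac]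
      exact inertia_eq_top_of_comp_eq (isIrrCharacter_of_monoidHom μ).isCharacter.isClassFunction hlam
    have h6 := le_inertia_subtype K lam
    obtain ⟨Q₃, h7, h8, h9⟩ := exists_invariant_isSylowIn_le (q := q)
      (T := (inertia K.subtype lam).map (QuotientGroup.mk' K)) S.2 hLp (hS ▸ map_mono h5)
      fun h' => h χ h3 (h'.trans ((relIndex_normal_dvd_index _ L).trans (by
        rwa [index_map_mk', sup_eq_left.2 h6])))
    have h10 : Q ≤ inertia K.subtype lam := by
      rw [huniq _ _ h7 h8 hQ' hSQ', ← hQQ', map_mk'_le_map_mk'_iff, sup_eq_left.2 h6] at h9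
      exact h9
    have h11 : K ≤ μ.ker.map (P : Subgroup G).subtype := by
      rw [← hco.inf_centralizer_sup_commutator]
      refine sup_le (fun x hx => ⟨⟨x, hKP hx.1⟩, hμ1 (centralizer_le_normalizer' Q hx.2), rfl⟩)
        (commutator_le.2 fun m hm y hy => ?_)
      have hm' : y * m⁻¹ * y⁻¹ ∈ K := Normal.conj_mem inferInstance _ (inv_mem hm) y
      refine ⟨⟨m, hKP hm⟩ * ⟨_, hKP hm'⟩, ?_, by simp [commutatorElement_def, mul_assoc]⟩
      have := mem_inertia_iff_forall.1 (h10 hy) ⟨m, hm⟩⁻¹ ⟨_, hm'⟩ rfl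
      rw [← hlam] at this
      have h12 : μ ⟨_, hKP hm'⟩ = μ ⟨m, hKP hm⟩⁻¹ := Units.ext this
      rw [SetLike.mem_coe, MonoidHom.mem_ker, map_mul, h12, ← map_mul, mul_inv_cancel, map_one]
    refine hμ2 (eq_top_iff.2 fun x _ => ?_)
    have h12 := hQ.cjS x
    rw [cjS_of_mem_normalizer (hPU x.2)] at h12
    obtain ⟨u, hu, e⟩ := hQ.exists_cjS_eq h12
    rw [← hQK, sup_comm] at hu
    obtain ⟨m, hm, y, hy, rfl⟩ := mem_sup_of_normal_left.1 hu
    rw [cjS_mul, cjS_of_mem hy, cjS_eq_iff, ← cjS_mul, eq_comm, cjS_eq_self_iff] at e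
    obtain ⟨m', hm', rfl⟩ := h11 hm
    have h13 : m'⁻¹ * x ∈ μ.ker := hμ1 e
    rwa [mul_mem_cancel_left (inv_mem hm')] at h13
  have h2 : HasNormalPComplement p (L.comap (QuotientGroup.mk' K) ⊓ C(K) : Subgroup G) := by
    let φ : (L.comap (QuotientGroup.mk' K) ⊓ C(K) : Subgroup G) →* L :=
      ((QuotientGroup.mk' K).comp (Subgroup.subtype _)).codRestrict _ fun x => x.2.1
    refine HasNormalPComplement.of_quotient_of_le_center (Z := φ.ker) (fun x hx => ?_)
      ((hasNormalPComplement_of_not_dvd hLp).of_injective _ (QuotientGroup.kerLift_injective φ))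
    have : (x : G) ∈ K := (QuotientGroup.eq_one_iff _).1 (congrArg Subtype.val hx)
    exact mem_center_iff.2 fun y => Subtype.ext (y.2.2 _ this).symm
  have h3 : Q ≤ pCore p G := (le_inf (hQ.le.trans (hU ▸ comap_mono hQ'.le)) hQC).trans
    (pPrimePCore_eq_pCore h0 ▸ le_pPrimePCore h2)
  have h4 : Q = ⊥ := IsPGroup.disjoint_of_ne q p hpq.symm _ _ hQ.isPGroup (isPGroup_pCore p G)
    le_rfl h3 |> eq_bot_iff.2
  have h5 := hQ'.not_dvd_relIndex
  rw [← hQQ', h4, Subgroup.map_bot, relIndex_bot_left] at h5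
  rw [← K.card_mul_index, index, ← L.card_mul_index]
  exact fun h' => (hq'.dvd_mul.1 h').elim hKq fun h' => (hq'.dvd_mul.1 h').elim h5 h1

end Cfsg
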