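import Cfsg.Agent.Char.Arith
import Cfsg.Agent.Char.Abelian
import Cfsg.Agent.Char.LiesOver
import Cfsg.Agent.Grp.Hall

/-!
# Blichfeldt's theorem

A linear group of degree `n` has an abelian Hall subgroup for the set of primes above `n + 1`.
-/

set_option autoImplicit false
set_option linter.unusedSectionVars false

namespace Cfsg

open scoped ComplexConjugate commutatorElement

universe u v w

variable {G : Type u} [Group G] [Finite G]

theorem IsCharacter.comp_faithful {H : Type v} [Group H] {χ : G → ℂ}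
    (hf : ∀ g : G, χ g = χ 1 → g = 1) {f : H →* G} (hi : Function.Injective f) (h : H)
    (hh : (χ ∘ f) h = (χ ∘ f) 1) : h = 1 :=
  hi (by rw [map_one]; exact hf _ (by simpa using hh))

/-- Elements commute when their commutator lies in the kernel of every constituent of a faithful
character. -/
theorem IsCharacter.eq_one_of_forall_constituent {χ : G → ℂ} (hχ : IsCharacter G χ)
    (hf : ∀ g : G, χ g = χ 1 → g = 1) {g : G}
    (h : ∀ ψ : IrrCharacter G, ip χ ψ.1 ≠ 0 → ψ g = ψ 1) : g = 1 :=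
  hf g (hχ.mem_charKer.1 (hχ.mem_charKer_iff_forall.2 fun ψ hψ => ψ.mem_charKer.2 (h ψ hψ)))

/-- A linear group all of whose prime divisors exceed the degree is abelian. -/
theorem IsCharacter.comm_of_forall_prime_gt {χ : G → ℂ} (hχ : IsCharacter G χ)
    (hf : ∀ g : G, χ g = χ 1 → g = 1)
    (h : ∀ q : ℕ, q.Prime → q ∣ Nat.card G → charDegree χ < q) (a b : G) : a * b = b * a := by
  rw [← commutatorElement_eq_one_iff_mul_comm]
  refine hχ.eq_one_of_forall_constituent hf fun ψ hψ => ?_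
  have h1 : charDegree ψ.1 = 1 := by
    by_contra h1
    obtain ⟨q, hq, hqd⟩ := Nat.exists_prime_and_dvd h1
    have := h q hq (hqd.trans ψ.charDegree_dvd_card)
    have := Nat.le_of_dvd ψ.charDegree_pos hqd
    have := hχ.charDegree_le_of_ip_ne_zero ψ hψ
    omega
  have h2 := ψ.apply_one_eq_one_iff.2 h1
  rw [h2]
  exact ψ.isCharacter.apply_of_mem_commutator h2
    (Subgroup.commutator_mem_commutator (Subgroup.mem_top a) (Subgroup.mem_top b))

theorem IsCharacter.subgroup_comm_of_forall_prime_gt {χ : G → ℂ} (hχ : IsCharacter G χ)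
    (hf : ∀ g : G, χ g = χ 1 → g = 1) {H : Subgroup G}
    (h : ∀ q : ℕ, q.Prime → q ∣ Nat.card H → charDegree χ < q) :
    ∀ a ∈ H, ∀ b ∈ H, a * b = b * a := fun a ha b hb =>
  congrArg Subtype.val ((hχ.comp H.subtype).comm_of_forall_prime_gt
    (IsCharacter.comp_faithful hf H.subtype_injective) (by rwa [charDegree_comp]) ⟨a, ha⟩ ⟨b, hb⟩)

theorem IsCharacter.comm_of_isPGroup {χ : G → ℂ} (hχ : IsCharacter G χ)
    (hf : ∀ g : G, χ g = χ 1 → g = 1) {p : ℕ} [hp : Fact p.Prime] (hn : charDegree χ < p)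
    {P : Subgroup G} (hP : IsPGroup p P) : ∀ a ∈ P, ∀ b ∈ P, a * b = b * a := by
  refine hχ.subgroup_comm_of_forall_prime_gt hf fun q hq hqd => ?_
  obtain ⟨k, hk⟩ := hP.exists_card_eq
  rw [hk] at hqd
  rwa [(Nat.prime_dvd_prime_iff_eq hq hp.out).1 (hq.dvd_of_dvd_pow hqd)]

/-- A character of degree below `p - 1` that is rational on a cyclic `p`-group is trivial on it. -/
theorem IsCharacter.apply_eq_of_forall_pow {θ : G → ℂ} (hθ : IsCharacter G θ) {p : ℕ}
    [hp : Fact p.Prime] (hn : charDegree θ + 1 < p) {x : G} (hx : IsPElt p x)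
    (h : ∀ k : ℕ, k.Coprime p → ∀ j : ℕ, θ ((x ^ j) ^ k) = θ (x ^ j)) : θ x = θ 1 := by
  classical
  obtain ⟨ε, hε, hs, -⟩ := hθ.exists_roots x
  have h0 := (orderOf_pos x).ne'
  suffices ∀ i, ε i = 1 by
    have h1 := hs 1
    rw [pow_one] at h1
    rw [h1, hθ.apply_one]
    simp [this]
  intro i
  by_contra hi
  have hmem : ∀ k : ℕ, k.Coprime p → ∃ j, ε j = ε i ^ k := by
    intro k hk
    have := roots_card_eq_of_power_sums h0 hε (δ := fun j => ε j ^ k)
      (fun j => by rw [← pow_mul, mul_comm, pow_mul, hε, one_pow]) (fun j => by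
        rw [← hs, ← h k hk j, ← pow_mul, hs]
        simp only [← pow_mul, mul_comm])
    have h1 : ε i ^ k ∈ Finset.univ.val.map ε := by
      rw [this]
      exact Multiset.mem_map.2 ⟨i, Finset.mem_univ i, rfl⟩
    obtain ⟨j, -, hj⟩ := Multiset.mem_map.1 h1
    exact ⟨j, hj⟩
  have hord : p ≤ orderOf (ε i) := by
    obtain ⟨a, ha⟩ := hx
    have h1 : orderOf (ε i) ∣ p ^ a := by
      rw [← ha]; exact orderOf_dvd_of_pow_eq_one (hε i)
    obtain ⟨b, -, hb⟩ := (Nat.dvd_prime_pow hp.out).1 h1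
    rcases b with _ | b
    · exact absurd (orderOf_eq_one_iff.1 hb) hi
    · rw [hb]
      exact Nat.le_self_pow b.succ_ne_zero p
  have hk : ∀ k : Fin (p - 1), (k.1 + 1).Coprime p := fun k =>
    (Nat.coprime_of_lt_prime (by omega) (by omega) hp.out).symm
  choose f hf using fun k : Fin (p - 1) => hmem _ (hk k)
  have hinj : Function.Injective f := by
    intro k l hkl
    have h1 : ε i ^ (k.1 + 1) = ε i ^ (l.1 + 1) := by rw [← hf, ← hf, hkl]
    have := pow_injOn_Iio_orderOf (x := ε i) (by simp only [Set.mem_Iio]; omega)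
      (by simp only [Set.mem_Iio]; omega) h1
    exact Fin.ext (by omega)
  have := Fintype.card_le_of_injective f hinj
  simp only [Fintype.card_fin] at this
  omega

/-- An exponent prime to `|G|` raising `p`-parts to the `k`-th power and fixing `p'`-parts. -/
theorem exists_pow_eq_pPart_pow_mul (G : Type u) [Group G] [Finite G] {p : ℕ} [hp : Fact p.Prime]
    {k : ℕ} (hk : k.Coprime p) :
    ∃ l : ℕ, l.Coprime (Nat.card G) ∧ ∀ g : G, g ^ l = pPart p g ^ k * pPrimePart p g := by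
  have h0 : Nat.card G ≠ 0 := Nat.card_pos.ne'
  have hc : (ordProj[p] (Nat.card G)).Coprime (ordCompl[p] (Nat.card G)) :=
    (Nat.coprime_ordCompl hp.out h0).pow_left _
  obtain ⟨l, h1, h2⟩ := Nat.chineseRemainder hc k 1
  refine ⟨l, ?_, fun g => ?_⟩
  · rw [← Nat.ordProj_mul_ordCompl_eq_self (Nat.card G) p]
    refine Nat.Coprime.mul_right ?_ ?_
    · rw [Nat.Coprime, h1.gcd_eq]
      exact hk.pow_right _
    · rw [Nat.Coprime, h2.gcd_eq]
      simp
  · conv_lhs => rw [← pPart_mul_pPrimePart p g, (commute_pPart_pPrimePart p g).mul_pow]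
    congr 1
    · rw [pow_eq_pow_iff_modEq]
      refine h1.of_dvd ?_
      rw [orderOf_pPart]
      exact Nat.ordProj_dvd_ordProj_of_dvd h0 (orderOf_dvd_natCard g) p
    · conv_rhs => rw [← pow_one (pPrimePart p g)]
      rw [pow_eq_pow_iff_modEq]
      refine h2.of_dvd ?_
      rw [orderOf_pPrimePart]
      exact Nat.ordCompl_dvd_ordCompl_of_dvd (orderOf_dvd_natCard g) p

/-- Twisting by a linear character kills the central elements of order prime to the degree. -/
theorem IrrCharacter.exists_linear_smul_central (ψ : IrrCharacter G) {m : ℕ}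
    (hm : (charDegree ψ.1).Coprime m) : ∃ μ : G →* ℂˣ, ∀ z ∈ Subgroup.center G, z ^ m = 1 →
      z ∈ charKer (μ • ψ).1 := by
  obtain ⟨a, b, hab⟩ := Nat.isCoprime_iff_coprime.2 hm
  obtain ⟨f, hf, -⟩ := ψ.exists_monoidHom_center
  refine ⟨detHom ψ.1 ^ (-a), fun z hz hzm => ?_⟩
  have h1 : ψ z = f ⟨z, hz⟩ * ψ 1 := by simpa using hf ⟨z, hz⟩ 1
  have h2 : detHom ψ.1 z = f ⟨z, hz⟩ ^ charDegree ψ.1 := by
    ext
    rw [coe_detHom, ψ.isCharacter.detChar_of_mem_charCenter (ψ.center_le_charCenter hz), h1,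
      mul_div_cancel_right₀ _ ψ.apply_one_ne_zero]
    simp
  have h3 : f ⟨z, hz⟩ ^ m = 1 := by
    rw [← map_pow, ← map_one f]
    congr 1
    exact Subtype.ext hzm
  have h4 : (detHom ψ.1 ^ (-a)) z * f ⟨z, hz⟩ = 1 := by
    rw [MonoidHom.zpow_apply, h2, ← zpow_natCast, ← zpow_mul, ← zpow_add_one]
    have : (charDegree ψ.1 : ℤ) * -a + 1 = m * b := by linear_combination -hab
    rw [this, zpow_mul, zpow_natCast, h3, one_zpow]
  rw [IrrCharacter.mem_charKer, IrrCharacter.linear_smul_apply, IrrCharacter.linear_smul_apply, h1,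
    ← mul_assoc, ← Units.val_mul, h4, map_one]

theorem blichfeldt_aux {p q : ℕ} [hp : Fact p.Prime] [hq : Fact q.Prime] (ψ : IrrCharacter G)
    (h1 : charDegree ψ.1 + 1 < p) (h2 : charDegree ψ.1 + 1 < q)
    (h : ∀ g : G, pPart p g ∈ charKer ψ.1 ∨ pPart q g ∈ charKer ψ.1) :
    (∀ x, IsPElt p x → x ∈ charKer ψ.1) ∨ ∀ y, IsPElt q y → y ∈ charKer ψ.1 := by
  have key : ∀ (r : ℕ) [Fact r.Prime] (k l : ℕ),
      (∀ g : G, g ^ l = pPart r g ^ k * pPrimePart r g) →
      ∀ g, pPart r g ∈ charKer ψ.1 → ψ (g ^ l) = ψ g := by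
    intro r _ k l hl g hg
    rw [hl, apply_mul_of_mem_charKer' (pow_mem hg k)]
    conv_rhs => rw [← pPart_mul_pPrimePart r g, apply_mul_of_mem_charKer' hg]
  have fin : ∀ (r : ℕ) [Fact r.Prime], charDegree ψ.1 + 1 < r →
      (∀ k, k.Coprime r → ∃ l, (∀ g : G, g ^ l = pPart r g ^ k * pPrimePart r g) ∧
        ∀ g, ψ (g ^ l) = ψ g) → ∀ x, IsPElt r x → x ∈ charKer ψ.1 := by
    intro r _ hr H x hx
    refine ψ.mem_charKer.2 (ψ.isCharacter.apply_eq_of_forall_pow hr hx fun k hk j => ?_)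
    obtain ⟨l, hl, hl'⟩ := H k hk
    rw [← hl' (x ^ j), hl, pPart_eq_self_iff.2 (hx.pow j), pPrimePart_eq_one_iff.2 (hx.pow j),
      mul_one]
  by_cases hc : ∀ k, k.Coprime p → ∃ l, (∀ g : G, g ^ l = pPart p g ^ k * pPrimePart p g) ∧
    ∀ g, ψ (g ^ l) = ψ g
  · exact Or.inl (fin p h1 hc)
  refine Or.inr (fin q h2 fun k' hk' => ?_)
  push Not at hc
  obtain ⟨k, hk, hc⟩ := hc
  obtain ⟨l, hl, hl'⟩ := exists_pow_eq_pPart_pow_mul G hk
  obtain ⟨l', hm, hm'⟩ := exists_pow_eq_pPart_pow_mul G hk'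
  refine ⟨l', hm', ?_⟩
  have hne : ψ.galPow l hl ≠ ψ := fun e => by
    obtain ⟨g, hg⟩ := hc l hl'
    exact hg (congrFun (congrArg Subtype.val e) g)
  have e : (ψ.galPow (l * l') (Nat.Coprime.mul_left hl hm)).1 + ψ.1 =
      (ψ.galPow l hl).1 + (ψ.galPow l' hm).1 := by
    funext g
    simp only [Pi.add_apply, IrrCharacter.galPow_apply]
    rcases h g with hg | hg
    · rw [key p k l hl' g hg, mul_comm, pow_mul,
        key p k l hl' _ (by rw [pPart_pow]; exact pow_mem hg _), add_comm]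
    · rw [key q k' l' hm' g hg, pow_mul,
        key q k' l' hm' _ (by rw [pPart_pow]; exact pow_mem hg _)]
  have e2 := congrArg (fun θ => ip θ ψ.1) e
  simp only [ip_add_left, ψ.ip_self, IrrCharacter.ip_of_ne hne] at e2
  have e3 : ψ.galPow l' hm = ψ := by
    by_contra hne'
    rw [IrrCharacter.ip_of_ne hne'] at e2
    obtain ⟨a, ha⟩ := (ψ.galPow (l * l') (Nat.Coprime.mul_left hl hm)).isCharacter.exists_ip_eq_nat
      ψ.isCharacter
    rw [ha, add_zero] at e2
    norm_cast at e2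
  exact fun g => congrFun (congrArg Subtype.val e3) g

/-- A Sylow subgroup of a subgroup of index prime to `p`, as a Sylow subgroup of the group. -/
def sylowMapSubtype {p : ℕ} [hp : Fact p.Prime] {H : Subgroup G} (hH : ¬ p ∣ H.index)
    (P : Sylow p H) : Sylow p G :=
  (P.isPGroup'.map H.subtype).toSylow (by
    rw [Subgroup.index_map_subtype, hp.out.dvd_mul]
    exact fun h => h.elim P.not_dvd_index hH)

theorem mem_sylowMapSubtype {p : ℕ} [hp : Fact p.Prime] {H : Subgroup G} {hH : ¬ p ∣ H.index}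
    {P : Sylow p H} {g : G} : g ∈ sylowMapSubtype hH P ↔ ∃ x ∈ P, (x : G) = g := Iff.rfl

theorem IsCharacter.not_dvd_index_centralizer {χ : G → ℂ} (hχ : IsCharacter G χ)
    (hf : ∀ g : G, χ g = χ 1 → g = 1) {p : ℕ} [hp : Fact p.Prime] (hn : charDegree χ < p)
    {x : G} (hx : IsPElt p x) : ¬ p ∣ (Subgroup.centralizer ({x} : Set G)).index := by
  obtain ⟨P, hP⟩ := hx.exists_mem_sylow
  refine fun h => P.not_dvd_index (h.trans (Subgroup.index_dvd_of_le fun a ha => ?_))
  exact Subgroup.mem_centralizer_singleton_iff.2 (hχ.comm_of_isPGroup hf hn P.isPGroup' a ha x hP)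

theorem blichfeldt_exists_commute {p q : ℕ} [hp : Fact p.Prime] [hq : Fact q.Prime] (n : ℕ)
    (h1 : n + 1 < p) (h2 : n + 1 < q) (G : Type u) [Group G] [Finite G] :
    ∀ χ : G → ℂ, IsCharacter G χ → (∀ g : G, χ g = χ 1 → g = 1) → charDegree χ = n →
      ∃ (P : Sylow p G) (Q : Sylow q G), ∀ a ∈ P, ∀ b ∈ Q, a * b = b * a := by
  revert G
  refine card_induction fun G _ _ ih χ hχ hf hn => ?_
  have ih' : ∀ H : Subgroup G, H ≠ ⊤ →
      ∃ (P : Sylow p H) (Q : Sylow q H), ∀ a ∈ P, ∀ b ∈ Q, a * b = b * a := fun H hH =>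
    ih H (card_lt_of_ne_top hH) _ (hχ.comp H.subtype)
      (IsCharacter.comp_faithful hf H.subtype_injective) (by rwa [charDegree_comp])
  have hne : ∀ x : G, x ∉ Subgroup.center G → Subgroup.centralizer ({x} : Set G) ≠ ⊤ := by
    intro x hx h
    rw [Subgroup.centralizer_eq_top_iff_subset] at h
    exact hx (h rfl)
  by_cases hc : ∀ g : G, pPart p g ∈ Subgroup.center G ∨ pPart q g ∈ Subgroup.center G
  · obtain ⟨P⟩ : Nonempty (Sylow p G) := inferInstance
    obtain ⟨Q⟩ : Nonempty (Sylow q G) := inferInstance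
    refine ⟨P, Q, fun a ha b hb => ?_⟩
    rw [← commutatorElement_eq_one_iff_mul_comm]
    refine hχ.eq_one_of_forall_constituent hf fun ψ hψ => ?_
    have hd := hχ.charDegree_le_of_ip_ne_zero ψ hψ
    have hpos := ψ.charDegree_pos
    obtain ⟨μ, hμ⟩ := ψ.exists_linear_smul_central
      (m := p ^ (Nat.card G).factorization p * q ^ (Nat.card G).factorization q)
      (Nat.Coprime.mul_right
        ((Nat.coprime_of_lt_prime hpos.ne' (by omega) hp.out).symm.pow_right _)
        ((Nat.coprime_of_lt_prime hpos.ne' (by omega) hq.out).symm.pow_right _))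
    have hpow : ∀ (r : ℕ) [Fact r.Prime] (g : G),
        pPart r g ^ r ^ (Nat.card G).factorization r = 1 := by
      intro r _ g
      rw [← orderOf_dvd_iff_pow_eq_one, orderOf_pPart]
      exact Nat.ordProj_dvd_ordProj_of_dvd Nat.card_pos.ne' (orderOf_dvd_natCard g) r
    have h3 := blichfeldt_aux (p := p) (q := q) (μ • ψ) (by simp; omega) (by simp; omega)
      (fun g => (hc g).imp (fun h => hμ _ h (by rw [pow_mul, hpow, one_pow]))
        (fun h => hμ _ h (by rw [mul_comm, pow_mul, hpow, one_pow])))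
    have h4 : ⁅a, b⁆ ∈ charKer (μ • ψ).1 := by
      rcases h3 with h3 | h3
      · have := h3 a (isPElt_of_mem P.isPGroup' ha)
        rw [commutatorElement_def, mul_assoc, mul_assoc, ← mul_assoc b]
        exact mul_mem this ((charKer_normal _).conj_mem _ (inv_mem this) b)
      · have := h3 b (isPElt_of_mem Q.isPGroup' hb)
        rw [commutatorElement_def]
        exact mul_mem ((charKer_normal _).conj_mem _ this a) (inv_mem this)
    rw [IrrCharacter.mem_charKer, IrrCharacter.linear_smul_apply, IrrCharacter.linear_smul_apply,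
      linear_apply_of_mem_commutator μ
        (Subgroup.commutator_mem_commutator (Subgroup.mem_top a) (Subgroup.mem_top b))] at h4
    simpa using h4
  · push Not at hc
    obtain ⟨g, hx, hy⟩ := hc
    have hxy : pPart q g ∈ Subgroup.centralizer ({pPart p g} : Set G) :=
      pPart_mem q (mem_centralizer_pPart p g)
    obtain ⟨P, Q, hPQ⟩ := ih' _ (hne _ hx)
    obtain ⟨c, hc⟩ := IsPElt.exists_conj_mem (p := q) (g := (⟨_, hxy⟩ : Subgroup.centralizer _))
      (isPElt_coe_iff.1 (isPElt_pPart q g)) Q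
    set y : G := c * pPart q g * c⁻¹ with hy'
    have hyq : IsPElt q y := isPElt_conj_iff.2 (isPElt_pPart q g)
    have hyc : y ∉ Subgroup.center G := fun h => hy (by
      simpa [hy', mul_assoc] using (inferInstance : (Subgroup.center G).Normal).conj_mem _ h c⁻¹)
    have i1 := hχ.not_dvd_index_centralizer hf (p := p) (by omega) (isPElt_pPart p g)
    have i2 := hχ.not_dvd_index_centralizer hf (p := q) (by omega) hyq
    have i3 : ¬ p ∣ (Subgroup.centralizer ({y} : Set G)).index := by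
      refine fun h => (sylowMapSubtype i1 P).not_dvd_index
        (h.trans (Subgroup.index_dvd_of_le ?_))
      rintro _ ⟨a, ha, rfl⟩
      exact Subgroup.mem_centralizer_singleton_iff.2 (congrArg Subtype.val (hPQ a ha _ hc))
    obtain ⟨P', Q', hPQ'⟩ := ih' _ (hne _ hyc)
    refine ⟨sylowMapSubtype i3 P', sylowMapSubtype i2 Q', ?_⟩
    rintro _ ⟨a, ha, rfl⟩ _ ⟨b, hb, rfl⟩
    exact congrArg Subtype.val (hPQ' a ha b hb)

theorem IsCharacter.not_dvd_index_centralizer_sylow {χ : G → ℂ} (hχ : IsCharacter G χ)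
    (hf : ∀ g : G, χ g = χ 1 → g = 1) {p q : ℕ} [hp : Fact p.Prime] [hq : Fact q.Prime]
    (h1 : charDegree χ + 1 < p) (h2 : charDegree χ + 1 < q) (P : Sylow p G) :
    ¬ q ∣ (Subgroup.centralizer (P : Set G)).index := by
  obtain ⟨P', Q, h⟩ := blichfeldt_exists_commute _ h1 h2 G χ hχ hf rfl
  obtain ⟨g, rfl⟩ := MulAction.exists_smul_eq G P' P
  refine fun hd => (g • Q).not_dvd_index (hd.trans (Subgroup.index_dvd_of_le ?_))
  rintro _ ⟨b, hb, rfl⟩ _ ⟨a, ha, rfl⟩
  simp only [MulDistribMulAction.toMonoidEnd_apply, MulDistribMulAction.toMonoidHom_apply,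
    ← smul_mul', h a ha b hb]

theorem blichfeldt_exists_isPiHall (n : ℕ) (G : Type u) [Group G] [Finite G] :
    ∀ χ : G → ℂ, IsCharacter G χ → (∀ g : G, χ g = χ 1 → g = 1) → charDegree χ = n →
      ∃ A : Subgroup G, IsPiHall {q | n + 1 < q} A := by
  revert G
  refine card_induction fun G _ _ ih χ hχ hf hn => ?_
  have lift : ∀ H : Subgroup G, (∀ q : ℕ, q.Prime → n + 1 < q → ¬ q ∣ H.index) →
      (∃ A : Subgroup H, IsPiHall {q | n + 1 < q} A) →
      ∃ A : Subgroup G, IsPiHall {q | n + 1 < q} A := by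
    rintro H hH ⟨A, hA⟩
    exact ⟨_, (isPiHallOf_map_subtype_iff.2 hA).isPiHall fun q hq hqd h => hH q hq h hqd⟩
  by_cases hc : ∀ q : ℕ, q.Prime → n + 1 < q → ¬ q ∣ (Subgroup.center G).index
  · have := isSolvable_of_isMulCommutative (G := Subgroup.center G)
    exact lift _ hc (exists_isPiHall_of_isSolvable _ _)
  · push Not at hc
    obtain ⟨p, hp, hnp, hd⟩ := hc
    have : Fact p.Prime := ⟨hp⟩
    obtain ⟨P⟩ : Nonempty (Sylow p G) := inferInstance
    have hne : Subgroup.centralizer (P : Set G) ≠ ⊤ := by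
      intro h
      rw [Subgroup.centralizer_eq_top_iff_subset] at h
      exact P.not_dvd_index (hd.trans (Subgroup.index_dvd_of_le h))
    refine lift _ (fun q hq hnq => ?_) (ih _ (card_lt_of_ne_top hne) _
      (hχ.comp (Subgroup.subtype _)) (IsCharacter.comp_faithful hf (Subgroup.subtype_injective _))
      (by rwa [charDegree_comp]))
    have : Fact q.Prime := ⟨hq⟩
    exact hχ.not_dvd_index_centralizer_sylow hf (by omega) (by omega) P

/-- Blichfeldt's theorem (Isaacs 14.1). -/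
theorem IsCharacter.exists_abelian_isPiHall {χ : G → ℂ} (hχ : IsCharacter G χ)
    (hf : ∀ g : G, χ g = χ 1 → g = 1) : ∃ A : Subgroup G, (∀ x ∈ A, ∀ y ∈ A, x * y = y * x) ∧
      IsPiHall {q | charDegree χ + 1 < q} A := by
  obtain ⟨A, hA⟩ := blichfeldt_exists_isPiHall _ G χ hχ hf rfl
  exact ⟨A, hχ.subgroup_comm_of_forall_prime_gt hf fun q hq hd =>
    Nat.lt_of_succ_lt (hA.1 q hq hd), hA⟩

end Cfsg

set_option linter.all false in
theorem Cfsg.Rz.Char_Blichfeldt_0 : True := by
  have := @_root_.Cfsg.sylowMapSubtype.congr_simp.{0}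
  have := @_root_.Cfsg.sylowMapSubtype.eq_def.{0}
  have := @_root_.Cfsg.sylowMapSubtype.eq_1.{0}
  have := @_root_.Cfsg.sylowMapSubtype.fun_cases
  trivial
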