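import Cfsg.Agent.Char.PPrimeDeg
import Cfsg.Agent.Char.Blichfeldt
import Cfsg.Agent.Char.Degrees
import Cfsg.Agent.Grp.MinAct
import Cfsg.Agent.Grp.Misc

/-!
# Winter's theorem on solvable irreducible linear groups

If a solvable irreducible linear group of degree `n` has a non-normal Sylow `p`-subgroup, then `n`
is divisible by a prime power congruent to `-1`, `0` or `1` modulo `p`.
-/

set_option autoImplicit false
set_option linter.unusedSectionVars false

namespace Cfsg

open Subgroup
open scoped commutatorElement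

universe u

variable {G : Type u} [Group G] [Finite G] {p : ℕ} [hp : Fact p.Prime]

/-- A `p`-group acting nontrivially on a normal `r`-subgroup of symplectic type. -/
theorem IrrCharacter.exists_primePow_sq_modEq (χ : IrrCharacter G)
    (hf : ∀ g : G, χ g = χ 1 → g = 1) {r : ℕ} [hr : Fact r.Prime] (hrp : r ≠ p)
    {N P : Subgroup G} [N.Normal] (hN : IsPGroup r N) (hP : IsPGroup p P)
    (h1 : ⁅N, N⁆ ≤ center G) (h2 : N ⊓ centralizer (N : Set G) ≤ center G) (h3 : ⁅N, P⁆ ≠ ⊥) :
    ∃ q, IsPrimePow q ∧ q ∣ charDegree χ.1 ∧ q ^ 2 ≡ 1 [MOD p] := by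
  have hpN : ¬ p ∣ Nat.card N := fun h => by
    obtain ⟨k, hk⟩ := hN.exists_card_eq
    exact hrp ((Nat.prime_dvd_prime_iff_eq hp.out hr.out).1
      (hp.out.dvd_of_dvd_pow (hk ▸ h))).symm
  have hact : IsCoprimeAction P N := isCoprimeAction_of_isPGroup_left le_normalizer_of_normal hP hpN
  have hWN : ⁅N, P⁆ ≤ N := commutator_le_left N P
  have hWP := hact.commutator_commutator
  have hsup := hact.inf_centralizer_sup_commutator
  have hZP : ⁅center G, P⁆ = ⊥ :=
    commutator_eq_bot_iff_le_centralizer.2 (center_le_centralizer _)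
  have hWD : ⁅⁅N, P⁆, N ⊓ centralizer (P : Set G)⁆ = ⊥ := by
    refine commutator_commutator_eq_bot_of_rotate ?_ ?_
    · rw [commutator_comm P, commutator_eq_bot_iff_le_centralizer.2 inf_le_right,
        commutator_bot_left]
    · rw [eq_bot_iff, ← hZP]
      exact commutator_mono ((commutator_mono inf_le_left le_rfl).trans h1) le_rfl
  have hactW := hact.commutator
  set W := ⁅N, P⁆ with hW
  clear_value W
  have hCW : W ⊓ centralizer (P : Set G) = W ⊓ center G := le_antisymm
    (le_inf inf_le_left ((inf_centralizer_le_commutator_of_coprime hactW.1 hactW.2 hWP).trans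
      ((commutator_mono hWN hWN).trans h1)))
    (inf_le_inf_left _ (center_le_centralizer _))
  obtain ⟨μ, hμ⟩ := χ.exists_liesOver_below W.subtype
  obtain ⟨θ, hθ, hθμ⟩ := hμ.exists_mid (i := N.subtype) (j := inclusion hWN) (fun _ => rfl)
    χ.isCharacter
  have hker : ∀ z : W, (z : G) ∈ center G → z ∈ charKer μ.1 → z = 1 := fun z hz hz' => by
    have : (zpowers (z : G)).Normal := normal_of_le_center (zpowers_le.2 hz)
    have h := hμ.le_charKer_of_le_map W.subtype_injective (K := zpowers (z : G))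
      (zpowers_le.2 (mem_map_of_mem _ hz'))
    exact Subtype.ext (hf _ (χ.mem_charKer.1 (h (mem_zpowers _))))
  have hcen : charCenter μ.1 = (center G).subgroupOf W := by
    ext z
    rw [mem_subgroupOf]
    constructor
    · intro hz
      have a1 : W ≤ centralizer {(z : G)} := fun w hw => by
        have := hker _ (h1 (commutator_mem_commutator (hWN z.2) (hWN hw)))
          (μ.mem_charCenter_iff.1 hz ⟨w, hw⟩)
        exact mem_centralizer_singleton_iff.2
          (congrArg Subtype.val (commutatorElement_eq_one_iff_mul_comm.1 this)).symm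
      have a2 : N ⊓ centralizer (P : Set G) ≤ centralizer {(z : G)} := fun d hd =>
        mem_centralizer_singleton_iff.2
          (commutator_eq_bot_iff_le_centralizer.1 hWD z.2 d hd)
      refine h2 (mem_inf.2 ⟨hWN z.2, fun x hx => ?_⟩)
      rw [← hsup] at hx
      exact mem_centralizer_singleton_iff.1 (sup_le a2 a1 hx)
    · intro hz
      exact μ.center_le_charCenter (mem_center_iff.2 fun w => Subtype.ext (mem_center_iff.1 hz w))
  have hsq := μ.sq_charDegree_eq_index_of_commutator_le (by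
    rw [hcen, subgroupOf, ← map_le_iff_le_comap, W.map_subtype_commutator]
    exact (commutator_mono hWN hWN).trans h1)
  rw [hcen] at hsq
  obtain ⟨j, hj⟩ := μ.exists_charDegree_eq_pow (hN.to_le hWN)
  obtain ⟨k, hk⟩ := θ.exists_charDegree_eq_pow hN
  have hjk : j ≤ k := by
    have := hθμ.charDegree_le θ.isCharacter
    rwa [hj, hk, Nat.pow_le_pow_iff_right hr.out.one_lt] at this
  have hj0 : j ≠ 0 := by
    rintro rfl
    rw [hj, pow_zero, one_pow, eq_comm, index_eq_one, subgroupOf_eq_top] at hsq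
    exact h3 (by rw [← hWP, eq_bot_iff, ← hZP]; exact commutator_mono hsq le_rfl)
  refine ⟨r ^ j, hr.out.isPrimePow.pow hj0,
    (pow_dvd_pow r hjk).trans (hk ▸ hθ.charDegree_dvd), ?_⟩
  have e1 := card_modEq_card_inf_centralizer hP hactW.1
  have e2 : Nat.card (W ⊓ center G : Subgroup G) * (r ^ j) ^ 2 = Nat.card W := by
    rw [← hj, hsq, ← card_mul_index ((center G).subgroupOf W), inf_comm, ← inf_subgroupOf_right,
      Nat.card_congr (subgroupOfEquivOfLe inf_le_right).toEquiv]
  rw [hCW, ← e2] at e1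
  refine Nat.ModEq.cancel_left_of_coprime (c := Nat.card (W ⊓ center G : Subgroup G)) ?_
    (by rwa [mul_one])
  exact hp.out.coprime_iff_not_dvd.2 fun h =>
    hpN (h.trans (card_dvd_of_le (inf_le_left.trans hWN)))

theorem le_center_of_sylow_commutator_eq_bot (hR : pPrimeResidual p G = ⊤) (P : Sylow p G)
    {M : Subgroup G} [M.Normal] (h : ⁅M, (P : Subgroup G)⁆ = ⊥) : M ≤ center G := by
  have h1 : (P : Subgroup G) ≤ centralizer (M : Set G) :=
    le_centralizer_iff.1 (commutator_eq_bot_iff_le_centralizer.1 h)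
  have h2 : (⊤ : Subgroup G) ≤ centralizer (M : Set G) := by
    rw [← hR, pPrimeResidual_eq_normalClosure P]
    exact normalClosure_le_normal h1
  exact fun m hm => mem_center_iff.2 fun g => (h2 (mem_top g) m hm).symm

/-- In a solvable group generated by `p`-elements, the index of a proper subgroup is divisible by
a prime power congruent to `0` or `1` modulo `p`. -/
theorem exists_primePow_dvd_index (p : ℕ) [hp : Fact p.Prime] (G : Type u) [Group G] [Finite G] :
    Group.IsSolvable G → pPrimeResidual p G = ⊤ → ∀ H : Subgroup G, H ≠ ⊤ →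
      ∃ q, IsPrimePow q ∧ q ∣ H.index ∧ (p ∣ q ∨ q ≡ 1 [MOD p]) := by
  refine card_induction (P := fun G _ _ => Group.IsSolvable G → pPrimeResidual p G = ⊤ →
    ∀ H : Subgroup G, H ≠ ⊤ → ∃ q, IsPrimePow q ∧ q ∣ H.index ∧ (p ∣ q ∨ q ≡ 1 [MOD p]))
    (fun G _ _ ih hs hR H hH => ?_) G
  have : Nontrivial G := by
    by_contra h
    rw [not_nontrivial_iff_subsingleton] at h
    exact hH (Subsingleton.elim _ _)
  obtain ⟨V, hV⟩ := exists_isMinNormal G
  have := hV.normal
  by_cases hHV : H ⊔ V = ⊤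
  swap
  · obtain ⟨q, h1, h2, h3⟩ := ih (G ⧸ V) (card_quotient_lt hV.ne_bot) inferInstance
      (by rw [← map_pPrimeResidual (QuotientGroup.mk'_surjective V), hR,
        map_top_of_surjective _ (QuotientGroup.mk'_surjective V)])
      (H.map (QuotientGroup.mk' V)) (fun h => hHV (by
        rw [← index_eq_one, ← index_map_mk', h, index_top]))
    rw [index_map_mk'] at h2
    exact ⟨q, h1, h2.trans (index_dvd_of_le le_sup_left), h3⟩
  obtain ⟨r, hr, hVr⟩ := hV.exists_isElementaryAbelian
  have := Fact.mk hr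
  have := hV.isMulCommutative_of_isSolvable
  have hVH : V ⊓ H = ⊥ := by
    have : (V ⊓ H).Normal := by
      rw [← normalizer_eq_top_iff, eq_top_iff, ← hHV]
      refine sup_le (fun h hh => ?_) (fun v hv => ?_)
      · exact inf_normalizer_le_normalizer_inf ⟨le_normalizer_of_normal (mem_top h),
          le_normalizer hh⟩
      · exact centralizer_le_normalizer _ fun w hw =>
          isMulCommutative_iff_forall.1 ‹_› w hw.1 v hv
    refine (hV.eq_bot_or_eq _ this inf_le_left).resolve_right fun h => hH ?_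
    rw [← hHV, sup_eq_left.2 (h ▸ inf_le_right)]
  have hcard : Nat.card V = H.index := by
    rw [← relIndex_top_right, ← hHV, relIndex_sup_normal_eq_relIndex, ← inf_relIndex_right,
      inf_comm, hVH, relIndex_bot_left]
  have hpow : ∀ W : Subgroup G, W ≤ V → W ≠ ⊥ → IsPrimePow (Nat.card W) := fun W hW h0 => by
    obtain ⟨k, hk0, hk⟩ := (hVr.isPGroup.to_le hW).nontrivial_iff_card.1
      ((nontrivial_iff_ne_bot _).2 h0)
    exact hk ▸ hr.isPrimePow.pow hk0.ne'
  by_cases hpV : p ∣ Nat.card V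
  · exact ⟨_, hpow V le_rfl hV.ne_bot, hcard.dvd, Or.inl hpV⟩
  obtain ⟨P⟩ : Nonempty (Sylow p G) := inferInstance
  have hact : IsCoprimeAction (P : Subgroup G) V :=
    isCoprimeAction_of_isPGroup_left le_normalizer_of_normal P.isPGroup' hpV
  by_cases hW : ⁅V, (P : Subgroup G)⁆ = ⊥
  · exfalso
    have h1 := le_center_of_sylow_commutator_eq_bot hR P hW
    have : H.Normal := by
      rw [← normalizer_eq_top_iff, eq_top_iff, ← hHV]
      exact sup_le le_normalizer (h1.trans (center_le_normalizer _))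
    exact hH (top_le_iff.1 (hR ▸ pPrimeResidual_le_iff.2 (hcard ▸ hpV)))
  · refine ⟨_, hpow _ (commutator_le_left _ _) hW,
      hcard ▸ card_dvd_of_le (commutator_le_left _ _), Or.inr ?_⟩
    have := card_modEq_card_inf_centralizer P.isPGroup' hact.commutator.1
    rwa [inf_comm, inf_centralizer_inf_commutator_eq_bot hact.1 hact.2, card_bot] at this

theorem winter_main [Group.IsSolvable G] (hR : pPrimeResidual p G = ⊤) (χ : IrrCharacter G)
    (hf : ∀ g : G, χ g = χ 1 → g = 1)
    (h : ∀ q, IsPrimePow q → q ∣ charDegree χ.1 → ¬ p ∣ q ∧ ¬ q ^ 2 ≡ 1 [MOD p]) :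
    IsPGroup p G := by
  have hprim : IsPrimitiveChar χ.1 := fun L ψ hψ hL => by
    by_contra hL'
    obtain ⟨q, h1, h2, h3⟩ := exists_primePow_dvd_index p G inferInstance hR L hL'
    have h4 := h q h1 (h2.trans ⟨_, by rw [← hL, hψ.charDegree_ind_subtype]⟩)
    rcases h3 with h3 | h3
    · exact h4.1 h3
    · exact h4.2 (by simpa using h3.pow 2)
  obtain ⟨P⟩ : Nonempty (Sylow p G) := inferInstance
  by_cases hall : ∀ r : Nat.Primes, pCore r G ≤ center G
  · have h1 : fittingSubgroup G ≤ center G := by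
      rw [fittingSubgroup_eq_iSup_pCore]
      exact iSup_le hall
    have h2 : (⊤ : Subgroup G) ≤ center G := fun g _ => h1 (centralizer_fittingSubgroup_le G
      fun x hx => (mem_center_iff.1 (h1 hx) g).symm)
    have : (P : Subgroup G).Normal := normal_of_le_center (le_top.trans h2)
    have h3 : (P : Subgroup G) = ⊤ := by
      rw [← hR, pPrimeResidual_eq_normalClosure P]
      exact (normalClosure_eq_self (P : Subgroup G)).symm
    exact (h3 ▸ P.isPGroup').of_equiv topEquiv
  exfalso
  push Not at hall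
  obtain ⟨⟨r, hr⟩, hall⟩ := hall
  have := Fact.mk hr
  obtain ⟨N, ⟨h1, h2, h3⟩, h4⟩ := exists_minimal_of_wellFoundedLT
    (fun N : Subgroup G => N.Normal ∧ IsPGroup r N ∧ ¬ N ≤ center G)
    ⟨pCore r G, inferInstance, isPGroup_pCore r G, hall⟩
  have h0 : N ≠ ⊥ := fun h => h3 (h ▸ bot_le)
  have := h2.isNilpotent
  have h5 : ⁅N, N⁆ ≤ center G := by
    by_contra h5
    have h6 := commutator_lt_of_le_isNilpotent le_rfl le_rfl le_normalizer h0
    exact h6.not_ge (h4 ⟨inferInstance, h2.to_le h6.le, h5⟩ h6.le)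
  have h6 : N ⊓ centralizer (N : Set G) ≤ center G := by
    have : IsMulCommutative (N ⊓ centralizer (N : Set G) : Subgroup G) :=
      isMulCommutative_iff_forall.2 fun a ha b hb => hb.2 a ha.1
    exact hprim.le_center hf _
  by_cases hrp : r = p
  · subst hrp
    have : IsMulCommutative N := ⟨⟨fun a b => commutatorElement_eq_one_iff_mul_comm.1
      ((χ.isCharacter.comp N.subtype).eq_one_of_forall_constituent
        (IsCharacter.comp_faithful hf N.subtype_injective) fun θ hθ => by
          obtain ⟨k, hk⟩ := θ.exists_charDegree_eq_pow h2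
          rcases Nat.eq_zero_or_pos k with rfl | hk0
          · exact θ.mem_charKer.1 (θ.commutator_le_charKer_iff'.2 hk
              (commutator_mem_commutator (mem_top _) (mem_top _)))
          · exact absurd dvd_rfl (h r hr.isPrimePow ((dvd_pow_self r hk0.ne').trans
              (hk ▸ LiesOver.charDegree_dvd (f := N.subtype) hθ))).1)⟩⟩
    exact h3 (hprim.le_center hf N)
  obtain ⟨q, h7, h8, h9⟩ := χ.exists_primePow_sq_modEq hf hrp h2 P.isPGroup' h5 h6
    fun h => h3 (le_center_of_sylow_commutator_eq_bot hR P h)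
  exact (h q h7 h8).2 h9

theorem winter_aux (p : ℕ) [hp : Fact p.Prime] (G : Type u) [Group G] [Finite G] :
    Group.IsSolvable G → ∀ χ : IrrCharacter G,
      (∀ q, IsPrimePow q → q ∣ charDegree χ.1 → ¬ p ∣ q ∧ ¬ q ^ 2 ≡ 1 [MOD p]) →
      ∀ g ∈ pPrimeResidual p G, ∃ k, g ^ p ^ k ∈ charKer χ.1 := by
  refine card_induction (P := fun G _ _ => Group.IsSolvable G → ∀ χ : IrrCharacter G,
      (∀ q, IsPrimePow q → q ∣ charDegree χ.1 → ¬ p ∣ q ∧ ¬ q ^ 2 ≡ 1 [MOD p]) →
      ∀ g ∈ pPrimeResidual p G, ∃ k, g ^ p ^ k ∈ charKer χ.1)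
    (fun G _ _ ih hs χ h g hg => ?_) G
  by_cases hK : charKer χ.1 = ⊥
  swap
  · obtain ⟨χ', h1, h2⟩ := χ.exists_faithful_quotient
    obtain ⟨k, hk⟩ := ih _ (card_quotient_lt hK) inferInstance χ'
      (by rwa [← charDegree_comp χ'.1 (QuotientGroup.mk' _), h1]) _
      (map_pPrimeResidual_le (QuotientGroup.mk' _) (mem_map_of_mem _ hg))
    rw [h2, mem_bot, ← map_pow] at hk
    exact ⟨k, (QuotientGroup.eq_one_iff _).1 hk⟩
  have hf := χ.isCharacter.charKer_eq_bot_iff.1 hK
  by_cases hR : pPrimeResidual p G = ⊤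
  · obtain ⟨k, hk⟩ := winter_main hR χ hf h g
    exact ⟨k, hk ▸ one_mem _⟩
  have hg' : (⟨g, hg⟩ : pPrimeResidual p G) ∈ pPrimeResidual p (pPrimeResidual p G) := by
    rw [pPrimeResidual_pPrimeResidual]
    exact mem_top _
  have h1 : ∀ θ : IrrCharacter (pPrimeResidual p G), ∃ k,
      LiesOver (pPrimeResidual p G).subtype χ.1 θ.1 →
        (⟨g, hg⟩ : pPrimeResidual p G) ^ p ^ k ∈ charKer θ.1 := fun θ => by
    by_cases hθ : LiesOver (pPrimeResidual p G).subtype χ.1 θ.1
    · obtain ⟨k, hk⟩ := ih _ (card_lt_of_ne_top hR) inferInstance θ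
        (fun q h1 h2 => h q h1 (h2.trans hθ.charDegree_dvd)) _ hg'
      exact ⟨k, fun _ => hk⟩
    · exact ⟨0, fun h => absurd h hθ⟩
  choose k hk using h1
  obtain ⟨K, hK⟩ := Finite.bddAbove_range k
  refine ⟨K, ?_⟩
  have := ((χ.isCharacter.comp (pPrimeResidual p G).subtype).mem_charKer_iff_forall
    (g := ⟨g, hg⟩ ^ p ^ K)).2 fun θ hθ => by
      obtain ⟨c, hc⟩ := pow_dvd_pow p (hK ⟨θ, rfl⟩)
      rw [hc, pow_mul]
      exact pow_mem (hk θ hθ) _
  rwa [χ.isCharacter.charKer_comp, mem_comap] at this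

/-- Winter's theorem. -/
theorem IrrCharacter.exists_primePow_of_not_normal [hs : Group.IsSolvable G] (χ : IrrCharacter G)
    (hf : ∀ g : G, χ g = χ 1 → g = 1) (P : Sylow p G) (hP : ¬ (P : Subgroup G).Normal) :
    ∃ q, IsPrimePow q ∧ q ∣ charDegree χ.1 ∧ (p ∣ q ∨ q ^ 2 ≡ 1 [MOD p]) := by
  by_contra h
  have h1 : IsPGroup p (pPrimeResidual p G) := fun g => by
    obtain ⟨k, hk⟩ := winter_aux p G hs χ (fun q h1 h2 =>
      ⟨fun h3 => h ⟨q, h1, h2, Or.inl h3⟩, fun h3 => h ⟨q, h1, h2, Or.inr h3⟩⟩) g g.2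
    exact ⟨k, Subtype.ext (hf _ (χ.mem_charKer.1 hk))⟩
  refine hP (sylow_normal_of_not_dvd_index_pCore (fun h2 => ?_) P)
  exact not_dvd_index_pPrimeResidual p G (h2.trans (index_dvd_of_le (le_pCore h1)))

end Cfsg
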