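import Cfsg.Agent.Char.Galois
import Cfsg.Agent.Char.CliffordBasic

/-! Galois action and Clifford theory. -/

set_option autoImplicit false

namespace Cfsg

open scoped ComplexConjugate

variable {G N : Type*} [Group G] [Finite G] [Group N] [Finite N]

theorem IrrCharacter.gal_smul_conjAut_smul (f : N →* G) [IsNormalEmb f] (σ : ℂ ≃+* ℂ) (g : G)
    (θ : IrrCharacter N) : σ • conjAut f g • θ = conjAut f g • σ • θ := rfl

theorem inertia_gal_smul (f : N →* G) [IsNormalEmb f] (σ : ℂ ≃+* ℂ) (θ : IrrCharacter N) :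
    inertia f (σ • θ) = inertia f θ := by
  ext g
  rw [mem_inertia, mem_inertia, ← IrrCharacter.gal_smul_conjAut_smul, smul_left_cancel_iff]

theorem gal_smul_mem_conjOrbit_gal_smul {f : N →* G} [IsNormalEmb f] (σ : ℂ ≃+* ℂ)
    {θ θ' : IrrCharacter N} : σ • θ' ∈ conjOrbit f (σ • θ) ↔ θ' ∈ conjOrbit f θ := by
  simp only [mem_conjOrbit, ← IrrCharacter.gal_smul_conjAut_smul, smul_left_cancel_iff]

/-- If `σ` fixes one member of an orbit, it fixes all of them. -/
theorem gal_smul_eq_self_of_mem_conjOrbit {f : N →* G} [IsNormalEmb f] {σ : ℂ ≃+* ℂ}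
    {θ θ' : IrrCharacter N} (h : θ' ∈ conjOrbit f θ) (hθ : σ • θ = θ) : σ • θ' = θ' := by
  obtain ⟨g, rfl⟩ := mem_conjOrbit.1 h
  rw [IrrCharacter.gal_smul_conjAut_smul, hθ]

theorem LiesOver.gal_smul_mem_conjOrbit {f : N →* G} [IsNormalEmb f] {σ : ℂ ≃+* ℂ}
    {χ : IrrCharacter G} (hχ : σ • χ = χ) {θ : IrrCharacter N} (h : LiesOver f χ.1 θ.1) :
    σ • θ ∈ conjOrbit f θ := by
  refine h.mem_conjOrbit ?_
  rw [← hχ]
  exact (IrrCharacter.liesOver_gal_smul f σ χ θ).2 h

/-- The powers of a field automorphism acting on roots of unity. -/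
theorem ringEquiv_pow_apply_of_pow_eq_one {σ : ℂ ≃+* ℂ} {n k : ℕ}
    (hσ : ∀ z : ℂ, z ^ n = 1 → σ z = z ^ k) (m : ℕ) {z : ℂ} (hz : z ^ n = 1) :
    (σ ^ m) z = z ^ k ^ m := by
  induction m with
  | zero => simp
  | succ m ih =>
    rw [pow_succ', RingAut.mul_apply, ih, map_pow, hσ z hz, ← pow_mul, pow_succ']

/-- A field automorphism fixing the `n`-th roots of unity fixes the characters of groups of
exponent dividing `n`. -/
theorem IrrCharacter.gal_smul_eq_self_of_fix {σ : ℂ ≃+* ℂ} {n : ℕ} (hn : ∀ g : G, g ^ n = 1)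
    (hσ : ∀ z : ℂ, z ^ n = 1 → σ z = z) (χ : IrrCharacter G) : σ • χ = χ := by
  ext g
  have := χ.isCharacter.apply_pow_eq σ.toRingHom (k := 1) (hn g)
    (fun z hz => by rw [pow_one]; exact hσ z hz)
  rw [pow_one] at this
  exact this.symm

/-- A `p`-element of the Galois group fixing `χ` fixes the constituents of the restriction of `χ`
to a normal subgroup when the number of these constituents is prime to `p`. -/
theorem LiesOver.gal_smul_eq_self_of_not_dvd {f : N →* G} [IsNormalEmb f] {σ : ℂ ≃+* ℂ}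
    {p e : ℕ} [Fact p.Prime] (hσ : ∀ θ : IrrCharacter N, σ ^ p ^ e • θ = θ)
    {χ : IrrCharacter G} (hχ : σ • χ = χ) {θ : IrrCharacter N} (h : LiesOver f χ.1 θ.1)
    (hp : ¬ p ∣ (inertia f θ).index) : σ • θ = θ := by
  classical
  have key : ∀ θ' : IrrCharacter N, σ • θ' ∈ conjOrbit f θ ↔ θ' ∈ conjOrbit f θ := fun θ' => by
    rw [← conjOrbit_eq_of_mem (h.gal_smul_mem_conjOrbit hχ)]
    conv_rhs => rw [conjOrbit_eq_of_mem (h.gal_smul_mem_conjOrbit hχ)]
    exact gal_smul_mem_conjOrbit_gal_smul σ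
  let τ : Equiv.Perm (conjOrbit f θ) :=
    (MulAction.toPerm σ : Equiv.Perm (IrrCharacter N)).subtypePerm (fun θ' => key θ')
  have hτ : τ ^ p ^ e = 1 := by
    ext1 x
    apply Subtype.ext
    simp only [τ]
    erw [Equiv.Perm.subtypePerm_pow]
    change ((MulAction.toPermHom (ℂ ≃+* ℂ) (IrrCharacter N) σ) ^ p ^ e) x.1 = x.1
    rw [← map_pow]
    exact hσ x.1
  obtain ⟨a, ha⟩ := Equiv.Perm.exists_fixed_point_of_prime (p := p) (n := e)
    (by rwa [Fintype.card_coe, card_conjOrbit]) hτ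
  have ha' : σ • a.1 = a.1 := congrArg Subtype.val ha
  refine gal_smul_eq_self_of_mem_conjOrbit (f := f) ?_ ha'
  rw [conjOrbit_eq_of_mem a.2]
  exact self_mem_conjOrbit f θ

/-- The number of Galois conjugates of `χ` is the degree of its field of values. -/
theorem IrrCharacter.card_gal_orbit (χ : IrrCharacter G) :
    Nat.card (MulAction.orbit (ℂ ≃+* ℂ) χ) =
      Module.finrank ℚ (IntermediateField.adjoin ℚ (Set.range χ.1)) := by
  have hint : ∀ x ∈ Set.range χ.1, IsIntegral ℚ x := by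
    rintro _ ⟨g, rfl⟩
    exact (χ.isIntegral g).tower_top
  have hfin : FiniteDimensional ℚ (IntermediateField.adjoin ℚ (Set.range χ.1)) :=
    IntermediateField.finiteDimensional_adjoin hint
  set K := IntermediateField.adjoin ℚ (Set.range χ.1) with hK
  have halg : ∀ x ∈ K, IsAlgebraic ℚ x := fun x hx =>
    (IntermediateField.isAlgebraic_iff (x := (⟨x, hx⟩ : K))).1
      (Algebra.IsAlgebraic.isAlgebraic (R := ℚ) (⟨x, hx⟩ : K))
  have hmem : ∀ g, χ g ∈ K := fun g => IntermediateField.subset_adjoin _ _ ⟨g, rfl⟩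
  rw [← AlgHom.natCard_of_splits ℚ K ℂ (fun _ => IsAlgClosed.splits _)]
  choose ext hext using fun φ : K →ₐ[ℚ] ℂ => exists_ringEquiv_extend K halg φ.toRingHom
  symm
  refine Nat.card_congr (Equiv.ofBijective
    (fun φ => (⟨ext φ • χ, MulAction.mem_orbit _ _⟩ : MulAction.orbit (ℂ ≃+* ℂ) χ)) ⟨?_, ?_⟩)
  · intro φ ψ h
    have h1 : ext φ • χ = ext ψ • χ := congrArg Subtype.val h
    ext x
    have h2 := ringHom_eq_of_mem_adjoin (ext φ).toRingHom (ext ψ).toRingHom
      (S := Set.range χ.1) (by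
        rintro _ ⟨g, rfl⟩
        exact congrArg (fun θ : IrrCharacter G => θ g) h1) x.2
    exact (hext φ x).symm.trans (h2.trans (hext ψ x))
  · rintro ⟨_, σ, rfl⟩
    refine ⟨(σ.toRingHom.comp (algebraMap K ℂ)).toRatAlgHom, Subtype.ext ?_⟩
    ext g
    exact hext _ ⟨χ g, hmem g⟩

theorem IrrCharacter.index_charKer_smul (α : MulAut G) (χ : IrrCharacter G) :
    (charKer (α • χ).1).index = (charKer χ.1).index := by
  have : (α • χ).1 = χ.1 ∘ (α⁻¹ : MulAut G).toMonoidHom := rfl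
  rw [this, χ.isCharacter.charKer_comp, Subgroup.index_comap_of_surjective _ (α⁻¹).surjective]

end Cfsg
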