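import Cfsg.Agent.Char.FourB
import Cfsg.Agent.Grp.Zass
import Cfsg.Agent.Grp.Transfer

/-!
# Simple groups of order `60`, and double covers with quaternion Sylow `2`-subgroups
-/

set_option autoImplicit false
set_option linter.unusedSectionVars false

namespace Cfsg.Four

open scoped commutatorElement MatrixGroups
open Subgroup

theorem nonempty_equiv_psl {G : Type*} [Group G] [Finite G] [IsSimpleGroup G]
    (hG : Nat.card G = 60) (hp : commutator G = ⊤) : Nonempty (G ≃* PSL(2, ZMod 5)) := by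
  haveI : Fact (Nat.Prime 5) := ⟨by norm_num⟩
  obtain ⟨P⟩ : Nonempty (Sylow 5 G) := inferInstance
  have hP : Nat.card P = 5 := by
    rw [P.card_eq_multiplicity, hG]; decide +kernel
  have hn : ¬ (P : Subgroup G).Normal := by
    intro h
    rcases h.eq_bot_or_eq_top with e | e
    · rw [e, card_bot] at hP; omega
    · rw [e, card_top, hG] at hP; omega
  have hD : Nat.card (Sylow 5 G) = 5 + 1 := by
    have h1 := card_sylow_modEq_one 5 G
    have h2 := P.card_dvd_index
    have h3 : (P : Subgroup G).index = 12 := by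
      have := (P : Subgroup G).index_mul_card
      rw [hP, hG] at this; omega
    have h4 : Nat.card (Sylow 5 G) ≠ 1 := fun h => by
      haveI := (Nat.card_eq_one_iff_unique.1 h).1
      exact hn (Sylow.normal_of_subsingleton P)
    rw [h3] at h2
    have h5 := Nat.le_of_dvd (by norm_num) h2
    unfold Nat.ModEq at h1
    generalize Nat.card (Sylow 5 G) = n at *
    interval_cases n <;> omega
  have hK : (MulAction.toPermHom G (Sylow 5 G)).ker = ⊥ := by
    refine (inferInstance : (MulAction.toPermHom G (Sylow 5 G)).ker.Normal).eq_bot_or_eq_top.resolve_right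
      fun h => hn ?_
    rw [← normalizer_eq_top_iff, eq_top_iff]
    intro g _
    have : g ∈ (MulAction.toPermHom G (Sylow 5 G)).ker := by rw [h]; trivial
    exact Sylow.smul_eq_iff_mem_normalizer.1 (Equiv.congr_fun (MonoidHom.mem_ker.1 this) P)
  obtain ⟨e⟩ := nonempty_quotient_equiv_psl P hP (e := 2) rfl hD ⊥ (fun g => by
    rw [← hK, MonoidHom.mem_ker, Equiv.ext_iff]; rfl) (by rw [index_bot, hG]) (by simp [hp])
  exact ⟨QuotientGroup.quotientBot.symm.trans e⟩

theorem card_eq_two_mul {X T : Type*} [Group X] [Group T] {π : X →* T}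
    (hπ : Function.Surjective π) {z : X} (hz : z ≠ 1) (hk : ∀ x, π x = 1 ↔ x = 1 ∨ x = z) :
    Nat.card X = 2 * Nat.card T := by
  have h1 : Nat.card π.ker = 2 := by
    rw [← Set.ncard_pair hz.symm, ← Nat.card_coe_set_eq]
    exact Nat.card_congr (Equiv.subtypeEquivRight hk)
  rw [← π.ker.card_mul_index, h1, index_ker, MonoidHom.range_eq_top.2 hπ, card_top]

theorem comm_of_ker {X T : Type*} [Group X] [Group T] {π : X →* T} {z : X} (hz : z ≠ 1)
    (hk : ∀ x, π x = 1 ↔ x = 1 ∨ x = z) {c : X} (hc : π c = 1) :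
    c * c = 1 ∧ ∀ x, x * c = c * x := by
  rcases (hk c).1 hc with rfl | rfl
  · simp
  constructor
  · refine ((hk _).1 (by rw [map_mul, hc, mul_one])).resolve_right fun h => hz ?_
    exact mul_eq_left.1 h
  · intro x
    rcases (hk (x * c * x⁻¹)).1 (by simp [hc]) with h | h
    · exact absurd (by simpa using h) hz
    · exact mul_inv_eq_iff_eq_mul.1 h

/-- Two double covers of the same group in which all `2`-elements outside the kernel square to
the central involution are isomorphic, if one of them is perfect. -/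
theorem nonempty_equiv_of_sq {X S T : Type*} [Group X] [Finite X] [Group S] [Finite S] [Group T]
    {π : X →* T} {ρ : S →* T} (hπ : Function.Surjective π) (hρ : Function.Surjective ρ)
    {z : X} {w : S} (hz : z ≠ 1) (hw : w ≠ 1) (hk : ∀ x, π x = 1 ↔ x = 1 ∨ x = z)
    (hl : ∀ x, ρ x = 1 ↔ x = 1 ∨ x = w) (hX : ∀ x, IsPElt 2 x → π x ≠ 1 → x * x = z)
    (hS : ∀ x, IsPElt 2 x → ρ x ≠ 1 → x * x = w) (hp : commutator X = ⊤) :
    Nonempty (X ≃* S) := by
  let Y : Subgroup (X × S) := (π.comp (MonoidHom.fst X S)).eqLocus (ρ.comp (MonoidHom.snd X S))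
  have hY : ∀ y : Y, π y.1.1 = ρ y.1.2 := fun y => y.2
  have hz1 := (hk z).2 (Or.inr rfl)
  have hw1 := (hl w).2 (Or.inr rfl)
  let v : Y := ⟨(z, w), hz1.trans hw1.symm⟩
  have sq1 : ∀ y : Y, π y.1.1 = 1 → y * y = 1 := fun y h =>
    Subtype.ext (Prod.ext (comm_of_ker hz hk h).1 (comm_of_ker hw hl ((hY y).symm.trans h)).1)
  have hv : v * v = 1 := sq1 v hz1
  let W : Subgroup Y :=
    { carrier := {y | y = 1 ∨ y = v}
      mul_mem' := by
        rintro a b (rfl | rfl) (rfl | rfl) <;> simp [hv]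
      one_mem' := Or.inl rfl
      inv_mem' := by
        rintro a (rfl | rfl)
        · simp
        · exact Or.inr (inv_eq_of_mul_eq_one_left hv) }
  obtain ⟨R⟩ : Nonempty (Sylow 2 Y) := inferInstance
  have sqW : ∀ a ∈ (R : Subgroup Y), a * a ∈ W := fun a ha => by
    by_cases h : π a.1.1 = 1
    · exact Or.inl (sq1 a h)
    · have h2 := isPElt_of_mem R.isPGroup' ha
      exact Or.inr (Subtype.ext (Prod.ext
        (hX _ (h2.map ((MonoidHom.fst X S).comp Y.subtype)) h)
        (hS _ (h2.map ((MonoidHom.snd X S).comp Y.subtype)) (hY a ▸ h))))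
  have hRW : ⁅(R : Subgroup Y), (R : Subgroup Y)⁆ ≤ W := by
    rw [commutator_le]
    intro a ha b hb
    have : ⁅a, b⁆ = a * a * (a⁻¹ * b * (a⁻¹ * b)) * (b * b)⁻¹ := by
      rw [commutatorElement_def]; group
    rw [this]
    exact mul_mem (mul_mem (sqW a ha) (sqW _ (mul_mem (inv_mem ha) hb))) (inv_mem (sqW b hb))
  have key : ∀ c ∈ _root_.commutator Y, π c.1.1 = 1 → c = 1 ∨ c = v := fun c hc h => by
    have h1 : c ∈ center Y := mem_center_iff.2 fun y => Subtype.ext (Prod.ext
      ((comm_of_ker hz hk h).2 _) ((comm_of_ker hw hl ((hY c).symm.trans h)).2 _))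
    obtain ⟨x, hx⟩ := (isPElt_iff_pow_eq_one.2 ⟨1, by rw [pow_one, sq, sq1 c h]⟩ :
      IsPElt 2 c).exists_conj_mem R
    rw [mem_center_iff.1 h1 x, mul_inv_cancel_right] at hx
    exact hRW (inf_commutator_inf_center_le (Sylow.coprime_card_index' R) ⟨⟨hx, hc⟩, h1⟩)
  let p1 : Y →* X := (MonoidHom.fst X S).comp Y.subtype
  let p2 : Y →* S := (MonoidHom.snd X S).comp Y.subtype
  have h1 : Function.Bijective (p1.comp (_root_.commutator Y).subtype) := by
    constructor
    · rw [injective_iff_map_eq_one]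
      intro c hc
      have h : c.1.1.1 = 1 := hc
      refine Subtype.ext ((key c.1 c.2 (by rw [h, map_one])).resolve_right fun e => hz ?_)
      rw [e] at h; exact h
    · have hp1 : p1.range = ⊤ := by
        rw [MonoidHom.range_eq_top]
        intro x
        obtain ⟨s, hs⟩ := hρ (π x)
        exact ⟨⟨(x, s), hs.symm⟩, rfl⟩
      rw [← MonoidHom.range_eq_top, MonoidHom.range_comp, range_subtype, map_commutator_eq, hp1]
      exact hp
  have h2 : Function.Bijective (p2.comp (_root_.commutator Y).subtype) := by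
    rw [Nat.bijective_iff_injective_and_card]
    constructor
    · rw [injective_iff_map_eq_one]
      intro c hc
      have h : c.1.1.2 = 1 := hc
      refine Subtype.ext ((key c.1 c.2 (by rw [hY, h, map_one])).resolve_right fun e => hw ?_)
      rw [e] at h; exact h
    · rw [Nat.card_eq_of_bijective _ h1, card_eq_two_mul hπ hz hk, card_eq_two_mul hρ hw hl]
  exact ⟨(MulEquiv.ofBijective _ h1).symm.trans (MulEquiv.ofBijective _ h2)⟩

theorem sl_mem_center_iff (s : SL(2, ZMod 5)) : s ∈ center SL(2, ZMod 5) ↔ s = 1 ∨ s = -1 := by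
  constructor
  · intro h
    obtain ⟨r, hr, hr'⟩ := Matrix.SpecialLinearGroup.mem_center_iff.1 h
    have : ∀ r : ZMod 5, r ^ 2 = 1 → r = 1 ∨ r = -1 := by decide
    rcases this r (by simpa using hr) with rfl | rfl
    · left; ext1; rw [← hr']; simp
    · right; ext i j; rw [← hr']; fin_cases i <;> fin_cases j <;> simp
  · rintro (rfl | rfl)
    · exact one_mem _
    · exact mem_center_iff.2 fun g => by simp

theorem sl_neg_one_ne : (-1 : SL(2, ZMod 5)) ≠ 1 := by
  intro h
  have := congrArg (fun s : SL(2, ZMod 5) => s 0 0) h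
  simp at this
  revert this; decide

theorem sl_eq_of_mul_self {s : SL(2, ZMod 5)} (h : s * s = 1) : s = 1 ∨ s = -1 := by
  have h0 : s 0 0 * s 1 1 - s 0 1 * s 1 0 = 1 := by rw [← Matrix.det_fin_two]; exact s.2
  have h1 : ∀ i j, s i 0 * s 0 j + s i 1 * s 1 j = (1 : Matrix (Fin 2) (Fin 2) (ZMod 5)) i j := by
    intro i j
    rw [← Matrix.SpecialLinearGroup.coe_one, ← h, Matrix.SpecialLinearGroup.coe_mul,
      Matrix.mul_apply, Fin.sum_univ_two]
  have key : ∀ a b c d : ZMod 5, a * d - b * c = 1 → a * a + b * c = 1 → a * b + b * d = 0 →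
      c * a + d * c = 0 → c * b + d * d = 1 →
      (a = 1 ∧ b = 0 ∧ c = 0 ∧ d = 1) ∨ (a = -1 ∧ b = 0 ∧ c = 0 ∧ d = -1) := by
    decide +kernel
  rcases key _ _ _ _ h0 (by simpa using h1 0 0) (by simpa using h1 0 1) (by simpa using h1 1 0)
    (by simpa using h1 1 1) with ⟨a, b, c, d⟩ | ⟨a, b, c, d⟩
  · left; ext i j; fin_cases i <;> fin_cases j <;> simp [a, b, c, d]
  · right; ext i j; fin_cases i <;> fin_cases j <;> simp [a, b, c, d]

theorem nonempty_equiv_sl {X : Type*} [Group X] [Finite X] {π : X →* PSL(2, ZMod 5)}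
    (hπ : Function.Surjective π) {z : X} (hz : z ≠ 1) (hk : ∀ x, π x = 1 ↔ x = 1 ∨ x = z)
    (hX : ∀ x, IsPElt 2 x → π x ≠ 1 → x * x = z) (hp : commutator X = ⊤) :
    Nonempty (X ≃* SL(2, ZMod 5)) := by
  have hl : ∀ s : SL(2, ZMod 5), QuotientGroup.mk' (center _) s = 1 ↔ s = 1 ∨ s = -1 := fun s =>
    (QuotientGroup.eq_one_iff s).trans (sl_mem_center_iff s)
  refine nonempty_equiv_of_sq hπ (QuotientGroup.mk'_surjective _) hz sl_neg_one_ne hk hl hX
    (fun s hs h1 => ?_) hp
  obtain ⟨x, hx⟩ := hπ (QuotientGroup.mk' (center _) s)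
  have h2 : π (pPart 2 x) = QuotientGroup.mk' (center _) s := by
    rw [map_pPart, hx, pPart_eq_self_iff.2 (hs.map _)]
  have h3 := hX _ (isPElt_pPart 2 x) (h2 ▸ h1)
  refine ((hl _).1 ?_).resolve_left fun h => h1 ((hl s).2 (sl_eq_of_mul_self h))
  rw [map_mul, ← h2, ← map_mul, h3]
  exact (hk z).2 (Or.inr rfl)

end Cfsg.Four
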