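import Cfsg.Agent.Char.Jordan

/-!
# Blichfeldt's sixty degree lemma

If all eigenvalues of an element `s` of a finite linear group lie within less than sixty degrees
of a root of unity `α`, the conjugates of `s` stabilize the `α`-eigenspace of `s`.
-/

set_option autoImplicit false
set_option linter.unusedSectionVars false

namespace Cfsg

open scoped ComplexConjugate Matrix commutatorElement

universe u v w

variable {G : Type u} [Group G] [Finite G]

section Abstract
variable {𝔸 : Type v} [NormedRing 𝔸] [StarRing 𝔸] [CStarRing 𝔸] {φ : G →* 𝔸}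

theorem sixty_commute_of_eq_zero (hu : ∀ g, star (φ g) = φ g⁻¹) {π : 𝔸}
    (hπ : IsStarProjection π) {t : G} (h : (1 - π) * φ t * π = 0) : φ t * π = π * φ t := by
  have h1 : ∀ t : G, (1 - π) * φ t * π = 0 ↔ φ t * π = π * φ t * π := fun t => by
    rw [sub_mul, sub_mul, one_mul, sub_eq_zero]
  have h2 : ∀ k : ℕ, φ (t ^ k) * π = π * φ (t ^ k) * π := by
    intro k
    induction k with
    | zero => simp [hπ.isIdempotentElem.eq]
    | succ k ih =>
      have e := (h1 t).1 h
      rw [pow_succ', map_mul]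
      calc φ t * φ (t ^ k) * π = φ t * π * (φ (t ^ k) * π) := by
            conv_lhs => rw [mul_assoc, ih]
            simp only [mul_assoc]
        _ = π * (φ t * (π * φ (t ^ k) * π)) := by
            conv_lhs => rw [e]
            simp only [mul_assoc]
        _ = π * (φ t * φ (t ^ k)) * π := by rw [← ih]; simp only [mul_assoc]
  have h3 : φ t⁻¹ * π = π * φ t⁻¹ * π := by
    have : t⁻¹ = t ^ (orderOf t - 1) := by
      rw [inv_eq_iff_mul_eq_one, ← pow_succ', Nat.sub_add_cancel (orderOf_pos t),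
        pow_orderOf_eq_one]
    rw [this]
    exact h2 _
  have h4 := congrArg star h3
  simp only [star_mul, hu, inv_inv, hπ.isSelfAdjoint.star_eq] at h4
  exact ((h1 t).1 h).trans ((mul_assoc _ _ _).trans h4.symm)

theorem sixty_abstract (hu : ∀ g, star (φ g) = φ g⁻¹) (h1 : ∀ g, ‖φ g‖ ≤ 1) {s : G} {c π : 𝔸}
    (hc : ∀ x, c * x = x * c) (hs : ‖φ s - c‖ < 1) (hπ : IsStarProjection π)
    (hsπ : φ s * π = c * π) (hpoly : ∀ a, a * φ s = φ s * a → a * π = π * a) (g : G) :
    φ (g⁻¹ * s * g) * π = π * φ (g⁻¹ * s * g) := by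
  let D : G → ℝ := fun g => ‖(1 - π) * φ g * π‖
  have hD0 : ∀ g, 0 ≤ D g := fun g => norm_nonneg _
  have hπ1 := hπ.norm_le
  have hπ2 := hπ.one_sub.norm_le
  have hD1 : ∀ g, D g ≤ 1 := fun g => by
    refine (norm_mul_le _ _).trans ?_
    refine mul_le_one₀ ((norm_mul_le _ _).trans (mul_le_one₀ hπ2 (norm_nonneg _) (h1 g)))
      (norm_nonneg _) hπ1
  have hstep : ∀ g, D (g⁻¹ * s * g) ≤ ‖φ s - c‖ * D g := fun g => by
    have e0 : (φ s - c) * (1 - π) = φ s - c := by
      rw [mul_sub, mul_one, sub_mul, hsπ, sub_self, sub_zero]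
    have e1 : (1 - π) * φ g⁻¹ * c * φ g * π = 0 := by
      rw [← hc, mul_assoc c, mul_assoc (1 - π), ← map_mul, inv_mul_cancel, map_one, mul_one,
        mul_assoc, hπ.one_sub_mul_self, mul_zero]
    have e : (1 - π) * φ (g⁻¹ * s * g) * π =
        (1 - π) * φ g⁻¹ * ((φ s - c) * ((1 - π) * φ g * π)) := by
      rw [← mul_assoc (φ s - c), ← mul_assoc (φ s - c), e0, map_mul, map_mul]
      simp only [sub_mul (φ s) c, mul_sub ((1 - π) * φ g⁻¹), ← mul_assoc, e1, sub_zero]
      rw [sub_mul ((1 - π) * φ g⁻¹ * φ s * φ g), e1, sub_zero]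
    simp only [D]
    rw [e]
    refine (norm_mul_le _ _).trans ?_
    have a1 : ‖(1 - π) * φ g⁻¹‖ ≤ 1 :=
      (norm_mul_le _ _).trans (mul_le_one₀ hπ2 (norm_nonneg _) (h1 _))
    exact (mul_le_of_le_one_left (norm_nonneg _) a1).trans (norm_mul_le _ _)
  have hgap : ∀ g, D (g⁻¹ * s * g) = 0 → D g = 0 ∨ 1 ≤ D g := fun g h => by
    have e1 := sixty_commute_of_eq_zero hu hπ (norm_eq_zero.1 h)
    have i1 : φ g * φ g⁻¹ = 1 := by rw [← map_mul, mul_inv_cancel, map_one]
    have i2 : φ g⁻¹ * φ g = 1 := by rw [← map_mul, inv_mul_cancel, map_one]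
    have e2 : φ g * π * φ g⁻¹ * π = π * (φ g * π * φ g⁻¹) := by
      refine hpoly _ ?_
      rw [map_mul, map_mul] at e1
      calc φ g * π * φ g⁻¹ * φ s = φ g * (π * (φ g⁻¹ * φ s * φ g)) * φ g⁻¹ := by
            simp only [mul_assoc, i1, mul_one]
        _ = φ s * (φ g * π * φ g⁻¹) := by
            rw [← e1]
            simp only [← mul_assoc, i1, one_mul]
    have e3 : IsIdempotentElem (φ g * π * φ g⁻¹) := by
      unfold IsIdempotentElem
      calc φ g * π * φ g⁻¹ * (φ g * π * φ g⁻¹) = φ g * (π * (φ g⁻¹ * φ g) * π) * φ g⁻¹ := by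
            simp only [mul_assoc]
        _ = _ := by rw [i2, mul_one, hπ.isIdempotentElem.eq]
    have e4 : IsIdempotentElem ((1 - π) * (φ g * π * φ g⁻¹)) :=
      hπ.one_sub.isIdempotentElem.mul_of_commute
        ((Commute.one_left _).sub_left (show Commute _ _ from e2).symm) e3
    by_cases h0 : (1 - π) * (φ g * π * φ g⁻¹) = 0
    · left
      have : (1 - π) * φ g * π = (1 - π) * (φ g * π * φ g⁻¹) * φ g := by
        simp only [mul_assoc, i2, mul_one]
      simp only [D]
      rw [this, h0, zero_mul, norm_zero]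
    · right
      have a1 := norm_pos_iff.2 h0
      have a2 := norm_mul_le ((1 - π) * (φ g * π * φ g⁻¹)) ((1 - π) * (φ g * π * φ g⁻¹))
      rw [e4.eq] at a2
      have a3 : ‖(1 - π) * (φ g * π * φ g⁻¹)‖ ≤ D g := by
        rw [← mul_assoc, ← mul_assoc]
        exact (norm_mul_le _ _).trans (mul_le_of_le_one_right (norm_nonneg _) (h1 _))
      nlinarith
  have hall : ∀ g, D g = 0 ∨ 1 ≤ D g := by
    by_contra hall
    push Not at hall
    obtain ⟨g, hg0, hg1⟩ := hall
    have : Nonempty {g : G // D g ≠ 0} := ⟨⟨g, hg0⟩⟩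
    obtain ⟨⟨m, hm⟩, hmin⟩ := Finite.exists_min fun g : {g : G // D g ≠ 0} => D g
    have a1 : 0 < D m := (hD0 m).lt_of_ne' hm
    have a2 : D (m⁻¹ * s * m) = 0 := by
      by_contra h
      have b1 := hmin ⟨_, h⟩
      have b2 := hstep m
      simp only at b1
      nlinarith
    rcases hgap m a2 with h | h
    · exact hm h
    · have b1 := hmin ⟨g, hg0⟩
      simp only at b1
      linarith
  refine sixty_commute_of_eq_zero hu hπ (norm_eq_zero.1 ?_)
  refine (hall (g⁻¹ * s * g)).resolve_right (not_le.2 ?_)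
  have := hstep g
  nlinarith [hD0 g, hD1 g, norm_nonneg (φ s - c)]

end Abstract

open scoped Matrix.Norms.L2Operator in
/-- Blichfeldt's lemma in matrix form: `π` is the projection onto the `α`-eigenspace. -/
theorem IsCharacter.exists_sixty {χ : G → ℂ} (hχ : IsCharacter G χ) {s : G}
    {ι : Type*} [Fintype ι] {ε : ι → ℂ} (hε : ∀ i, ε i ^ orderOf s = 1)
    (hχε : ∀ k : ℕ, χ (s ^ k) = ∑ i, ε i ^ k) {α : ℂ} (hα : α ^ orderOf s = 1)
    (h : ∀ i, ‖ε i - α‖ < 1) :
    ∃ (X : G →* Matrix (Fin (charDegree χ)) (Fin (charDegree χ)) ℂ)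
      (π : Matrix (Fin (charDegree χ)) (Fin (charDegree χ)) ℂ), (∀ g, (X g).trace = χ g) ∧
      π * π = π ∧ X s * π = α • π ∧ (∀ M, X s * M = α • M → π * M = M) ∧
      ((∃ i, ε i = α) → π ≠ 0) ∧
      (∀ β : ℂ, (∀ i, ε i = α ∨ ε i = β) → (X s - α • 1) * (X s - β • 1) = 0) ∧
      ∀ g, X (g⁻¹ * s * g) * π = π * X (g⁻¹ * s * g) := by
  classical
  obtain ⟨X, hu, hX⟩ := hχ.exists_unitary
  have hun : ∀ g, X g ∈ unitary (Matrix (Fin (charDegree χ)) (Fin (charDegree χ)) ℂ) := fun g =>
    ⟨by rw [Matrix.star_eq_conjTranspose, hu, matRep_inv_mul],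
      by rw [Matrix.star_eq_conjTranspose, hu, matRep_mul_inv]⟩
  have h1 : ∀ g, ‖X g‖ ≤ 1 := fun g => by
    rcases subsingleton_or_nontrivial (Matrix (Fin (charDegree χ)) (Fin (charDegree χ)) ℂ) with
      h | h
    · rw [Subsingleton.elim (X g) 0, norm_zero]; norm_num
    · exact (CStarRing.norm_of_mem_unitary (hun g)).le
  have ho := (orderOf_pos s).ne'
  have hα0 : α ≠ 0 := fun h => by simp [h, ho] at hα
  obtain ⟨b, δ, hδ, hb⟩ := rep_exists_eigenbasis (repOfMatrix X) s
  have hδε : ∀ j, ∃ i, ε i = δ j := by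
    have e := roots_card_eq_of_power_sums ho hε hδ fun k => by
      rw [← hχε, ← hX, ← trace_eq_sum_of_eigenbasis b (T := repOfMatrix X (s ^ k))
        (ε := fun i => δ i ^ k)]
      · rw [repOfMatrix_apply, Matrix.trace_toLin'_eq]
      · intro i
        rw [map_pow]
        exact pow_apply_of_apply_eq_smul (hb i) k
    intro j
    have : δ j ∈ (Finset.univ.val.map ε : Multiset ℂ) := by
      rw [e]; exact Multiset.mem_map_of_mem _ (Finset.mem_univ_val j)
    obtain ⟨i, -, hi⟩ := Multiset.mem_map.1 this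
    exact ⟨i, hi⟩
  let u := α⁻¹ • X s
  have hXu : X s = α • u := by simp [u, smul_smul, hα0]
  have huo : u ^ orderOf s = 1 := by
    simp only [u]
    rw [smul_pow, ← map_pow, pow_orderOf_eq_one, map_one, inv_pow, hα, inv_one, one_smul]
  let π := (orderOf s : ℂ)⁻¹ • ∑ k ∈ Finset.range (orderOf s), u ^ k
  have hfix : ∀ M, u * M = M → π * M = M := fun M hM => by
    have : ∀ k : ℕ, u ^ k * M = M := fun k => by
      induction k with
      | zero => simp
      | succ k ih => rw [pow_succ, mul_assoc, hM, ih]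
    simp only [π, smul_mul_assoc, Finset.sum_mul, this, Finset.sum_const, Finset.card_range]
    rw [← Nat.cast_smul_eq_nsmul ℂ, smul_smul, inv_mul_cancel₀ (by exact_mod_cast ho), one_smul]
  have huπ : u * π = π := by
    simp only [π, mul_smul_comm, Finset.mul_sum, ← pow_succ']
    congr 1
    have := Finset.sum_range_succ' (fun k => u ^ k) (orderOf s)
    rw [Finset.sum_range_succ, huo, pow_zero] at this
    exact (add_right_cancel this).symm
  have hππ : π * π = π := hfix π huπ
  have hαn : conj α * α = 1 := by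
    rw [mul_comm, Complex.mul_conj, Complex.normSq_eq_norm_sq,
      Complex.norm_eq_one_of_pow_eq_one hα ho]
    simp
  have hsu : Star.star u * u = 1 := by
    simp only [u, star_smul, smul_mul_assoc, mul_smul_comm, smul_smul, (hun s).1]
    rw [star_inv₀, ← mul_inv, mul_comm, Complex.star_def, hαn, inv_one, one_smul]
  have hsπ : Star.star π * π = π := by
    have e1 : Star.star u * π = π := by
      conv_lhs => rw [← huπ, ← mul_assoc, hsu, one_mul]
    have : ∀ k : ℕ, Star.star u ^ k * π = π := fun k => by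
      induction k with
      | zero => simp
      | succ k ih => rw [pow_succ, mul_assoc, e1, ih]
    conv_lhs => enter [1]; simp only [π]
    simp only [star_smul, star_sum, star_pow, smul_mul_assoc, Finset.sum_mul, this,
      Finset.sum_const, Finset.card_range]
    rw [← Nat.cast_smul_eq_nsmul ℂ, smul_smul, star_inv₀, star_natCast,
      inv_mul_cancel₀ (by exact_mod_cast ho), one_smul]
  have hproj : IsStarProjection π := ⟨hππ, by
    have := congrArg Star.star hsπ
    rw [star_mul, star_star, hsπ] at this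
    exact this.symm⟩
  have hXπ : X s * π = α • π := by rw [hXu, smul_mul_assoc, huπ]
  refine ⟨X, π, hX, hππ, hXπ, fun M hM => hfix M ?_, ?_, fun β hβ => ?_, fun g => ?_⟩
  · simp only [u]
    rw [smul_mul_assoc, hM, smul_smul, inv_mul_cancel₀ hα0, one_smul]
  · rintro ⟨i, hi⟩ h0
    have e1 := mul_count_roots_eq ho ε hε hα
    have e2 : π.trace = (orderOf s : ℂ)⁻¹ *
        ∑ k ∈ Finset.range (orderOf s), (∑ i, ε i ^ k) * α⁻¹ ^ k := by
      simp only [π, u, Matrix.trace_smul, Matrix.trace_sum, smul_pow, ← map_pow, hX, hχε,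
        smul_eq_mul, mul_comm]
    rw [← e1, ← mul_assoc, inv_mul_cancel₀ (by exact_mod_cast ho), one_mul, h0,
      Matrix.trace_zero, eq_comm, Nat.cast_eq_zero, Multiset.count_eq_zero] at e2
    exact e2 (hi ▸ Multiset.mem_map_of_mem _ (Finset.mem_univ_val i))
  · apply Matrix.toLin'.injective
    rw [map_zero]
    refine b.ext fun j => ?_
    have hbj : Matrix.toLin' (X s) (b j) = δ j • b j := hb j
    obtain ⟨i, hi⟩ := hδε j
    simp only [Matrix.toLin'_mul, map_sub, map_smul, Matrix.toLin'_one, LinearMap.comp_apply,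
      LinearMap.sub_apply, LinearMap.smul_apply, LinearMap.id_apply, hbj, LinearMap.zero_apply,
      smul_smul, ← sub_smul]
    rcases hβ i with h | h <;> rw [← hi, h] <;> simp [mul_comm]
  · refine sixty_abstract (φ := X) hu h1 (c := α • 1) (fun x => by simp) ?_ hproj
      (by simp [hXπ]) (fun a ha => ?_) g
    · exact l2_norm_sub_lt_of_eigen (r := 1) _ (hun _).1 b δ hb α one_pos fun j => by
        obtain ⟨i, hi⟩ := hδε j
        exact hi ▸ h i
    · have : Commute a u := by
        simp only [u]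
        exact (show Commute a (X s) from ha).smul_right _
      simp only [π]
      exact ((Commute.sum_right _ _ _ fun k _ => this.pow_right k).smul_right _).eq

/-- An element of a finite linear group with two eigenvalues less than sixty degrees apart commutes
with its conjugates. -/
theorem IsCharacter.commute_conj_of_two_eigen {χ : G → ℂ} (hχ : IsCharacter G χ)
    (hf : ∀ g : G, χ g = χ 1 → g = 1) {s : G} {ι : Type*} [Fintype ι] {ε : ι → ℂ}
    (hχε : ∀ k : ℕ, χ (s ^ k) = ∑ i, ε i ^ k) {α β : ℂ} (hα : α ^ orderOf s = 1)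
    (hβ : β ^ orderOf s = 1) (h : ∀ i, ε i = α ∨ ε i = β) (hαβ : ‖β - α‖ < 1) (g : G) :
    Commute s (g⁻¹ * s * g) := by
  obtain ⟨X, π, hX, -, h2, h3, -, h5, h6⟩ := hχ.exists_sixty (ε := ε)
    (fun i => by rcases h i with h | h <;> rwa [h]) hχε hα
    (fun i => by rcases h i with h | h <;> simp [h, hαβ])
  have hinj : Function.Injective X := (injective_iff_map_eq_one X).2 fun g hg =>
    hf g (by rw [← hX, ← hX, hg, map_one])
  have e1 := h3 (X s - β • 1) (by
    have := h5 β h
    rwa [sub_mul, smul_mul_assoc, one_mul, sub_eq_zero] at this)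
  have e2 := h6 1
  simp only [inv_one, one_mul, mul_one] at e2
  rw [mul_sub, ← e2, h2, mul_smul_comm, mul_one, eq_sub_iff_add_eq] at e1
  apply hinj
  rw [map_mul X s, map_mul X _ s, ← e1]
  simp only [add_mul, mul_add, sub_mul, mul_sub, smul_mul_assoc, mul_smul_comm, one_mul, mul_one,
    h6]

/-- Blichfeldt: in an irreducible linear group generated by the conjugates of `s`, the eigenvalues
of `s` are not all within less than sixty degrees of one of them, unless `s` is central. -/
theorem IrrCharacter.mem_center_of_sixty (χ : IrrCharacter G)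
    (hf : ∀ g : G, χ g = χ 1 → g = 1) {s : G} (hs : Subgroup.normalClosure {s} = ⊤)
    {ι : Type*} [Fintype ι] {ε : ι → ℂ} (hε : ∀ i, ε i ^ orderOf s = 1)
    (hχε : ∀ k : ℕ, χ (s ^ k) = ∑ i, ε i ^ k) (j : ι) (h : ∀ i, ‖ε i - ε j‖ < 1) :
    s ∈ Subgroup.center G := by
  obtain ⟨X, π, hX, h1, h2, -, h4, -, h6⟩ := χ.isCharacter.exists_sixty hε hχε (hε j) h
  have hinj : Function.Injective X := (injective_iff_map_eq_one X).2 fun g hg =>
    hf g (by change χ.1 g = χ.1 1; rw [← hX, ← hX, hg, map_one])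
  have hall : ∀ g, π * X g = X g * π := fun g => by
    have hg : g ∈ Subgroup.normalClosure {s} := hs ▸ Subgroup.mem_top g
    induction hg using Subgroup.closure_induction with
    | mem a ha =>
      obtain ⟨b, hb, hab⟩ := Group.mem_conjugatesOfSet_iff.1 ha
      obtain ⟨c, rfl⟩ := isConj_iff.1 hab
      rw [Set.mem_singleton_iff.1 hb]
      simpa using (h6 c⁻¹).symm
    | one => simp
    | mul a b _ _ ha hb => rw [map_mul, ← mul_assoc, ha, mul_assoc, hb, mul_assoc]
    | inv a _ ha =>
      calc π * X a⁻¹ = X a⁻¹ * (X a * π) * X a⁻¹ := by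
            rw [← mul_assoc, matRep_inv_mul, one_mul]
        _ = X a⁻¹ * π := by rw [← ha, mul_assoc, mul_assoc, matRep_mul_inv, mul_one]
  obtain ⟨c, hc⟩ := matrix_schur (X := X) (by rw [funext hX]; exact χ.2) hall
  have hc0 : c ≠ 0 := fun h => h4 ⟨j, rfl⟩ (by simp [hc, h])
  rw [hc, mul_smul_comm, mul_one, smul_comm] at h2
  have e := smul_right_injective _ hc0 h2
  refine Subgroup.mem_center_iff.2 fun g => hinj ?_
  rw [map_mul, map_mul, e]
  simp

end Cfsg
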