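import Cfsg.Agent.Blk.PrinDih
import Cfsg.Agent.Char.Sixty
import Cfsg.Agent.Char.Det
import Cfsg.Agent.Char.Burnside
import Cfsg.Agent.Grp.SelfCent
import Mathlib.GroupTheory.SpecificGroups.Alternating
import Mathlib.GroupTheory.FixedPointFree

/-!
# Small linear simple groups: general lemmas
-/

set_option autoImplicit false
set_option linter.unusedSectionVars false
set_option linter.style.haveILetI false

namespace Cfsg

open Subgroup
open scoped ComplexConjugate Classical

universe u

variable {G : Type u} [Group G] [Finite G]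

/-- The part of a character on the fixed points of a commuting subgroup. -/
theorem IsCharacter.avg_mul {χ : G → ℂ} (hχ : IsCharacter G χ) {K A : Subgroup G} [Fintype A]
    (h : ∀ x ∈ K, ∀ a ∈ A, Commute x a) :
    IsCharacter K (fun x => (Nat.card A : ℂ)⁻¹ * ∑ a : A, χ (x * a)) := by
  obtain ⟨X, hX⟩ := hχ.exists_matrix
  have h0 : (Nat.card A : ℂ) ≠ 0 := Nat.cast_ne_zero.2 Nat.card_pos.ne'
  have h1 := isCharacter_matrix_trace_mul_idem (X.comp K.subtype)
    ((Nat.card A : ℂ)⁻¹ • ∑ a : A, X a) ?_ ?_
  · convert h1 using 2 with x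
    simp only [MonoidHom.comp_apply, coe_subtype, Matrix.mul_smul, Matrix.trace_smul,
      Finset.mul_sum, Matrix.trace_sum, ← map_mul, hX, smul_eq_mul]
  · rw [Matrix.smul_mul, Matrix.mul_smul, Finset.sum_mul]
    congr 1
    have : ∀ a : A, X a * ∑ b : A, X b = ∑ b : A, X b := fun a => by
      rw [Finset.mul_sum]
      simp only [← map_mul, ← coe_mul]
      exact Equiv.sum_comp (Equiv.mulLeft a) fun b : A => X b
    rw [Finset.sum_congr rfl fun a _ => this a, Finset.sum_const, Finset.card_univ,
      ← Nat.card_eq_fintype_card, ← Nat.cast_smul_eq_nsmul ℂ, smul_smul, inv_mul_cancel₀ h0,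
      one_smul]
  · intro x
    simp only [MonoidHom.comp_apply, coe_subtype, Matrix.mul_smul, Matrix.smul_mul, Finset.mul_sum,
      Finset.sum_mul, ← map_mul]
    congr 1
    exact Finset.sum_congr rfl fun a _ => by rw [(h x x.2 a a.2).eq]

/-- A `p`-regular element centralizing a `p`-subgroup of order `χ(1)`, `χ` of defect zero, lies
in `Z(χ)`. -/
theorem IrrCharacter.mem_charCenter_of_defect_zero {p : ℕ} [Fact p.Prime] (χ : IrrCharacter G)
    (h0 : p ^ (Nat.card G).factorization p ∣ charDegree χ.1) {A : Subgroup G} (hA : IsPGroup p A)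
    (hc : Nat.card A = charDegree χ.1) {y : G} (hy : IsPRegular p y) (h : ∀ a ∈ A, Commute y a) :
    y ∈ charCenter χ.1 := by
  letI : Fintype A := Fintype.ofFinite _
  have h1 := χ.isCharacter.avg_mul (K := zpowers y) (A := A) fun x hx a ha => by
    obtain ⟨k, rfl⟩ := hx
    exact (h a ha).zpow_left k
  have h2 : ∀ x : zpowers y, ∑ a : A, χ.1 (x * a) = χ.1 x := fun x => by
    rw [Finset.sum_eq_single 1 (fun a _ ha => ?_) (by simp)]
    · simp
    obtain ⟨_, k, rfl⟩ := x
    refine χ.eq_zero_of_defect_zero p h0 ?_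
    by_contra hn
    have e1 := ((h a a.2).zpow_left k).symm
    have e2 := pPart_mul_eq e1 (isPElt_of_mem hA a.2) (hy.zpow k)
    rw [e1.eq, pPart_eq_one_iff.2 hn] at e2
    exact ha (Subtype.ext e2.symm)
  simp only [h2] at h1
  have hd : (charDegree χ.1 : ℂ) ≠ 0 := Nat.cast_ne_zero.2 χ.charDegree_pos.ne'
  have h4 : (fun x : zpowers y => (Nat.card A : ℂ)⁻¹ * χ.1 x) 1 = 1 := by
    simp only [OneMemClass.coe_one, χ.isCharacter.apply_one, hc, inv_mul_cancel₀ hd]
  have h3 := h1.apply_one_eq_one_iff.1 h4
  have h5 : (⟨y, mem_zpowers y⟩ : zpowers y) ∈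
      charCenter (fun x : zpowers y => (Nat.card A : ℂ)⁻¹ * χ.1 x) :=
    (IrrCharacter.charCenter_eq_top_iff ⟨_, h1.isIrr_of_apply_one_eq_one h4⟩).2 h4 ▸ mem_top _
  rw [h1.mem_charCenter, h3, norm_mul, hc, norm_inv, Complex.norm_natCast, Nat.cast_one,
    inv_mul_eq_one₀ (by exact_mod_cast χ.charDegree_pos.ne')] at h5
  exact χ.mem_charCenter.2 h5.symm

section Simple

variable [IsSimpleGroup G]

theorem center_eq_bot_of_isSimpleGroup (hna : ¬ IsMulCommutative G) : center G = ⊥ :=
  (IsSimpleGroup.eq_bot_or_eq_top_of_normal (center G) inferInstance).resolve_right fun h =>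
    hna ⟨⟨fun a b => (mem_center_iff.1 (h ▸ mem_top b : b ∈ center G) a)⟩⟩

theorem IrrCharacter.charKer_eq_bot_of_isSimpleGroup {χ : IrrCharacter G}
    (h : χ ≠ IrrCharacter.one G) : charKer χ.1 = ⊥ :=
  (IsSimpleGroup.eq_bot_or_eq_top_of_normal _ inferInstance).resolve_right fun e =>
    h (χ.charKer_eq_top_iff.1 e)

theorem IrrCharacter.charCenter_eq_bot_of_isSimpleGroup (hna : ¬ IsMulCommutative G)
    {χ : IrrCharacter G} (h : χ ≠ IrrCharacter.one G) : charCenter χ.1 = ⊥ := by
  rw [χ.charCenter_eq_center_of_faithful (charKer_eq_bot_of_isSimpleGroup h),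
    center_eq_bot_of_isSimpleGroup hna]

theorem IrrCharacter.one_lt_charDegree_of_isSimpleGroup (hna : ¬ IsMulCommutative G)
    {χ : IrrCharacter G} (h : χ ≠ IrrCharacter.one G) : 1 < charDegree χ.1 := by
  have h1 := χ.charDegree_pos
  by_contra h2
  have h3 : charDegree χ.1 = 1 := by omega
  have h4 := χ.charCenter_eq_top_iff.2 (by rw [χ.isCharacter.apply_one, h3, Nat.cast_one])
  rw [charCenter_eq_bot_of_isSimpleGroup hna h] at h4
  exact bot_ne_top h4

theorem IrrCharacter.faithful_of_isSimpleGroup {χ : IrrCharacter G}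
    (h : χ ≠ IrrCharacter.one G) (g : G) (hg : χ g = χ 1) : g = 1 := by
  have := χ.isCharacter.mem_charKer.2 hg
  rwa [charKer_eq_bot_of_isSimpleGroup h, mem_bot] at this

theorem not_hasNormalPComplement_of_isSimpleGroup (hna : ¬ IsMulCommutative G) {p : ℕ}
    [Fact p.Prime] (hp : p ∣ Nat.card G) : ¬ HasNormalPComplement p G := fun h => by
  rcases IsSimpleGroup.eq_bot_or_eq_top_of_normal (pPrimeCore p G) inferInstance with e | e
  · have h1 := h.index_pPrimeCore
    rw [e, index_bot] at h1
    haveI := (IsPGroup.of_card h1).isNilpotent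
    exact hna (isMulCommutative_of_isSimpleGroup_of_nilpotent_index_pow (k := 0) Nat.prime_two ⊤
      (by simp))
  · have := not_dvd_card_pPrimeCore p G
    rw [e, card_top] at this
    exact this hp

theorem not_isSolvable_of_isSimpleGroup (hna : ¬ IsMulCommutative G) : ¬ Group.IsSolvable G :=
  fun h => hna ⟨⟨IsSimpleGroup.comm_iff_isSolvable.2 h⟩⟩

theorem injective_toPermHom_of_isSimpleGroup {H : Subgroup G} (h : H ≠ ⊤) :
    Function.Injective (MulAction.toPermHom G (G ⧸ H)) := by
  rw [← MonoidHom.ker_eq_bot_iff, ← normalCore_eq_ker]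
  exact (IsSimpleGroup.eq_bot_or_eq_top_of_normal _ inferInstance).resolve_right fun e =>
    h (top_le_iff.1 (e ▸ normalCore_le H))

/-- A simple group of order `60` is the alternating group of degree five. -/
theorem nonempty_equiv_alternatingGroup_of_card_eq_sixty (hna : ¬ IsMulCommutative G)
    (h : Nat.card G = 60) : Nonempty (G ≃* alternatingGroup (Fin 5)) := by
  obtain ⟨P⟩ : Nonempty (Sylow 2 G) := inferInstance
  have hP : Nat.card P = 4 := by
    rw [P.card_eq_multiplicity, h]
    have : (60 : ℕ).factorization 2 = 2 := by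
      rw [show 60 = 2 ^ 2 * 15 from rfl, Nat.factorization_mul (by norm_num) (by norm_num),
        Finsupp.add_apply, Nat.factorization_eq_zero_of_not_dvd (n := 15) (by norm_num),
        Nat.Prime.factorization_pow Nat.prime_two]
      simp
    rw [this]
    rfl
  set N := normalizer ((P : Subgroup G) : Set G) with hN
  have hle : (P : Subgroup G) ≤ N := le_normalizer
  have h15 : (P : Subgroup G).index = 15 := by
    have := (P : Subgroup G).card_mul_index
    rw [hP, h] at this
    omega
  have hd : N.index ∣ 15 := h15 ▸ index_dvd_of_le hle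
  have hNt : N ≠ ⊤ := fun e => by
    rcases IsSimpleGroup.eq_bot_or_eq_top_of_normal _ (normalizer_eq_top_iff.1 e) with e | e <;>
      simp [e, h] at h15
  have hinj := injective_toPermHom_of_isSimpleGroup hNt
  have hfac : 60 ∣ N.index.factorial := by
    letI : Fintype (G ⧸ N) := Fintype.ofFinite _
    have := card_dvd_of_injective _ hinj
    rwa [h, Nat.card_perm] at this
  have h5 : N.index = 5 := by
    have h1 : N.index ≠ 15 := fun e => by
      have e1 : N = P := by
        have := relIndex_mul_index hle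
        rw [e, h15] at this
        exact le_antisymm (relIndex_eq_one.1 (by omega)) hle
      have hc : IsMulCommutative (P : Subgroup G) :=
        IsPGroup.isMulCommutative_of_card_eq_prime_sq (p := 2) hP
      refine not_hasNormalPComplement_of_isSimpleGroup hna (p := 2) (by rw [h]; norm_num)
        (hasNormalPComplement_of_normalizer_le_centralizer P ?_)
      exact e1.le.trans (le_centralizer _)
    have h2 := Nat.le_of_dvd (by norm_num) hd
    generalize N.index = n at hd hfac h1 h2
    interval_cases n <;> first | rfl | contradiction | (exfalso; revert hd hfac; decide)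
  letI : Fintype (G ⧸ N) := Fintype.ofFinite _
  have e : (G ⧸ N) ≃ Fin 5 := Fintype.equivFinOfCardEq (by rw [← Nat.card_eq_fintype_card]; exact h5)
  let f : G →* Equiv.Perm (Fin 5) :=
    (e.permCongrHom.toMonoidHom).comp (MulAction.toPermHom G (G ⧸ N))
  have hf : Function.Injective f := e.permCongrHom.injective.comp hinj
  have hs : (Equiv.Perm.sign.comp f).ker = ⊤ := by
    refine (IsSimpleGroup.eq_bot_or_eq_top_of_normal _ inferInstance).resolve_left fun e' => ?_
    have := card_dvd_of_injective _ ((MonoidHom.ker_eq_bot_iff _).1 e')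
    rw [h, Nat.card_eq_fintype_card, Fintype.card_units_int] at this
    omega
  have hm : ∀ g, f g ∈ alternatingGroup (Fin 5) := fun g =>
    (hs ▸ mem_top g : g ∈ (Equiv.Perm.sign.comp f).ker)
  refine ⟨MulEquiv.ofBijective (f.codRestrict _ hm) ?_⟩
  rw [Nat.bijective_iff_injective_and_card]
  refine ⟨fun a b hab => hf (congrArg Subtype.val hab), ?_⟩
  have := two_mul_nat_card_alternatingGroup (α := Fin 5)
  rw [Nat.card_perm, Nat.card_eq_fintype_card (α := Fin 5), Fintype.card_fin] at this
  rw [h]
  change _ = 120 at this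
  omega

end Simple

end Cfsg
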