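import Cfsg.Agent.Char.Eigen
import Cfsg.Agent.Char.Abelian
import Cfsg.Agent.Grp.PPart
import Mathlib.RingTheory.RootsOfUnity.CyclotomicUnits
import Mathlib.RingTheory.RootsOfUnity.Lemmas

/-!
# An integrality argument for abelian trivial-intersection Sylow subgroups
-/

set_option autoImplicit false
set_option linter.unusedSectionVars false
set_option linter.unusedVariables false
set_option linter.style.haveILetI false

namespace Cfsg

open Subgroup
open scoped Classical

universe u v w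

variable {G : Type u} [Group G] [Finite G]

/-- A sum over a set with a free action is a sum of full orbits. -/
theorem exists_sum_eq_sum_transversal {P : Type w} [Group P] [Fintype P] {Ω : Type*}
    [MulAction P Ω] {W : Type*} [AddCommMonoid W] (F : Ω → W) (s : Finset Ω) :
    (∀ (y : P), ∀ x ∈ s, y • x ∈ s) → (∀ (y : P), ∀ x ∈ s, y • x = x → y = 1) →
      ∃ T ⊆ s, ∑ x ∈ s, F x = ∑ t ∈ T, ∑ y : P, F (y • t) := by
  induction s using Finset.strongInduction with
  | H s ih =>
    intro hs hfree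
    rcases s.eq_empty_or_nonempty with rfl | ⟨x, hx⟩
    · exact ⟨∅, by simp⟩
    let O : Finset Ω := Finset.univ.image fun y : P => y • x
    have hO : O ⊆ s := by
      intro t ht
      obtain ⟨y, -, rfl⟩ := Finset.mem_image.1 ht
      exact hs y x hx
    have hxO : x ∈ O := Finset.mem_image.2 ⟨1, Finset.mem_univ _, one_smul _ _⟩
    have hO' : ∀ (y : P) t, y • t ∈ O → t ∈ O := fun y t h => by
      obtain ⟨y', -, e⟩ := Finset.mem_image.1 h
      exact Finset.mem_image.2 ⟨y⁻¹ * y', Finset.mem_univ _, by rw [mul_smul, e, inv_smul_smul]⟩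
    obtain ⟨T, hTs, hT⟩ := ih (s \ O) (Finset.sdiff_ssubset hO ⟨x, hxO⟩) (by
      intro y t ht
      rw [Finset.mem_sdiff] at ht ⊢
      exact ⟨hs y t ht.1, fun h => ht.2 (hO' y t h)⟩)
      fun y t ht => hfree y t (Finset.mem_sdiff.1 ht).1
    have hinj : ∑ t ∈ O, F t = ∑ y : P, F (y • x) := by
      rw [Finset.sum_image]
      intro a _ b _ e
      have := hfree (b⁻¹ * a) x hx (by rw [mul_smul, show a • x = b • x from e, inv_smul_smul])
      rw [inv_mul_eq_one] at this
      exact this.symm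
    refine ⟨insert x T, Finset.insert_subset hx (hTs.trans Finset.sdiff_subset), ?_⟩
    rw [← Finset.sum_sdiff hO, hT, hinj, Finset.sum_insert fun e =>
      (Finset.mem_sdiff.1 (hTs e)).2 hxO, add_comm]

section Lev

variable {U : Type v} [AddCommGroup U] [Module ℂ U] {W : Type w} [AddCommGroup W] [Module ℂ W]
  (P : Subgroup G) [Fintype P]

/-- The projection onto the `lam`-eigenspace of `P`. -/
noncomputable def fourRep (τ : Representation ℂ G U) (lam : P →* ℂˣ) : Module.End ℂ U :=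
  (Nat.card P : ℂ)⁻¹ • ∑ u : P, ((lam u⁻¹ : ℂˣ) : ℂ) • τ u

/-- `c` times each eigenprojection of `P` is integral. -/
def LevRep (τ : Representation ℂ G U) (c : ℂ) : Prop :=
  ∃ S : Submonoid (Module.End ℂ U), (S : Set (Module.End ℂ U)).Finite ∧ (∀ g, τ g ∈ S) ∧
    ∀ lam, c • fourRep P τ lam ∈ Submodule.span AlgInt (S : Set (Module.End ℂ U))

variable {P}

theorem rep_eq_sum_fourRep [Fintype (P →* ℂˣ)] (hP : ∀ a b : P, a * b = b * a)
    (τ : Representation ℂ G U) (u : P) :
    τ u = ∑ lam : P →* ℂˣ, ((lam u : ℂˣ) : ℂ) • fourRep P τ lam := by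
  have hc : commutator P = ⊥ := by
    rw [_root_.commutator_def, commutator_eq_bot_iff_le_centralizer]
    exact fun a _ b _ => hP b a
  have h0 : (Nat.card P : ℂ) ≠ 0 := Nat.cast_ne_zero.2 Nat.card_pos.ne'
  simp only [fourRep, Finset.smul_sum, smul_smul]
  rw [Finset.sum_comm, Finset.sum_eq_single u, ← Finset.sum_smul]
  · simp only [map_inv, Units.val_inv_eq_inv_val]
    rw [Finset.sum_congr rfl (g := fun _ => (Nat.card P : ℂ)⁻¹) fun lam _ => by field_simp,
      Finset.sum_const, Finset.card_univ, ← Nat.card_eq_fintype_card, card_linear_of_comm hP,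
      nsmul_eq_mul, mul_inv_cancel₀ h0, one_smul]
  · intro v _ hv
    have := sum_linear_apply (u * v⁻¹)
    rw [hc, if_neg (by rw [mem_bot, mul_inv_eq_one]; exact hv.symm)] at this
    rw [← Finset.sum_smul, Finset.sum_congr rfl
      (g := fun lam : P →* ℂˣ => (Nat.card P : ℂ)⁻¹ * (lam (u * v⁻¹) : ℂˣ))
      fun lam _ => by rw [map_mul, Units.val_mul]; ring, ← Finset.mul_sum, this, mul_zero,
      zero_smul]
  · simp

theorem mul_mem_span_submonoid {R A : Type*} [CommRing R] [Ring A] [Algebra R A] (S : Submonoid A)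
    {a b : A} (ha : a ∈ Submodule.span R (S : Set A)) (hb : b ∈ Submodule.span R (S : Set A)) :
    a * b ∈ Submodule.span R (S : Set A) := by
  have := Submodule.mul_mem_mul ha hb
  rw [Submodule.span_mul_span] at this
  refine Submodule.span_mono ?_ this
  rintro _ ⟨x, hx, y, hy, rfl⟩
  exact S.mul_mem hx hy

/-- Two-sided composition. -/
noncomputable def biComp : Module.End ℂ U →ₗ[ℂ] Module.End ℂ W →ₗ[ℂ] Module.End ℂ (U →ₗ[ℂ] W) :=
  LinearMap.mk₂ ℂ (fun a b => (LinearMap.llcomp ℂ U W W b) ∘ₗ (LinearMap.lcomp ℂ W a))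
    (fun _ _ _ => by ext; simp) (fun _ _ _ => by ext; simp) (fun _ _ _ => by ext; simp)
    (fun _ _ _ => by ext; simp)

theorem biComp_apply (a : Module.End ℂ U) (b : Module.End ℂ W) (f : U →ₗ[ℂ] W) :
    biComp a b f = b ∘ₗ f ∘ₗ a := rfl

theorem LevRep.linHom (hP : ∀ a b : P, a * b = b * a) {ρ : Representation ℂ G U}
    {σ : Representation ℂ G W} {c c' : ℂ} (h : LevRep P ρ c) (h' : LevRep P σ c') :
    LevRep P (ρ.linHom σ) (c * c') := by
  let _ := Fintype.ofFinite (P →* ℂˣ)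
  obtain ⟨S, h1, h2, h3⟩ := h
  obtain ⟨S', h1', h2', h3'⟩ := h'
  let T : Submonoid (Module.End ℂ (U →ₗ[ℂ] W)) :=
    { carrier := Set.image2 (fun a b => biComp a b) S S'
      one_mem' := ⟨1, S.one_mem, 1, S'.one_mem, rfl⟩
      mul_mem' := by
        rintro _ _ ⟨a, ha, b, hb, rfl⟩ ⟨a', ha', b', hb', rfl⟩
        exact ⟨a' * a, S.mul_mem ha' ha, b * b', S'.mul_mem hb hb', rfl⟩ }
  refine ⟨T, h1.image2 _ h1', fun g => ⟨_, h2 g⁻¹, _, h2' g, rfl⟩, fun mu => ?_⟩
  have h4 : fourRep P (ρ.linHom σ) mu =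
      ∑ lam, biComp (fourRep P ρ lam) (fourRep P σ (mu * lam)) := by
    have h5 : ∀ u : P, ρ.linHom σ u = biComp (ρ (u⁻¹ : P)) (σ u) := fun u => rfl
    conv_lhs => unfold fourRep
    simp only [h5, rep_eq_sum_fourRep hP ρ, map_sum, map_smul, LinearMap.sum_apply,
      LinearMap.smul_apply, Finset.smul_sum, smul_smul]
    rw [Finset.sum_comm]
    refine Finset.sum_congr rfl fun lam _ => ?_
    conv_rhs => rw [fourRep.eq_1 P σ]
    simp only [map_sum, map_smul, Finset.smul_sum, smul_smul, MonoidHom.mul_apply, Units.val_mul]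
  rw [h4, Finset.smul_sum]
  refine Submodule.sum_mem _ fun lam _ => ?_
  rw [show (c * c') • biComp (fourRep P ρ lam) (fourRep P σ (mu * lam)) =
    biComp (c • fourRep P ρ lam) (c' • fourRep P σ (mu * lam)) by
      simp only [map_smul, LinearMap.smul_apply, smul_smul, mul_comm]]
  refine Submodule.span_induction₂ (p := fun a b _ _ => biComp a b ∈ Submodule.span AlgInt
    (T : Set (Module.End ℂ (U →ₗ[ℂ] W)))) ?_ ?_ ?_ ?_ ?_ ?_ ?_ (h3 lam) (h3' (mu * lam))
  · exact fun a b ha hb => Submodule.subset_span ⟨a, ha, b, hb, rfl⟩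
  · simp
  · simp
  · intro a b d _ _ _ h h'
    rw [map_add, LinearMap.add_apply]
    exact add_mem h h'
  · intro a b d _ _ _ h h'
    rw [map_add]
    exact add_mem h h'
  · intro r a b _ _ h
    rw [Subalgebra.smul_def, map_smul, LinearMap.smul_apply, ← Subalgebra.smul_def]
    exact Submodule.smul_mem _ _ h
  · intro r a b _ _ h
    rw [Subalgebra.smul_def, map_smul, ← Subalgebra.smul_def]
    exact Submodule.smul_mem _ _ h

/-- For a TI Sylow subgroup and an integral enough representation, the fixed points of the Sylow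
normalizer are fixed by the whole group. -/
theorem LevRep.fixed {p : ℕ} [Fact p.Prime] {P : Sylow p G} [Fintype (P : Subgroup G)]
    (hTI : ∀ Q : Sylow p G, Q ≠ P → (P : Subgroup G) ⊓ Q = ⊥) {τ : Representation ℂ G U}
    {c π : ℂ} (h : LevRep (P : Subgroup G) τ c) (hπ : ¬ IsIntegral ℤ π⁻¹) {y : ℂ}
    (hy : y ∈ AlgInt) (hc : (Nat.card (P : Subgroup G) : ℂ) = π * y * c) {v : U}
    (hv : ∀ n ∈ normalizer ((P : Subgroup G) : Set G), τ n v = v) (g : G) : τ g v = v := by
  obtain ⟨S, h1, h2, h3⟩ := h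
  let _ := Fintype.ofFinite (Sylow p G)
  choose r hr using fun Q : Sylow p G => MulAction.exists_smul_eq G P Q
  have h4 : ∀ w : U, (∀ n ∈ normalizer ((P : Subgroup G) : Set G), τ n w = w) → ∀ (y : G) Q,
      τ (r (y • Q)) w = τ y (τ (r Q) w) := fun w hw y Q => by
    have := hw ((r (y • Q))⁻¹ * y * r Q) (Sylow.smul_eq_iff_mem_normalizer.1 (by
      rw [mul_smul, mul_smul, hr, inv_smul_eq_iff, hr]))
    conv_lhs => rw [← this]
    simp only [← Module.End.mul_apply, ← map_mul, mul_assoc, mul_inv_cancel_left]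
  have h5 : ∀ y : G, τ y (∑ Q, τ (r Q) v) = ∑ Q, τ (r Q) v := fun y => by
    rw [map_sum, ← Equiv.sum_comp (MulAction.toPerm y) fun Q => τ (r Q) v]
    exact Finset.sum_congr rfl fun Q _ => (h4 v hv y Q).symm
  obtain ⟨s, hs⟩ : ∃ s : ℂ, s = (Fintype.card (Sylow p G) : ℂ) := ⟨_, rfl⟩
  have hs0 : s ≠ 0 := hs ▸ Nat.cast_ne_zero.2 Fintype.card_ne_zero
  obtain ⟨w, hw⟩ : ∃ w, w = ∑ Q, τ (r Q) v - s • v := ⟨_, rfl⟩
  have h6 : ∀ n ∈ normalizer ((P : Subgroup G) : Set G), τ n w = w := fun n hn => by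
    rw [hw, map_sub, h5, map_smul, hv n hn]
  have h7 : ∑ Q, τ (r Q) w = 0 := by
    simp only [hw, map_sub, h5, map_smul, Finset.sum_sub_distrib, Finset.sum_const,
      Finset.card_univ, ← Finset.smul_sum]
    rw [hs, Nat.cast_smul_eq_nsmul, sub_self]
  suffices w = 0 by
    have h8 : v = s⁻¹ • ∑ Q, τ (r Q) v := by
      rw [eq_inv_smul_iff₀ hs0, eq_comm, ← sub_eq_zero, ← hw, this]
    rw [h8, map_smul, h5]
  by_contra hw0
  obtain ⟨T, -, hT⟩ := exists_sum_eq_sum_transversal (P := (P : Subgroup G))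
    (fun Q : Sylow p G => τ (r Q) w) (Finset.univ.erase P) (fun y Q hQ => by
      rw [Finset.mem_erase] at hQ ⊢
      refine ⟨fun e => hQ.1 ?_, Finset.mem_univ _⟩
      rw [← inv_smul_smul y Q, e]
      exact Sylow.smul_eq_iff_mem_normalizer.2 (le_normalizer (y⁻¹).2)) fun y Q hQ e => by
      have h8 : (y : G) ∈ (Q : Subgroup G) := (((P.isPGroup'.inf_normalizer_sylow Q).le
        ⟨y.2, Sylow.smul_eq_iff_mem_normalizer.1 e⟩)).2
      exact Subtype.ext (mem_bot.1 (hTI Q (Finset.ne_of_mem_erase hQ) ▸ ⟨y.2, h8⟩))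
  have h8 : τ (r P) w = w := h6 _ (Sylow.smul_eq_iff_mem_normalizer.1 (hr P))
  rw [← Finset.add_sum_erase _ _ (Finset.mem_univ P), hT, h8] at h7
  have h9 : ∑ u : (P : Subgroup G), τ u = π • (y • c • fourRep (P : Subgroup G) τ 1) := by
    simp only [fourRep, MonoidHom.one_apply, Units.val_one, one_smul, smul_smul]
    rw [← mul_assoc, ← mul_assoc, ← hc, mul_inv_cancel₀ (Nat.cast_ne_zero.2 Nat.card_pos.ne'),
      one_smul]
  obtain ⟨b, hb, h10⟩ : ∃ b ∈ Submodule.span AlgInt (S : Set (Module.End ℂ U)),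
      w + π • b w = 0 := by
    refine ⟨(y • c • fourRep (P : Subgroup G) τ 1) * ∑ t ∈ T, τ (r t), mul_mem_span_submonoid S
      (Submodule.smul_mem _ (⟨y, hy⟩ : AlgInt) (h3 1))
      (Submodule.sum_mem _ fun t _ => Submodule.subset_span (h2 _)), ?_⟩
    rw [← h7, ← LinearMap.smul_apply, ← smul_mul_assoc, ← h9, Finset.mul_sum, LinearMap.sum_apply]
    congr 1
    refine Finset.sum_congr rfl fun t _ => ?_
    rw [Finset.sum_mul, LinearMap.sum_apply]
    exact Finset.sum_congr rfl fun u _ => (h4 w h6 u t).symm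
  have hπ0 : π ≠ 0 := fun e => hπ (by rw [e, inv_zero]; exact isIntegral_zero)
  let ev : Module.End ℂ U →ₗ[AlgInt] U := (LinearMap.applyₗ w).restrictScalars AlgInt
  refine hπ (isIntegral_trans (A := AlgInt) _ (isIntegral_of_smul_mem_submodule
    ((Submodule.span AlgInt (S : Set (Module.End ℂ U))).map ev) (fun e => hw0 ?_)
    ((Submodule.fg_span h1).map _) _ ?_))
  · exact (Submodule.mem_bot AlgInt).1 (e.le ⟨1, Submodule.subset_span S.one_mem, rfl⟩)
  · rintro _ ⟨a, ha, rfl⟩
    refine ⟨-(a * b), neg_mem (mul_mem_span_submonoid S ha hb), ?_⟩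
    change -(a (b w)) = π⁻¹ • a w
    rw [eq_inv_smul_iff₀ hπ0, ← map_neg, ← map_smul, smul_neg, neg_eq_of_add_eq_zero_left h10]

/-- An abelian TI Sylow subgroup is normal if some faithful representation is integral enough. -/
theorem LevRep.normal {p : ℕ} [Fact p.Prime] {P : Sylow p G} [Fintype (P : Subgroup G)]
    (hP : ∀ a b : (P : Subgroup G), a * b = b * a)
    (hTI : ∀ Q : Sylow p G, Q ≠ P → (P : Subgroup G) ⊓ Q = ⊥) {ρ : Representation ℂ G U}
    (hρ : Function.Injective ρ) {c π : ℂ} (h : LevRep (P : Subgroup G) ρ c)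
    (hπ : ¬ IsIntegral ℤ π⁻¹) {y : ℂ} (hy : y ∈ AlgInt)
    (hc : (Nat.card (P : Subgroup G) : ℂ) = π * y * c ^ 4) : (P : Subgroup G).Normal := by
  have h0 : (Nat.card (P : Subgroup G) : ℂ) ≠ 0 := Nat.cast_ne_zero.2 Nat.card_pos.ne'
  have h1 := h.linHom hP h
  set σ := ρ.linHom ρ
  have hσ : ∀ g a, σ g a = ρ g * a * ρ g⁻¹ := fun g a => rfl
  have h2 := (h1.linHom hP h1).fixed hTI hπ hy (hc.trans (by ring))
    (v := ∑ u : (P : Subgroup G), σ u) fun n hn => by
      rw [map_sum, ← Equiv.sum_comp ((P : Subgroup G).normalizerMonoidHom ⟨n, hn⟩).toEquiv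
        fun u => σ u]
      refine Finset.sum_congr rfl fun u _ => ?_
      change σ n * σ u * σ n⁻¹ = σ (n * u * n⁻¹)
      rw [map_mul, map_mul]
  have h3 : ∀ (g : G) (u y : (P : Subgroup G)), (y : G) * (g * u * g⁻¹) = g * u * g⁻¹ * y := by
    intro g u y
    have h4 := congrArg (fun f => f (σ g (ρ u))) (h2 g)
    simp only [Representation.linHom_apply, LinearMap.comp_apply, Representation.inv_self_apply,
      LinearMap.sum_apply] at h4
    rw [Finset.sum_congr rfl (g := fun _ => ρ u) fun x _ => by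
      rw [hσ, ← map_mul, ← map_mul, ← coe_mul, hP, coe_mul, mul_inv_cancel_right],
      Finset.sum_const, Finset.card_univ, map_nsmul, ← Nat.card_eq_fintype_card] at h4
    have h5 : σ y (∑ x : (P : Subgroup G), σ x (σ g (ρ u))) =
        ∑ x : (P : Subgroup G), σ x (σ g (ρ u)) := by
      rw [map_sum, ← Equiv.sum_comp (Equiv.mulLeft y) fun x : (P : Subgroup G) =>
        σ x (σ g (ρ u))]
      exact Finset.sum_congr rfl fun x _ => by
        rw [← Module.End.mul_apply, ← map_mul]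
        rfl
    rw [← h4, map_nsmul, ← Nat.cast_smul_eq_nsmul ℂ, ← Nat.cast_smul_eq_nsmul ℂ,
      smul_right_inj h0, hσ, hσ] at h5
    simp only [← map_mul] at h5
    rw [← mul_inv_eq_iff_eq_mul]
    exact hρ h5
  refine ⟨fun u hu g => ?_⟩
  refine ((isPElt_iff_isPGroup_zpowers.1 (isPElt_conj_iff.2 (isPElt_of_mem P.isPGroup' hu)
    )).inf_normalizer_sylow P).le ⟨mem_zpowers _, centralizer_le_normalizer _ fun y hy => ?_⟩ |>.2
  exact h3 g ⟨u, hu⟩ ⟨y, hy⟩

end Lev

/-- A set of at most `2 n` elements, with classes of at most `n` elements, is covered by `n`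
singletons or pairs of inequivalent elements. -/
theorem good_of_card_le_two_mul {ι κ : Type*} [DecidableEq ι] [DecidableEq κ] (k : ι → κ) (Good : Finset ι → ℕ → Prop)
    (h0 : ∀ n, Good ∅ n) (h1 : ∀ S n a, Good S n → Good (insert a S) (n + 1))
    (h2 : ∀ S n a b, k a ≠ k b → Good S n → Good (insert a (insert b S)) (n + 1)) (n : ℕ) :
    ∀ S : Finset ι, S.card ≤ 2 * n → (∀ c, (S.filter fun i => k i = c).card ≤ n) → Good S n := by
  have h3 : ∀ (n : ℕ) (S : Finset ι), S.card ≤ n → Good S n := by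
    intro n
    induction n with
    | zero => exact fun S hS => Finset.card_eq_zero.1 (Nat.le_zero.1 hS) ▸ h0 0
    | succ n ih =>
      intro S hS
      rcases S.eq_empty_or_nonempty with rfl | ⟨a, ha⟩
      · exact h0 _
      · rw [← Finset.insert_erase ha]
        exact h1 _ _ _ (ih _ (by rw [Finset.card_erase_of_mem ha]; omega))
  induction n with
  | zero => exact fun S hS _ => h3 0 S hS
  | succ n ih =>
    intro S hS hc
    rcases S.eq_empty_or_nonempty with rfl | hne
    · exact h0 _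
    obtain ⟨a, ha, hma⟩ := S.exists_max_image (fun i => (S.filter fun j => k j = k i).card) hne
    rcases (S.filter fun j => k j ≠ k a).eq_empty_or_nonempty with he | hne'
    · refine h3 _ _ (le_trans (Finset.card_le_card fun i hi => ?_) (hc (k a)))
      exact Finset.mem_filter.2 ⟨hi, not_not.1 (Finset.filter_eq_empty_iff.1 he hi)⟩
    obtain ⟨b, hb, hmb⟩ := Finset.exists_max_image _
      (fun i => (S.filter fun j => k j = k i).card) hne'
    obtain ⟨hb, hab⟩ := Finset.mem_filter.1 hb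
    have hb' : b ∈ S.erase a := Finset.mem_erase.2 ⟨fun e => hab (e ▸ rfl), hb⟩
    rw [← Finset.insert_erase ha, ← Finset.insert_erase hb']
    refine h2 _ _ _ _ hab.symm (ih _ ?_ fun c => ?_)
    · rw [Finset.card_erase_of_mem hb', Finset.card_erase_of_mem ha]
      omega
    have h4 : ∀ x ∈ S, x = a ∨ x = b → k x = c →
        (((S.erase a).erase b).filter fun i => k i = c).card ≤ n := fun x hx hx' e => by
      have := (Finset.card_lt_card (s := ((S.erase a).erase b).filter fun i => k i = c)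
        (t := S.filter fun i => k i = c) ⟨Finset.filter_subset_filter _
          ((Finset.erase_subset _ _).trans (Finset.erase_subset _ _)), fun h => by
            have := h (Finset.mem_filter.2 ⟨hx, e⟩)
            rcases hx' with rfl | rfl <;> simp at this⟩).trans_le (hc c)
      omega
    by_cases e : k a = c
    · exact h4 a ha (Or.inl rfl) e
    by_cases e' : k b = c
    · exact h4 b hb (Or.inr rfl) e'
    by_contra h5
    have h6 : n + 1 ≤ (S.filter fun i => k i = c).card := (not_le.1 h5).trans_le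
      (Finset.card_le_card (Finset.filter_subset_filter _
        ((Finset.erase_subset _ _).trans (Finset.erase_subset _ _))))
    obtain ⟨x, hx'⟩ := Finset.card_pos.1 ((Nat.succ_pos n).trans_le h6)
    obtain ⟨hx, rfl⟩ := Finset.mem_filter.1 hx'
    have h7 := hma x hx
    have h8 := hmb x (Finset.mem_filter.2 ⟨hx, fun e'' => e e''.symm⟩)
    have h9 := Finset.card_le_card (s := (S.filter fun i => k i = k a) ∪
      ((S.filter fun i => k i = k b) ∪ S.filter fun i => k i = k x)) (t := S)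
      (Finset.union_subset (Finset.filter_subset _ _)
        (Finset.union_subset (Finset.filter_subset _ _) (Finset.filter_subset _ _)))
    rw [Finset.card_union_of_disjoint, Finset.card_union_of_disjoint] at h9
    · omega
    · exact Finset.disjoint_filter.2 fun i _ h h' => e' (h.symm.trans h')
    · rw [Finset.disjoint_union_right]
      exact ⟨Finset.disjoint_filter.2 fun i _ h h' => hab (h'.symm.trans h),
        Finset.disjoint_filter.2 fun i _ h h' => e (h.symm.trans h')⟩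

section Cyclo

variable {p : ℕ} [hp : Fact p.Prime] {ζ : ℂ}

theorem exists_algInt_sub_one_eq_mul (hζ : IsPrimitiveRoot ζ p) {α β : ℂ} (hα : α ^ p = 1)
    (hβ : β ^ p = 1) (h : α ≠ β) : ∃ y ∈ AlgInt, ζ - 1 = y * (α - β) := by
  have h0 := hp.out.ne_zero
  let ζ' : AlgInt := ⟨ζ, isIntegral_of_pow_eq_one h0 hζ.pow_eq_one⟩
  have h1 : IsPrimitiveRoot ζ' p := IsPrimitiveRoot.coe_submonoidClass_iff.1 hζ
  have h2 := h1.nthRootsFinset_pairwise_associated_sub_one_sub_of_prime hp.out
    (x := ⟨α, isIntegral_of_pow_eq_one h0 hα⟩) (y := ⟨β, isIntegral_of_pow_eq_one h0 hβ⟩)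
    ((Polynomial.mem_nthRootsFinset hp.out.pos _).2 (Subtype.ext hα))
    ((Polynomial.mem_nthRootsFinset hp.out.pos _).2 (Subtype.ext hβ))
    fun e => h (congrArg Subtype.val e)
  obtain ⟨y, hy⟩ := h2.symm.dvd
  exact ⟨y, y.2, (congrArg Subtype.val hy).trans (mul_comm _ _)⟩

theorem associated_sub_one_pow_prime {A : Type*} [CommRing A] [IsDomain A] {ζ : A}
    (hζ : IsPrimitiveRoot ζ p) : Associated ((ζ - 1) ^ (p - 1)) (p : A) := by
  obtain ⟨n, rfl⟩ : ∃ n, p = n + 1 := ⟨p - 1, (Nat.sub_add_cancel hp.out.one_le).symm⟩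
  rw [Nat.cast_succ, ← hζ.prod_one_sub_pow_eq_order, Nat.add_sub_cancel,
    ← Finset.card_range n, ← Finset.prod_const, Finset.card_range]
  refine Associated.prod _ _ _ fun k hk => ?_
  rw [← neg_sub (ζ ^ (k + 1))]
  refine (hζ.associated_sub_one_pow_sub_one_of_coprime ?_).neg_right
  exact (Nat.coprime_of_lt_prime (Nat.succ_ne_zero k)
    (Nat.succ_lt_succ (Finset.mem_range.1 hk)) hp.out).symm

theorem not_isIntegral_inv_sub_one (hζ : IsPrimitiveRoot ζ p) : ¬ IsIntegral ℤ (ζ - 1)⁻¹ := by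
  intro h
  let ζ' : AlgInt := ⟨ζ, isIntegral_of_pow_eq_one hp.out.ne_zero hζ.pow_eq_one⟩
  have h1 : IsPrimitiveRoot ζ' p := IsPrimitiveRoot.coe_submonoidClass_iff.1 hζ
  have h2 : IsUnit (ζ' - 1) := .of_mul_eq_one ⟨_, h⟩
    (Subtype.ext (mul_inv_cancel₀ (sub_ne_zero.2 (hζ.ne_one hp.out.one_lt))))
  obtain ⟨y, hy⟩ := ((associated_sub_one_pow_prime h1).isUnit (h2.pow _)).exists_right_inv
  have h3 : (y : ℂ) = (1 : ℕ) / (p : ℕ) := by
    rw [eq_div_iff (Nat.cast_ne_zero.2 hp.out.ne_zero), mul_comm, Nat.cast_one]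
    exact congrArg Subtype.val hy
  exact hp.out.one_lt.ne' (Nat.dvd_one.1 (nat_dvd_of_isIntegral_div hp.out.ne_zero (h3 ▸ y.2)))

theorem exists_algInt_pow_eq_mul (hζ : IsPrimitiveRoot ζ p) {n m : ℕ} (h : m ≤ n * (p - 1)) :
    ∃ y ∈ AlgInt, (p : ℂ) ^ n = y * (ζ - 1) ^ m := by
  let ζ' : AlgInt := ⟨ζ, isIntegral_of_pow_eq_one hp.out.ne_zero hζ.pow_eq_one⟩
  have h1 : IsPrimitiveRoot ζ' p := IsPrimitiveRoot.coe_submonoidClass_iff.1 hζ
  have h2 : (ζ' - 1) ^ m ∣ (p : AlgInt) ^ n := (pow_dvd_pow (ζ' - 1) h).trans (by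
    rw [mul_comm, pow_mul]
    exact pow_dvd_pow_of_dvd (associated_sub_one_pow_prime h1).dvd n)
  obtain ⟨y, hy⟩ := h2
  exact ⟨y, y.2, (congrArg Subtype.val hy).trans (mul_comm _ _)⟩

theorem exists_apply_eq_of_ker_ne {A : Type*} [Group A] {f g : A →* ℂˣ}
    (hA : ∀ a : A, a ^ p = 1) (hf : f ≠ 1) (hg : g ≠ 1) (h : f.ker ≠ g.ker) :
    ∃ u, f u = g u ∧ f u ≠ 1 := by
  have h1 : ∀ (f : A →* ℂˣ) a, f a ≠ 1 → ∀ b, ∃ k : ℕ, f (a ^ k) = f b := fun f a ha b => by
    have h2 : IsPrimitiveRoot (f a) p := (orderOf_eq_prime (by rw [← map_pow, hA, map_one]) ha) ▸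
      IsPrimitiveRoot.orderOf _
    have : NeZero p := ⟨hp.out.ne_zero⟩
    obtain ⟨k, -, hk⟩ := h2.eq_pow_of_mem_rootsOfUnity (ξ := f b)
      (by rw [mem_rootsOfUnity, ← map_pow, hA, map_one])
    exact ⟨k, (map_pow _ _ _).trans hk⟩
  have h2 : ∀ f g : A →* ℂˣ, g ≠ 1 → f.ker ≤ g.ker → g.ker ≤ f.ker := fun f g hg h a ha => by
    by_contra ha'
    refine hg (MonoidHom.ext fun b => ?_)
    obtain ⟨k, hk⟩ := h1 f a ha' b
    have := h (x := (a ^ k)⁻¹ * b) (by rw [MonoidHom.mem_ker, map_mul, map_inv, hk, inv_mul_cancel])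
    rwa [MonoidHom.mem_ker, map_mul, map_inv, map_pow, MonoidHom.mem_ker.1 ha, one_pow, inv_one,
      one_mul] at this
  obtain ⟨a, ha, ha'⟩ := SetLike.not_le_iff_exists.1 fun e => h (le_antisymm e (h2 f g hg e))
  obtain ⟨b, hb, hb'⟩ := SetLike.not_le_iff_exists.1 fun e => h (le_antisymm (h2 g f hf e) e)
  rw [MonoidHom.mem_ker] at ha ha' hb hb'
  have h3 : IsPrimitiveRoot (f b) p := (orderOf_eq_prime (by rw [← map_pow, hA, map_one]) hb') ▸
    IsPrimitiveRoot.orderOf _
  have : NeZero p := ⟨hp.out.ne_zero⟩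
  obtain ⟨k, -, hk⟩ := h3.eq_pow_of_mem_rootsOfUnity (ξ := g a)
    (by rw [mem_rootsOfUnity, ← map_pow, hA, map_one])
  refine ⟨a * b ^ k, ?_, ?_⟩ <;> simp [ha, hb, hk, ha']

theorem levRep_of_eigenbasis (hζ : IsPrimitiveRoot ζ p) {U : Type v} [AddCommGroup U] [Module ℂ U]
    {P : Subgroup G} [Fintype P] (hP : ∀ a : P, a ^ p = 1) (ρ : Representation ℂ G U) {ι : Type*}
    [Fintype ι] (b : Module.Basis ι ℂ U) (f : ι → (P →* ℂˣ))
    (hb : ∀ i (a : P), ρ a (b i) = (f i a : ℂ) • b i) {n : ℕ} (hn : Fintype.card ι ≤ 2 * n + 1)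
    (hker : ∀ g : P →* ℂˣ, ∃ z, z ≠ 1 ∧ g z = 1)
    (hz : ∀ z : P, z ≠ 1 → ∀ α, (Finset.univ.filter fun i => f i z = α).card ≤ n + 1) :
    LevRep P ρ ((ζ - 1) ^ n) := by
  refine ⟨MonoidHom.mrange ρ, Set.finite_range ρ, fun g => ⟨g, rfl⟩, fun lam => ?_⟩
  have h1 : ∀ i, fourRep P ρ lam (b i) = if f i = lam then b i else 0 := fun i => by
    simp only [fourRep, LinearMap.smul_apply, LinearMap.sum_apply, hb, smul_smul,
      ← Finset.sum_smul]
    split_ifs with h
    · simp [h]
    · have := sum_linear_apply_eq_zero (lam := lam⁻¹ * f i) fun e => h (by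
        ext a
        have := DFunLike.congr_fun e a
        simp only [MonoidHom.mul_apply, MonoidHom.inv_apply, MonoidHom.one_apply,
          inv_mul_eq_one] at this
        rw [this])
      simp only [MonoidHom.mul_apply, MonoidHom.inv_apply, Units.val_mul] at this
      simp only [map_inv, this, mul_zero, zero_smul]
  by_cases h2 : ∃ i, f i = lam
  swap
  · rw [b.ext (f₁ := fourRep P ρ lam) (f₂ := 0) fun i => by
      rw [h1, if_neg fun e => h2 ⟨i, e⟩, LinearMap.zero_apply], smul_zero]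
    exact zero_mem _
  obtain ⟨i₀, hi₀⟩ := h2
  have hpow : ∀ (g : P →* ℂˣ) a, (g a : ℂ) ^ p = 1 := fun g a => by
    rw [← Units.val_pow_eq_pow_val, ← map_pow, hP, map_one, Units.val_one]
  let Good : Finset {i // f i ≠ lam} → ℕ → Prop := fun S m =>
    ∃ a ∈ Submodule.span AlgInt (MonoidHom.mrange ρ : Set (Module.End ℂ U)), ∃ c : ι → ℂ,
      (∀ i, a (b i) = c i • b i) ∧ (∀ i ∈ S, c i.1 = 0) ∧ ∀ i, f i = lam → c i = (ζ - 1) ^ m
  have hone : (1 : Module.End ℂ U) ∈
      Submodule.span AlgInt (MonoidHom.mrange ρ : Set (Module.End ℂ U)) :=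
    Submodule.subset_span (one_mem (MonoidHom.mrange ρ))
  have h3 : ∀ (S S' : Finset {i // f i ≠ lam}) m (u : P) (g : P →* ℂˣ), g u ≠ lam u →
      (∀ i ∈ S', i ∈ S ∨ f i u = g u) → Good S m → Good S' (m + 1) := by
    rintro S S' m u g hu hS ⟨a, ha, c, h4, h5, h6⟩
    obtain ⟨y, hy, hy'⟩ := exists_algInt_sub_one_eq_mul hζ (hpow lam u) (hpow g u)
      fun e => hu (Units.ext e.symm)
    refine ⟨y • (ρ u - (g u : ℂ) • 1) * a, mul_mem_span_submonoid _
      (Submodule.smul_mem _ (⟨y, hy⟩ : AlgInt) (sub_mem (Submodule.subset_span ⟨u, rfl⟩)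
        (Submodule.smul_mem _ (⟨_, isIntegral_of_pow_eq_one hp.out.ne_zero (hpow g u)⟩ : AlgInt)
        hone))) ha, fun i => y * (f i u - g u) * c i, fun i => ?_, fun i hi => ?_, fun i hi => ?_⟩
    · simp only [Module.End.mul_apply, h4, map_smul, LinearMap.smul_apply, LinearMap.sub_apply, hb,
        Module.End.one_apply, ← sub_smul, smul_smul]
      congr 1
      ring
    · rcases hS i hi with h | h
      · simp only [h5 i h, mul_zero]
      · simp only [h, sub_self, mul_zero, zero_mul]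
    · simp only [hi, h6 i hi, ← hy', pow_succ']
  have h4 : ∀ i : {i // f i ≠ lam}, f i / lam ≠ 1 := fun i e => i.2 (by
    ext a
    have := DFunLike.congr_fun e a
    simp only [MonoidHom.div_apply, MonoidHom.one_apply, div_eq_one] at this
    rw [this])
  obtain ⟨a, ha, c, h5, h6, h7⟩ := good_of_card_le_two_mul (fun i : {i // f i ≠ lam} =>
    (f i / lam).ker) Good
    (fun m => ⟨(ζ - 1) ^ m • 1, Submodule.smul_mem _ (⟨_, pow_mem (sub_mem
      (isIntegral_of_pow_eq_one hp.out.ne_zero hζ.pow_eq_one) (one_mem AlgInt)) m⟩ : AlgInt) hone,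
      fun _ => (ζ - 1) ^ m, fun _ => rfl, by simp, fun _ _ => rfl⟩)
    (fun S m i h => by
      obtain ⟨u, hu⟩ := DFunLike.ne_iff.1 i.2
      exact h3 S _ m u (f i) hu (fun j hj => (Finset.mem_insert.1 hj).symm.imp_right
        fun e : j = i => e ▸ rfl) h)
    (fun S m i j hij h => by
      obtain ⟨u, hu, hu'⟩ := exists_apply_eq_of_ker_ne hP (h4 i) (h4 j) hij
      simp only [MonoidHom.div_apply, div_left_inj, ne_eq, div_eq_one] at hu hu'
      refine h3 S _ m u (f i) hu' (fun l hl => ?_) h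
      simp only [Finset.mem_insert] at hl
      rcases hl with rfl | rfl | hl
      exacts [Or.inr rfl, Or.inr hu.symm, Or.inl hl]) n Finset.univ (by
      have := Fintype.card_subtype_lt (p := fun i => f i ≠ lam) (x := i₀) (not_not.2 hi₀)
      rw [Finset.card_univ]
      omega) fun K => by
      rcases (Finset.univ.filter fun i : {i // f i ≠ lam} => (f i / lam).ker = K).eq_empty_or_nonempty
        with h | ⟨j, hj⟩
      · rw [h]
        exact Nat.zero_le _
      obtain ⟨z, hz1, hz2⟩ := hker (f j / lam)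
      have h8 := hz z hz1 (lam z)
      have h9 := Finset.card_le_card (s := insert i₀ ((Finset.univ.filter
        fun i : {i // f i ≠ lam} => (f i / lam).ker = K).map (Function.Embedding.subtype _)))
        (t := Finset.univ.filter fun i => f i z = lam z) fun i hi => by
          rw [Finset.mem_insert, Finset.mem_map] at hi
          rcases hi with rfl | ⟨i, hi, rfl⟩
          · simp [hi₀]
          · have : z ∈ (f i / lam).ker := by
              rw [(Finset.mem_filter.1 hi).2, ← (Finset.mem_filter.1 hj).2]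
              exact hz2
            simpa [div_eq_one] using this
      rw [Finset.card_insert_of_notMem (by simp [hi₀]), Finset.card_map] at h9
      omega
  refine b.ext (f₁ := a) (f₂ := (ζ - 1) ^ n • fourRep P ρ lam) (fun i => ?_) ▸ ha
  rw [h5, LinearMap.smul_apply, h1]
  split_ifs with h
  · rw [h7 i h]
  · rw [h6 ⟨i, h⟩ (Finset.mem_univ _), zero_smul, smul_zero]

/-- An elementary abelian TI Sylow `p`-subgroup of order at least `p ^ 2` of a linear group of
degree at most `p - 2` in which no element has a large eigenspace is normal. -/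
theorem IsCharacter.normal_of_ti {χ : G → ℂ} (hχ : IsCharacter G χ)
    (hf : ∀ g, χ g = χ 1 → g = 1) (hp2 : p ≠ 2) (hd : charDegree χ + 2 ≤ p) {P : Sylow p G}
    (hP : ∀ a b : (P : Subgroup G), a * b = b * a) (hP' : ∀ a : (P : Subgroup G), a ^ p = 1)
    (hsq : p ^ 2 ∣ Nat.card G) (hTI : ∀ Q : Sylow p G, Q ≠ P → (P : Subgroup G) ⊓ Q = ⊥)
    (hz : ∀ f : Fin (charDegree χ) → ((P : Subgroup G) →* ℂˣ), 
      (∀ a : (P : Subgroup G), χ a = ∑ i, (f i a : ℂ)) → ∀ z, z ≠ 1 → ∀ α,
      2 * (Finset.univ.filter fun i => f i z = α).card + 1 ≤ p) :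
    (P : Subgroup G).Normal := by
  obtain ⟨d, ρ, rfl⟩ := hχ
  let _ := Fintype.ofFinite (P : Subgroup G)
  have : IsMulCommutative (P : Subgroup G) := ⟨⟨hP⟩⟩
  obtain ⟨b, f, hb⟩ := rep_exists_eigenbasis_of_comm (ρ.comp (P : Subgroup G).subtype)
  obtain ⟨m, hm⟩ := hp.out.odd_of_ne_two hp2
  obtain ⟨n, hn⟩ := P.isPGroup'.exists_card_eq
  have hn2 : 2 ≤ n := by
    have h1 := P.card_eq_multiplicity
    rw [hn] at h1
    rw [Nat.pow_right_injective hp.out.two_le h1]
    exact (hp.out.pow_dvd_iff_le_factorization Nat.card_pos.ne').1 hsq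
  have hζ := Complex.isPrimitiveRoot_exp p hp.out.ne_zero
  have hdeg := charDegree_character ρ
  obtain ⟨y, hy, hy'⟩ := exists_algInt_pow_eq_mul hζ (n := n) (m := 1 + (m - 1) * 4) (by
    have := Nat.mul_le_mul_right (p - 1) hn2
    omega)
  refine (levRep_of_eigenbasis hζ hP' ρ b f hb (n := m - 1) (by rw [Fintype.card_fin]; omega)
    (fun g => ?_) fun z hz1 α => ?_).normal hP hTI (fun a b h => ?_)
    (not_isIntegral_inv_sub_one hζ) hy ?_
  · by_contra! h
    have h1 : Function.Injective g := (injective_iff_map_eq_one g).2 fun a ha =>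
      by_contra fun e => h a e ha
    have : IsCyclic (P : Subgroup G) := isCyclic_of_injective_ringHom
      ((Units.coeHom ℂ).comp g) (Units.val_injective.comp h1)
    obtain ⟨a, ha⟩ := IsCyclic.exists_ofOrder_eq_natCard (α := (P : Subgroup G))
    have h2 := Nat.le_of_dvd hp.out.pos (orderOf_dvd_of_pow_eq_one (hP' a))
    have h3 := Nat.pow_lt_pow_right hp.out.one_lt (show 1 < n by omega)
    rw [ha, hn] at h2
    rw [pow_one] at h3
    omega
  · revert hz
    rw [hdeg]
    intro hz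
    have := hz f (fun a => trace_eq_sum_of_eigenbasis b fun i => hb i a) z hz1 α
    omega
  · rw [← mul_inv_eq_one]
    exact hf _ ((rep_eq_one_iff_character ρ _).1 (by rw [map_mul, h, ← map_mul, mul_inv_cancel,
      map_one]))
  · rw [hn, Nat.cast_pow, hy', pow_add, pow_mul]
    ring

end Cyclo

end Cfsg

set_option linter.all false in
theorem Cfsg.Rz.Char_TILevel_0 : True := by
  have := @_root_.Cfsg.LevRep.eq_def.{0, 0}
  have := @_root_.Cfsg.LevRep.eq_1.{0, 0}
  have := @_root_.Cfsg.LevRep.fun_cases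
  have := @_root_.Cfsg.fourRep.eq_def.{0, 0}
  have := @_root_.Cfsg.fourRep.fun_cases
  have := @_root_.Cfsg.biComp.eq_def.{0, 0}
  have := @_root_.Cfsg.biComp.eq_1.{0, 0}
  have := @_root_.Cfsg.biComp.fun_cases
  trivial
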