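import Cfsg.Agent.Char.Congr
import Cfsg.Agent.Grp.Basic
import Mathlib.LinearAlgebra.Matrix.ToLinearEquiv

/-!
# Realising the reduction of a character over the field with two elements
-/

set_option autoImplicit false
set_option linter.unusedSectionVars false
set_option linter.style.haveILetI false

namespace Cfsg

open Module Subgroup
open scoped Classical

universe u v

variable {G : Type u} [Group G] [Finite G]

theorem sum_character_eq_mul_finrank {V : Type v} [AddCommGroup V] [Module ℂ V]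
    [FiniteDimensional ℂ V] (ρ : Representation ℂ G V) (Q : Subgroup G) [Fintype Q] :
    ∑ u : Q, ρ.character u = Nat.card Q * finrank ℂ (LinearMap.range (∑ u : Q, ρ u)) := by
  have hc : (Nat.card Q : ℂ) ≠ 0 := Nat.cast_ne_zero.2 Nat.card_pos.ne'
  have h1 : IsIdempotentElem ((Nat.card Q : ℂ)⁻¹ • ∑ u : Q, ρ u) := by
    have : ∀ v : Q, ρ v * ∑ u : Q, ρ u = ∑ u : Q, ρ u := fun v => by
      rw [Finset.mul_sum]
      exact Fintype.sum_equiv (Equiv.mulLeft v) _ _ fun u => by simp
    rw [IsIdempotentElem, smul_mul_smul_comm, Finset.sum_mul, Finset.sum_congr rfl fun v _ => this v,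
      Finset.sum_const, Finset.card_univ, ← Nat.card_eq_fintype_card, ← Nat.cast_smul_eq_nsmul ℂ,
      smul_smul, inv_mul_cancel_right₀ hc]
  have h2 := (LinearMap.IsIdempotentElem.isProj_range _ h1).trace
  rw [LinearMap.range_smul _ _ (inv_ne_zero hc), map_smul, map_sum, smul_eq_mul,
    inv_mul_eq_iff_eq_mul₀ hc] at h2
  exact h2

theorem IsCharacter.sum_mul_eq_zero_of_sum {χ : G → ℂ} (hχ : IsCharacter G χ) (Q : Subgroup G)
    [Fintype Q] (h : ∑ u : Q, χ u = 0) (w : G) : ∑ u : Q, χ (w * u) = 0 := by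
  obtain ⟨n, ρ, rfl⟩ := hχ
  rw [sum_character_eq_mul_finrank, mul_eq_zero, Nat.cast_eq_zero, Nat.cast_eq_zero,
    Submodule.finrank_eq_zero, LinearMap.range_eq_bot] at h
  simp only [Representation.character, map_mul, ← map_sum, ← Finset.mul_sum,
    h.resolve_left Nat.card_pos.ne', mul_zero, map_zero]

theorem IsCharacter.exists_dep {χ : G → ℂ} (hχ : IsCharacter G χ) (P : Subgroup G) [Fintype P]
    (h : ∑ u : P, χ u = Nat.card P) {κ : Type v} [Fintype κ] (g : κ → G)
    (hκ : charDegree χ < Fintype.card κ) :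
    ∃ c : κ → ℂ, c ≠ 0 ∧ ∀ k, ∑ j, c j * ∑ u : P, χ (k * g j * u) = 0 := by
  obtain ⟨n, ρ, rfl⟩ := hχ
  rw [sum_character_eq_mul_finrank, mul_right_eq_self₀, Nat.cast_eq_one, Nat.cast_eq_zero] at h
  obtain ⟨⟨v, hv0⟩, hv⟩ := finrank_le_one_iff.1 (h.resolve_right Nat.card_pos.ne').le
  obtain ⟨c, hc, j, hj⟩ := Fintype.not_linearIndependent_iff.1 fun e : LinearIndependent ℂ
    fun j => ρ (g j) v => by
      have := e.fintype_card_le_finrank
      rw [charDegree_character] at hκ
      omega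
  refine ⟨c, fun e => hj (congrFun e j), fun k => ?_⟩
  have : (∑ j, c j • ρ (g j)) * ∑ u : P, ρ u = 0 := LinearMap.ext fun w => by
    obtain ⟨a, ha⟩ := hv ⟨_, w, rfl⟩
    rw [End.mul_apply, ← show a • v = (∑ u : P, ρ u) w from congrArg Subtype.val ha, map_smul, LinearMap.sum_apply]
    simp [hc]
  have h2 := congrArg (fun T => LinearMap.trace ℂ _ (ρ k * T)) this
  simp only [Finset.sum_mul, Finset.mul_sum, map_sum, mul_zero, map_zero, smul_mul_assoc,
    mul_smul_comm, map_smul, smul_eq_mul] at h2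
  rw [← h2, Finset.sum_comm]
  simp only [Representation.character, map_mul, Finset.mul_sum, mul_assoc]

theorem finrank_span_le_of_dep {k : Type} [CommRing k] [Nontrivial k] (π : AlgInt →+* k)
    (ι : ZMod 2 →+* k) {t : G → AlgInt} {T : G → ZMod 2} (hT : ∀ x, ι (T x) = π (t x)) {d : ℕ}
    (h : ∀ (κ : Type u) [Fintype κ] (g : κ → G), d < Fintype.card κ →
      ∃ c : κ → ℂ, c ≠ 0 ∧ ∀ x, ∑ j, c j * t (x * g j) = 0) :
    finrank (ZMod 2) (Submodule.span (ZMod 2) (Set.range fun g x => T (x * g))) ≤ d := by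
  let _ := Fintype.ofFinite G
  obtain ⟨κ, g, hg, e, hi⟩ := exists_linearIndependent' (ZMod 2) fun g x => T (x * g)
  have := Finite.of_injective g hg
  let _ := Fintype.ofFinite κ
  rw [← e, finrank_span_eq_card hi]
  by_contra hd
  obtain ⟨c, hc, hc'⟩ := h κ g (not_le.1 hd)
  obtain ⟨L, hL⟩ := (Fintype.linearCombination (ZMod 2) _).exists_leftInverse_of_injective
    (LinearMap.ker_eq_bot.2 (linearIndependent_iff_injective_fintypeLinearCombination.1 hi))
  obtain ⟨B, hB⟩ : ∃ B : Matrix κ κ AlgInt,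
      ∀ i j, B i j = ∑ x, t (x * g i) * (L (Pi.single x 1) j).val := ⟨.of _, fun _ _ => rfl⟩
  have h1 : (AlgInt.subtype.mapMatrix B).det = 0 := by
    refine Matrix.exists_vecMul_eq_zero_iff.1 ⟨c, hc, funext fun j => ?_⟩
    simp only [hB, Matrix.vecMul, dotProduct, RingHom.mapMatrix_apply, Matrix.map_apply,
      map_sum, map_mul, Finset.mul_sum, ← mul_assoc]
    rw [Finset.sum_comm]
    refine Finset.sum_eq_zero fun x _ => ?_
    rw [← Finset.sum_mul]
    exact mul_eq_zero_of_left (hc' x) _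
  rw [← AlgInt.subtype.map_det B, map_eq_zero_iff _ AlgInt.subtype_injective] at h1
  have h2 : π.mapMatrix B = 1 := by
    ext i j
    have h3 := congrFun (LinearMap.congr_fun hL (Pi.single i 1)) j
    rw [LinearMap.comp_apply, Fintype.linearCombination_apply_single, one_smul, pi_eq_sum_univ'
      (((fun g x => T (x * g)) ∘ g) i), map_sum, Finset.sum_apply, LinearMap.id_apply] at h3
    have h4 := congrArg ι h3
    rw [Pi.single_apply, apply_ite ι, map_one, map_zero, map_sum] at h4
    rw [RingHom.mapMatrix_apply, Matrix.map_apply, hB, map_sum, Matrix.one_apply,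
      if_congr eq_comm rfl rfl, ← h4]
    refine Finset.sum_congr rfl fun x _ => ?_
    rw [map_smul, Pi.smul_apply, smul_eq_mul, map_mul, map_mul, map_natCast, ← map_natCast ι,
      ZMod.natCast_zmod_val, ← hT]
    rfl
  have h3 := π.map_det B
  rw [h1, h2, map_zero, Matrix.det_one] at h3
  exact zero_ne_one h3

theorem IsCharacter.exists_mod_two {χ : G → ℂ} (hχ : IsCharacter G χ) (P : Subgroup G) [Fintype P]
    (hP : ∑ u : P, χ u = Nat.card P) (ho : Odd (Nat.card P))
    (hsq : ∀ b, Odd (orderOf b) → χ (b ^ 2) = χ b) :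
    ∃ n ≤ charDegree χ, ∃ A : G →* Matrix (Fin n) (Fin n) (ZMod 2),
      (∀ z ∈ center G, IsPElt 2 z → A z = 1) ∧ ∀ (Q : Subgroup G) [Fintype Q], Odd (Nat.card Q) →
        ∑ v : Q, χ v = 0 → ∃ v ∈ Q, A v ≠ 1 := by
  obtain ⟨M, -, hM, h2⟩ := exists_isPModular_of_prime Nat.prime_two
  have := hM.isPrime
  let π := Ideal.Quotient.mk M
  have : CharP (AlgInt ⧸ M) 2 := (CharP.charP_iff_prime_eq_zero Nat.prime_two).2
    (by rw [← map_natCast π]; exact Ideal.Quotient.eq_zero_iff_mem.2 h2)
  let ι := ZMod.castHom (dvd_refl 2) (AlgInt ⧸ M)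
  let c : G → AlgInt := fun y => ⟨χ y, hχ.mem_algInt y⟩
  have h3 : ∀ {x y : G}, Commute x y → IsPElt 2 x → π (c (x * y)) = π (c y) := fun hxy hx => by
    obtain ⟨k, hk⟩ := isPElt_iff_pow_eq_one.1 hx
    exact Ideal.Quotient.eq.2 (hχ.isGen.sub_mem_of_isPrime Nat.prime_two hM.isPrime h2 hxy hk)
  have h4 : ∀ y, π (c y) ^ 2 = π (c y) := fun y => by
    rw [← pPart_mul_pPrimePart 2 y, h3 (commute_pPart_pPrimePart _ _) (isPElt_pPart _ _), ← map_pow]
    obtain ⟨γ, h5, h6⟩ := hχ.isGen.exists_pow_prime_sub Nat.prime_two (pPrimePart 2 y)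
    rw [hsq _ (Nat.odd_iff.2 (Nat.two_dvd_ne_zero.1 (isPRegular_pPrimePart (p := 2) y)))] at h6
    refine Ideal.Quotient.eq.2 ?_
    convert M.mul_mem_right ⟨γ, h5⟩ h2
    exact Subtype.ext h6
  let t : G → AlgInt := fun x => ∑ u : P, c (x * u)
  let T : G → ZMod 2 := fun x => if π (t x) = 0 then 0 else 1
  have hT : ∀ x, ι (T x) = π (t x) := fun x => by
    have : π (t x) * π (t x) = π (t x) := by
      rw [← sq, map_sum, sum_pow_char]
      exact Finset.sum_congr rfl fun u _ => h4 _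
    simp only [T]
    split_ifs with h
    · rw [h, map_zero]
    · rw [map_one, (mul_left_eq_self₀.1 this).resolve_right h]
  have hd := finrank_span_le_of_dep π ι hT (d := charDegree χ) fun κ _ g hκ => by
    simpa only [t, c, AddSubmonoidClass.coe_finsetSum] using hχ.exists_dep P hP g hκ
  obtain ⟨W, hW⟩ : ∃ W, Submodule.span (ZMod 2) (Set.range fun g x => T (x * g)) = W := ⟨_, rfl⟩
  rw [hW] at hd
  have hm : ∀ g, (fun x => T (x * g)) ∈ W := fun g => hW ▸ Submodule.subset_span ⟨g, rfl⟩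
  have hi : ∀ g : G, ∀ f ∈ W, LinearMap.funLeft (ZMod 2) (ZMod 2) (· * g) f ∈ W := fun g => by
    change W ≤ W.comap _
    conv_lhs => rw [← hW]
    rw [Submodule.span_le]
    rintro _ ⟨k, rfl⟩
    exact (by simpa only [← mul_assoc] using hm (g * k) : (fun x => T (x * g * k)) ∈ W)
  let R : G →* End (ZMod 2) W :=
    { toFun g := (LinearMap.funLeft (ZMod 2) (ZMod 2) (· * g)).restrict (hi g)
      map_one' := by ext; simp
      map_mul' a b := by ext; simp [mul_assoc] }
  let e := LinearMap.toMatrixAlgEquiv (finBasis (ZMod 2) W)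
  refine ⟨_, hd, e.toMulEquiv.toMonoidHom.comp R, fun z hz hz' => ?_, fun Q _ hQ h0 => ?_⟩
  · change e (R z) = 1
    rw [EmbeddingLike.map_eq_one_iff]
    ext ⟨f, hf⟩ x
    change f (x * z) = f x
    rw [← hW] at hf
    induction hf using Submodule.span_induction with
    | mem _ h =>
      obtain ⟨k, rfl⟩ := h
      refine ι.injective ?_
      simp only [hT, t, map_sum]
      refine Finset.sum_congr rfl fun u _ => ?_
      rw [mem_center_iff.1 hz x, mul_assoc z, mul_assoc z, h3 (mem_center_iff.1 hz _).symm hz']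
    | zero => rfl
    | add _ _ _ _ h h' => rw [Pi.add_apply, Pi.add_apply, h, h']
    | smul _ _ _ h => rw [Pi.smul_apply, Pi.smul_apply, h]
  · by_contra hn
    push Not at hn
    have h5 : ∀ v : Q, π (t v) = 1 := fun v => by
      have h6 : R v = 1 := (EmbeddingLike.map_eq_one_iff (f := e)).1 (hn v v.2)
      have h7 : T (1 * v * 1) = T (1 * 1) :=
        congrFun (congrArg Subtype.val (LinearMap.congr_fun h6 ⟨_, hm 1⟩)) 1
      have h8 : t 1 = Nat.card P := Subtype.ext (by simpa [t, c] using hP)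
      rw [one_mul, mul_one, mul_one] at h7
      rw [← hT, h7, hT, h8, map_natCast, CharP.cast_eq_mod _ 2, Nat.odd_iff.1 ho, Nat.cast_one]
    have h6 : ∑ v : Q, t v = 0 := Subtype.ext (by
      simp only [t, c, AddSubmonoidClass.coe_finsetSum]
      rw [Finset.sum_comm]
      exact Finset.sum_eq_zero fun u _ => by
        simpa only [hχ.isClassFunction.mul_comm (u : G)] using hχ.sum_mul_eq_zero_of_sum Q h0 u)
    have h7 := congrArg π h6
    rw [map_sum, Finset.sum_congr rfl fun v _ => h5 v, Finset.sum_const, Finset.card_univ,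
      ← Nat.card_eq_fintype_card, nsmul_one, CharP.cast_eq_mod _ 2, Nat.odd_iff.1 hQ,
      Nat.cast_one, map_zero] at h7
    exact one_ne_zero h7

end Cfsg
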