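import Cfsg.Agent.Char.IndBasic
import Cfsg.Agent.Char.Mackey
import Cfsg.Agent.Char.LiesOver

/-!
# Induction: collects `IndBasic`, `Mackey`, `LiesOver`
-/
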