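import Cfsg.Agent.Char.CliffordBasic
import Cfsg.Agent.Char.Gallagher
import Cfsg.Agent.Char.FrobeniusGroup
import Cfsg.Agent.Char.MGroup

/-!
# Clifford theory: collects `CliffordBasic`, `Gallagher`, `FrobeniusGroup`, `MGroup`
-/
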