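import Cfsg.Agent.Char.CliffordBasic
import Cfsg.Agent.Char.Central
import Cfsg.Agent.Char.Abelian
import Cfsg.Agent.Char.BrauerApp
import Cfsg.Agent.Grp.SchurZ

/-!
# Codegrees of irreducible characters
-/

set_option autoImplicit false
set_option linter.unusedSectionVars false

namespace Cfsg

universe u

variable {G : Type u} [Group G] [Finite G]

theorem IrrCharacter.card_apply_eq_apply_one (χ : IrrCharacter G) :
    Nat.card {g : G // (χ : G → ℂ) g = (χ : G → ℂ) 1} = Nat.card (charKer χ.1) :=
  Nat.card_congr (Equiv.subtypeEquivRight fun _ => χ.mem_charKer.symm)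

/-- The codegree times the degree is the index of the kernel. -/
theorem IrrCharacter.codegree_mul (χ : IrrCharacter G) :
    Nat.card G / (Nat.card {g : G // (χ : G → ℂ) g = (χ : G → ℂ) 1} * charDegree χ.1) *
      charDegree χ.1 = (charKer χ.1).index := by
  obtain ⟨c, hc⟩ := χ.charDegree_dvd_index_charKer
  rw [χ.card_apply_eq_apply_one, ← (charKer χ.1).card_mul_index, hc, ← mul_assoc,
    Nat.mul_div_cancel_left _ (Nat.mul_pos Nat.card_pos χ.charDegree_pos), mul_comm]

theorem IrrCharacter.codegree_dvd_card (χ : IrrCharacter G) :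
    Nat.card G / (Nat.card {g : G // (χ : G → ℂ) g = (χ : G → ℂ) 1} * charDegree χ.1) ∣
      Nat.card G :=
  (Dvd.intro _ χ.codegree_mul).trans (Subgroup.index_dvd_card _)

/-- A character of `p`-power codegree is induced from a Sylow `p`-subgroup. -/
theorem IrrCharacter.exists_ind_sylow_eq {p : ℕ} [hp : Fact p.Prime] (χ : IrrCharacter G) {k : ℕ}
    (h : Nat.card G = p ^ k * charDegree χ.1) (P : Sylow p G) :
    ∃ θ : IrrCharacter (P : Subgroup G), ind (P : Subgroup G).subtype θ.1 = χ.1 := by
  classical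
  have hm : ¬ p ∣ (P : Subgroup G).index := P.not_dvd_index
  obtain ⟨a, ha⟩ := IsPGroup.iff_card.1 P.isPGroup'
  have h1 : (P : Subgroup G).index ∣ charDegree χ.1 := by
    have h2 : (P : Subgroup G).index ∣ p ^ k * charDegree χ.1 := h ▸ Subgroup.index_dvd_card _
    exact (Nat.Coprime.pow_right k ((Nat.Prime.coprime_iff_not_dvd hp.out).2 hm).symm
      ).dvd_of_dvd_mul_left h2
  obtain ⟨c, hc⟩ := h1
  have h3 : c ∣ p ^ a := by
    have h4 := (P : Subgroup G).index_mul_card
    rw [h, hc, ha] at h4
    refine ⟨p ^ k, Nat.eq_of_mul_eq_mul_left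
      (Nat.pos_of_ne_zero (Subgroup.index_ne_zero_of_finite (H := (P : Subgroup G)))) ?_⟩
    rw [h4]; ring
  obtain ⟨j, -, rfl⟩ := (Nat.dvd_prime_pow hp.out).1 h3
  by_contra hcon
  push Not at hcon
  have h5 := (χ.isCharacter.comp (P : Subgroup G).subtype).charDegree_eq_sum
  have h6 : p ^ (j + 1) ∣ charDegree χ.1 := by
    rw [← charDegree_comp χ.1 (P : Subgroup G).subtype, h5]
    refine Finset.dvd_sum fun θ _ => ?_
    rcases Nat.eq_zero_or_pos (ipNat (χ.1 ∘ (P : Subgroup G).subtype) θ.1) with h0 | h0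
    · rw [h0, zero_mul]; exact dvd_zero _
    have h7 := (liesOver_iff_ipNat_pos χ.isCharacter θ.isCharacter).2 h0
    obtain ⟨i, hi⟩ := θ.exists_charDegree_eq_pow P.isPGroup'
    refine Dvd.dvd.mul_left (hi ▸ pow_dvd_pow p ?_) _
    by_contra hlt
    refine hcon θ (h7.ind_eq_of_le_charDegree (Subgroup.subtype_injective _) θ.isCharacter ?_)
    rw [Subgroup.range_subtype, hi, hc]
    exact Nat.mul_le_mul_left _ (Nat.pow_le_pow_right hp.out.pos (by omega))
  rw [hc, pow_succ, mul_comm _ (p ^ j)] at h6
  exact hm (Nat.dvd_of_mul_dvd_mul_left (pow_pos hp.out.pos j) h6)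

theorem IrrCharacter.sq_charDegree_lt_card [Nontrivial G] (χ : IrrCharacter G) :
    charDegree χ.1 ^ 2 < Nat.card G := by
  classical
  by_cases h : χ = IrrCharacter.one G
  · rw [h, IrrCharacter.charDegree_one, one_pow]; exact Finite.one_lt_card
  have h1 := Finset.sum_le_sum_of_subset (f := fun ψ : IrrCharacter G => charDegree ψ.1 ^ 2)
    (Finset.subset_univ {χ, IrrCharacter.one G})
  rw [Finset.sum_pair h, sum_charDegree_sq, IrrCharacter.charDegree_one] at h1
  omega

/-- Structure of a group with an irreducible character of degree `|G| / p`. -/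
theorem IrrCharacter.exists_normal_of_card_eq_prime_mul {p : ℕ} (hp : p.Prime)
    (χ : IrrCharacter G) (h : Nat.card G = p * charDegree χ.1) :
    ∃ P : Subgroup G, P.Normal ∧ Nat.card P = p ∧ Subgroup.centralizer (P : Set G) ≤ P ∧
      P.index < p := by
  have : Fact p.Prime := ⟨hp⟩
  have hpos := χ.charDegree_pos
  have : Nontrivial G := Finite.one_lt_card_iff_nontrivial.1 (by
    rw [h]; have := hp.two_le; nlinarith)
  have h1 : charDegree χ.1 < p := by
    have h2 := χ.sq_charDegree_lt_card
    rw [h, sq] at h2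
    exact Nat.lt_of_mul_lt_mul_right h2
  obtain ⟨P⟩ : Nonempty (Sylow p G) := inferInstance
  have hP : Nat.card P = p := by
    rw [P.card_eq_multiplicity, h, Nat.factorization_mul hp.ne_zero hpos.ne', Finsupp.add_apply,
      hp.factorization_self, Nat.factorization_eq_zero_of_lt h1, pow_one]
  have hi : (P : Subgroup G).index = charDegree χ.1 := by
    have h2 := (P : Subgroup G).card_mul_index
    rw [h, hP] at h2
    exact Nat.eq_of_mul_eq_mul_left hp.pos h2
  have hn : (P : Subgroup G).Normal := by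
    have h2 : Nat.card (Sylow p G) = 1 := by
      have h3 := Nat.le_of_dvd (hi ▸ hpos) P.card_dvd_index
      have h4 := card_sylow_modEq_one p G
      exact Nat.ModEq.eq_of_lt_of_lt h4 (by omega) hp.one_lt
    have : Subsingleton (Sylow p G) := (Nat.card_eq_one_iff_unique.1 h2).1
    exact P.normal_of_subsingleton
  refine ⟨P, hn, hP, ?_, hi ▸ h1⟩
  obtain ⟨θ, hθ⟩ := χ.exists_ind_sylow_eq (k := 1) (by rw [pow_one, h]) P
  have h2 := (isIrr_ind_iff (P : Subgroup G).subtype θ).1 (hθ ▸ χ.2)
  have h3 := centralizer_le_inertia (P : Subgroup G).subtype θ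
  rwa [h2, Subgroup.range_subtype] at h3

theorem commutator_le_centralizer_of_isCyclic (P : Subgroup G) [P.Normal] [IsCyclic P] :
    commutator G ≤ Subgroup.centralizer (P : Set G) := by
  let _ := (IsCyclic.mulAutMulEquiv P).toMonoidHom.commGroupOfInjective
    (IsCyclic.mulAutMulEquiv P).injective
  intro g hg n hn
  have h := Abelianization.commutator_subset_ker (MulAut.conjNormal (H := P)) hg
  have h1 := congrArg Subtype.val (DFunLike.congr_fun (MonoidHom.mem_ker.1 h) ⟨n, hn⟩)
  simp only [MulAut.conjNormal_apply, MulAut.one_apply] at h1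
  exact (mul_inv_eq_iff_eq_mul.1 h1).symm

end Cfsg
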