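import Cfsg.Agent.Char.FrobSchur
import Cfsg.Agent.Char.Det
import Cfsg.Agent.Char.Ker
import Cfsg.Agent.Char.Central
import Cfsg.Agent.Char.LiesOver

/-!
# Elements `u` with `χ 1 - χ u = 4` or `χ u = 0` for every non-principal `χ`: character calculus
-/

set_option autoImplicit false
set_option linter.unusedSectionVars false

namespace Cfsg.Four

open scoped ComplexConjugate

universe u

variable {G : Type u} [Group G] [Finite G]

theorem ip_mul_star_one (χ : IrrCharacter G) : ip (χ.1 * star χ.1) (IrrCharacter.one G).1 = 1 := by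
  rw [ip_mul_left, star_star]
  have : (IrrCharacter.one G).1 * χ.1 = χ.1 := by ext g; simp
  rw [this, χ.ip_self]

theorem ip_mul_star_one_of_ne {χ ψ : IrrCharacter G} (h : χ ≠ ψ) :
    ip (χ.1 * star ψ.1) (IrrCharacter.one G).1 = 0 := by
  rw [ip_mul_left, star_star]
  have : (IrrCharacter.one G).1 * ψ.1 = ψ.1 := by ext g; simp
  rw [this, IrrCharacter.ip_of_ne h]

theorem ne_one_of_deg {χ : IrrCharacter G} (h : charDegree χ.1 ≠ 1) : χ ≠ IrrCharacter.one G := by
  rintro rfl
  exact h (charDegree_eq_of_apply_one (by simp))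

theorem deg_le {θ : G → ℂ} (h : IsCharacter G θ) {χ : IrrCharacter G} (hχ : ip θ χ.1 ≠ 0) {n : ℕ}
    (hn : θ 1 = n) : charDegree χ.1 ≤ n :=
  charDegree_eq_of_apply_one hn ▸ h.charDegree_le_of_ip_ne_zero χ hχ

theorem ip_ne_zero_of_sub {θ : G → ℂ} (h : IsCharacter G θ) {χ ψ : IrrCharacter G}
    (hχ : ip θ χ.1 ≠ 0) (hne : χ ≠ ψ) : ip (θ - ψ.1) χ.1 ≠ 0 := by
  rwa [ip_sub_left, IrrCharacter.ip_of_ne hne.symm, sub_zero]

variable {u : G}
  (hyp : ∀ χ : IrrCharacter G, χ ≠ IrrCharacter.one G → χ 1 - χ u = 4 ∨ χ u = 0)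
include hyp

theorem apply_ne {χ : IrrCharacter G} (h : χ ≠ IrrCharacter.one G) : χ u ≠ χ 1 := by
  intro e
  rcases hyp χ h with h1 | h1
  · rw [e] at h1; norm_num at h1
  · exact χ.apply_one_ne_zero (e ▸ h1)

theorem norm_ne {χ : IrrCharacter G} (h : χ ≠ IrrCharacter.one G) :
    ‖χ u‖ ≠ charDegree χ.1 := by
  intro e
  by_cases h1 : charDegree χ.1 = 1
  · rw [h1] at e
    rcases hyp χ h with h2 | h2
    · rw [χ.apply_one, h1] at h2
      have : χ u = -3 := by push_cast at h2; linear_combination -h2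
      rw [this] at e; norm_num at e
    · rw [h2] at e; norm_num at e
  have hθ := χ.isCharacter.mul χ.isCharacter.star
  have h2 := hθ.sub_irr (IrrCharacter.one G) (by rw [ip_mul_star_one]; exact one_ne_zero)
  have h3 : (χ.1 * star χ.1) 1 = (charDegree χ.1 : ℂ) ^ 2 := by
    simp only [Pi.mul_apply, Pi.star_apply, RCLike.star_def]
    rw [χ.apply_one, map_natCast, sq]
  have h4 : (χ.1 * star χ.1) u = (charDegree χ.1 : ℂ) ^ 2 := by
    simp only [Pi.mul_apply, Pi.star_apply, RCLike.star_def]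
    rw [Complex.mul_conj, Complex.normSq_eq_norm_sq, e]; push_cast; rfl
  obtain ⟨φ, hφ⟩ := h2.exists_constituent (by
    intro h0
    have := congrFun h0 1
    simp only [Pi.sub_apply, h3, IrrCharacter.one_apply, Pi.zero_apply, sub_eq_zero] at this
    exact h1 (by simpa using (show charDegree χ.1 ^ 2 = 1 by exact_mod_cast this)))
  refine apply_ne hyp (χ := φ) ?_ (h2.apply_eq_of_constituent ?_ hφ)
  · rintro rfl
    rw [ip_sub_left, ip_mul_star_one, IrrCharacter.ip_self, sub_self] at hφ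
    exact hφ rfl
  · simp only [Pi.sub_apply, h3, h4, IrrCharacter.one_apply]

theorem eq_one_of_deg {χ : IrrCharacter G} (h : χ 1 = 1) : χ = IrrCharacter.one G := by
  by_contra h1
  apply norm_ne hyp h1
  rw [← χ.mem_charCenter, χ.charCenter_eq_top_iff.2 h]
  trivial

theorem commutator_eq_top : commutator G = ⊤ := by
  by_contra h
  obtain ⟨g, hg⟩ : ∃ g, g ∉ commutator G := by
    by_contra h1
    push Not at h1
    exact h (eq_top_iff.2 fun g _ => h1 g)
  obtain ⟨χ, h1, h2⟩ := exists_irr_le_charKer_not_mem _ hg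
  rw [eq_one_of_deg hyp (χ.commutator_le_charKer_iff.1 h1),
    (IrrCharacter.charKer_eq_top_iff _).2 rfl] at h2
  exact h2 trivial

theorem detChar_eq_one (χ : G → ℂ) (g : G) : detChar χ g = 1 := by
  have := eq_one_of_deg hyp (χ := ⟨_, isIrrCharacter_detChar χ⟩) (detChar_apply_one χ)
  exact congrFun (congrArg Subtype.val this) g

theorem cases {χ : IrrCharacter G} (h : χ ≠ IrrCharacter.one G) :
    χ u = 0 ∨ (charDegree χ.1 = 3 ∧ χ u = -1) ∨
      (5 ≤ charDegree χ.1 ∧ χ u = charDegree χ.1 - 4) := by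
  rcases hyp χ h with h1 | h1
  swap
  · exact Or.inl h1
  have h2 : χ u = charDegree χ.1 - 4 := by rw [← χ.apply_one]; linear_combination -h1
  have h3 := norm_ne hyp h
  have h4 := χ.charDegree_pos
  have h5 : charDegree χ.1 ≠ 1 := fun e => h (eq_one_of_deg hyp (by rw [χ.apply_one, e]; simp))
  rw [h2] at h3 ⊢
  generalize charDegree χ.1 = d at *
  rcases d with _ | _ | _ | _ | _ | d
  · omega
  · omega
  · norm_num at h3
  · norm_num
  · norm_num
  · exact Or.inr (Or.inr ⟨by omega, rfl⟩)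

theorem apply_mul_self {β : IrrCharacter G} (h : charDegree β.1 = 3) (g : G) :
    β (g * g) = β g ^ 2 - 2 * conj (β g) := by
  obtain ⟨ε, h1, h2, h3⟩ := β.isCharacter.exists_roots g
  have h4 := h3 1
  rw [detChar_eq_one hyp] at h4
  have h5 := h2 1
  have h6 := h2 2
  have hc : ∀ i, ε i * conj (ε i) = 1 := fun i => by
    rw [Complex.mul_conj, Complex.normSq_eq_norm_sq,
      Complex.norm_eq_one_of_pow_eq_one (h1 i) (orderOf_pos g).ne']
    simp
  rw [← (finCongr h.symm).sum_comp, Fin.sum_univ_three] at h5 h6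
  rw [← (finCongr h.symm).prod_comp, Fin.prod_univ_three] at h4
  simp only [pow_one] at h4 h5
  rw [← sq, h6, h5]
  simp only [map_add]
  have e0 := hc (finCongr h.symm 0)
  have e1 := hc (finCongr h.symm 1)
  have e2 := hc (finCongr h.symm 2)
  generalize ε (finCongr h.symm 0) = a at *
  generalize ε (finCongr h.symm 1) = b at *
  generalize ε (finCongr h.symm 2) = c at *
  linear_combination (2 * b * c) * e0 + (2 * a * c) * e1 + (2 * a * b) * e2 +
    2 * (conj a + conj b + conj c) * h4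

theorem re_nonneg {χ : IrrCharacter G} (h : ¬ (charDegree χ.1 = 3 ∧ χ u = -1)) :
    ∃ m : ℕ, χ u = m := by
  by_cases h1 : χ = IrrCharacter.one G
  · exact ⟨1, by simp [h1]⟩
  rcases cases hyp h1 with h2 | h2 | h2
  · exact ⟨0, by simp [h2]⟩
  · exact absurd h2 h
  · exact ⟨charDegree χ.1 - 4, by rw [h2.2, Nat.cast_sub (by omega)]; simp⟩

theorem exists_three (hu : u ≠ 1) : ∃ τ : IrrCharacter G, charDegree τ.1 = 3 ∧ τ u = -1 := by
  by_contra h
  push Not at h
  choose m hm using fun χ : IrrCharacter G => re_nonneg hyp (χ := χ) fun e => h χ e.1 e.2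
  have h1 := sum_irr_one_mul_of_ne_one hu
  have h2 : ((∑ χ : IrrCharacter G, charDegree χ.1 * m χ : ℕ) : ℂ) = 0 := by
    rw [← h1]; push_cast
    exact Finset.sum_congr rfl fun χ _ => by rw [χ.apply_one, hm]
  have h3 := Finset.sum_eq_zero_iff.1 (Nat.cast_eq_zero.1 h2) (IrrCharacter.one G)
    (Finset.mem_univ _)
  have h4 := hm (IrrCharacter.one G)
  rcases Nat.mul_eq_zero.1 h3 with h5 | h5
  · exact (IrrCharacter.charDegree_pos _).ne' h5
  · simp [h5] at h4

theorem exists_three_of_neg {θ : G → ℂ} (hθ : IsCharacter G θ) (h : (θ u).re < 0) :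
    ∃ β : IrrCharacter G, charDegree β.1 = 3 ∧ ip θ β.1 ≠ 0 := by
  by_contra hn
  push Not at hn
  rw [hθ.isClassFunction.apply_eq_sum, Complex.re_sum] at h
  refine absurd h (not_lt.2 (Finset.sum_nonneg fun χ _ => ?_))
  by_cases h3 : charDegree χ.1 = 3
  · simp [hn χ h3]
  · obtain ⟨m, hm⟩ := re_nonneg hyp (χ := χ) fun e => h3 e.1
    obtain ⟨n, hn⟩ := hθ.exists_ip_eq_nat χ.isCharacter
    rw [hm, hn, ← Nat.cast_mul, Complex.natCast_re]
    positivity

variable (hu2 : u ^ 2 = 1)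
include hu2

theorem four_dvd {χ : IrrCharacter G} (h : χ u = 0) : 4 ∣ charDegree χ.1 := by
  classical
  obtain ⟨ε, h1, h2, h3⟩ := χ.isCharacter.exists_roots u
  have h4 := h3 1
  have h5 := h2 1
  rw [detChar_eq_one hyp] at h4
  simp only [pow_one] at h4 h5
  have h6 : ∀ i, ε i = if ε i = 1 then 1 else -1 := fun i => by
    obtain ⟨k, hk⟩ := orderOf_dvd_of_pow_eq_one hu2
    have : ε i ^ 2 = 1 := by rw [hk, pow_mul, h1, one_pow]
    rcases sq_eq_one_iff.1 this with e | e
    · simp [e]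
    · rw [if_neg (by rw [e]; norm_num), e]
  rw [Finset.prod_congr rfl fun i _ => h6 i, Finset.prod_ite] at h4
  rw [Finset.sum_congr rfl fun i _ => h6 i, Finset.sum_ite, h] at h5
  simp only [Finset.prod_const, one_pow, one_mul, Finset.sum_const, nsmul_eq_mul, mul_one,
    mul_neg] at h4 h5
  have h7 := Finset.card_filter_add_card_filter_not (s := Finset.univ) (fun i => ε i = 1)
  rw [Finset.card_univ, Fintype.card_fin] at h7
  have h8 := (neg_one_pow_eq_one_iff_even (by norm_num)).1 h4.symm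
  have h9 : (Finset.univ.filter fun i => ε i = 1).card =
      (Finset.univ.filter fun i => ¬ ε i = 1).card := by
    have : ((Finset.univ.filter fun i => ε i = 1).card : ℂ) =
      (Finset.univ.filter fun i => ¬ ε i = 1).card := by linear_combination -h5
    exact_mod_cast this
  obtain ⟨k, hk⟩ := h8
  omega

theorem apply_of_three {χ : IrrCharacter G} (h : charDegree χ.1 = 3) : χ u = -1 := by
  rcases cases hyp (ne_one_of_deg (χ := χ) (by omega)) with h1 | h1 | h1
  · have := four_dvd hyp hu2 h1; omega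
  · exact h1.2
  · omega

theorem apply_of_five {χ : IrrCharacter G} (h : charDegree χ.1 = 5) : χ u = 1 := by
  rcases cases hyp (ne_one_of_deg (χ := χ) (by omega)) with h1 | h1 | h1
  · have := four_dvd hyp hu2 h1; omega
  · omega
  · rw [h1.2, h]; norm_num

theorem apply_of_six {χ : IrrCharacter G} (h : charDegree χ.1 = 6) : χ u = 2 := by
  rcases cases hyp (ne_one_of_deg (χ := χ) (by omega)) with h1 | h1 | h1
  · have := four_dvd hyp hu2 h1; omega
  · omega
  · rw [h1.2, h]; norm_num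

theorem four_le_irr {χ : IrrCharacter G} (h : χ ≠ IrrCharacter.one G) : 4 ≤ (χ 1 - χ u).re := by
  rcases hyp χ h with h1 | h1
  · rw [h1]; norm_num
  · rw [h1, sub_zero, χ.apply_one, Complex.natCast_re]
    exact_mod_cast Nat.le_of_dvd χ.charDegree_pos (four_dvd hyp hu2 h1)

theorem four_le {θ : G → ℂ} (hθ : IsCharacter G θ) (h1 : ip θ (IrrCharacter.one G).1 = 0)
    (h0 : θ ≠ 0) : 4 ≤ (θ 1 - θ u).re := by
  obtain ⟨χ, hχ⟩ := hθ.exists_constituent h0
  have h2 := four_le_irr hyp hu2 (χ := χ) (by rintro rfl; exact hχ h1)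
  have h3 := hθ.sub_irr χ hχ
  have h4 := h3.re_le u
  rw [← Complex.natCast_re, ← h3.apply_one] at h4
  simp only [Pi.sub_apply, Complex.sub_re] at h2 h4 ⊢
  linarith

theorem isIrr_of_four {θ : G → ℂ} (hθ : IsCharacter G θ) (h1 : ip θ (IrrCharacter.one G).1 = 0)
    (h4 : θ 1 - θ u = 4) : IsIrrCharacter G θ := by
  obtain ⟨χ, hχ⟩ := hθ.exists_constituent (by rintro rfl; simp at h4)
  have hne : χ ≠ IrrCharacter.one G := by rintro rfl; exact hχ h1
  have h2 := four_le_irr hyp hu2 hne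
  by_cases h0 : θ - χ.1 = 0
  · rw [sub_eq_zero.1 h0]; exact χ.2
  have h3 := four_le hyp hu2 (hθ.sub_irr χ hχ)
    (by rw [ip_sub_left, h1, IrrCharacter.ip_of_ne hne, sub_zero]) h0
  have h5 := congrArg Complex.re h4
  simp only [Pi.sub_apply, Complex.sub_re] at h2 h3 h5
  norm_num at h5
  linarith

theorem cases' (hu : u ≠ 1) {χ : IrrCharacter G} (h : χ ≠ IrrCharacter.one G) :
    χ u = 0 ∨ charDegree χ.1 = 3 ∨ charDegree χ.1 = 5 ∨ charDegree χ.1 = 6 := by
  rcases cases hyp h with h1 | h1 | h1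
  · exact Or.inl h1
  · exact Or.inr (Or.inl h1.1)
  by_contra hn
  have h7 : 7 ≤ charDegree χ.1 := by omega
  have h7' : (7 : ℝ) ≤ charDegree χ.1 := by exact_mod_cast h7
  obtain ⟨τ, hτ, hτu⟩ := exists_three hyp hu
  obtain ⟨β, hβ, hβ'⟩ := exists_three_of_neg hyp (χ.isCharacter.mul τ.isCharacter) (by
    simp only [Pi.mul_apply, h1.2, hτu, mul_neg, mul_one, Complex.neg_re, Complex.sub_re,
      Complex.natCast_re]
    norm_num; linarith)
  rw [ip_mul_left, ip_ne_zero_comm] at hβ'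
  have h2 := (β.isCharacter.mul τ.isCharacter.star).sub_irr χ hβ'
  obtain ⟨γ, hγ, hγ'⟩ := exists_three_of_neg hyp h2 (by
    simp only [Pi.sub_apply, Pi.mul_apply, Pi.star_apply, h1.2, hτu, apply_of_three hyp hu2 hβ]
    norm_num; linarith)
  have h3 : charDegree χ.1 ≤ 9 := deg_le (β.isCharacter.mul τ.isCharacter.star) hβ' (by
    simp only [Pi.mul_apply, Pi.star_apply, β.apply_one, τ.apply_one, hβ, hτ]; norm_num)
  have h4 := deg_le h2 hγ' (n := 9 - charDegree χ.1) (by
    simp only [Pi.sub_apply, Pi.mul_apply, Pi.star_apply, β.apply_one, τ.apply_one, hβ, hτ]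
    rw [χ.apply_one, Nat.cast_sub h3]; norm_num)
  omega

end Cfsg.Four
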