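import Cfsg.Agent.Char.FourA
import Cfsg.Agent.Grp.PPart

/-!
# Involutions `u` with `χ 1 - χ u = 4` or `χ u = 0` for every non-principal `χ`: order `60`
-/

set_option autoImplicit false
set_option linter.unusedSectionVars false

namespace Cfsg.Four

open scoped ComplexConjugate
open Subgroup

universe u

variable {G : Type u} [Group G] [Finite G]

theorem ip_mul_star_mul_star (a b c d : G → ℂ) :
    ip (a * star b) (c * star d) = ip (a * d) (c * b) := by
  haveI := Fintype.ofFinite G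
  simp only [ip_def, Pi.mul_apply, Pi.star_apply, map_mul, RCLike.star_def, Complex.conj_conj]
  congr 1
  exact Finset.sum_congr rfl fun g _ => by ring

theorem deg_bar (χ : IrrCharacter G) : charDegree χ.bar.1 = charDegree χ.1 :=
  charDegree_eq_of_apply_one (by rw [← map_natCast conj, ← χ.apply_one]; rfl)

theorem star_eq_of_bar {χ : IrrCharacter G} (h : χ.bar = χ) : star χ.1 = χ.1 :=
  congrArg Subtype.val h

theorem ip_eq_zero_of_deg {χ ψ : IrrCharacter G} (h : charDegree χ.1 ≠ charDegree ψ.1) :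
    ip χ.1 ψ.1 = 0 := IrrCharacter.ip_of_ne (by rintro rfl; exact h rfl)

theorem deg_one : charDegree (IrrCharacter.one G).1 = 1 := charDegree_eq_of_apply_one (by simp)

variable {u : G}
  (hyp : ∀ χ : IrrCharacter G, χ ≠ IrrCharacter.one G → χ 1 - χ u = 4 ∨ χ u = 0)
  (hu2 : u ^ 2 = 1)
include hyp hu2

theorem eq_three_of_neg {θ : G → ℂ} (hθ : IsCharacter G θ) (h1 : ip θ θ = 1)
    (h : (θ u).re < 0) : θ 1 = 3 := by
  obtain ⟨β, hβ, hβ'⟩ := exists_three_of_neg hyp hθ h
  have := IrrCharacter.eq_of_ip_ne_zero (χ := ⟨θ, hθ.isIrr_iff.2 h1⟩) hβ'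
  have h2 : θ = β.1 := congrArg Subtype.val this
  rw [h2, β.apply_one, hβ]; simp

theorem symSq_three {β : IrrCharacter G} (h : charDegree β.1 = 3) :
    IsCharacter G (β.1 * β.1 - star β.1) := by
  convert β.isCharacter.symSq using 1
  ext g
  simp only [Pi.sub_apply, Pi.mul_apply, Pi.star_apply, RCLike.star_def]
  rw [apply_mul_self hyp h]; ring

theorem exists_eight {β : IrrCharacter G} (h : charDegree β.1 = 3) (hr : β.bar ≠ β) :
    ∃ θ : IrrCharacter G, charDegree θ.1 = 8 ∧ θ u = 0 ∧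
      β.1 * star β.1 = (IrrCharacter.one G).1 + θ.1 := by
  have h1 : β 1 = 3 := by rw [β.apply_one, h]; simp
  have h2 := apply_of_three hyp hu2 h
  have h3 : ip (β.1 * β.1 - star β.1) (IrrCharacter.one G).1 = 0 := by
    have e1 := ip_mul_star_one_of_ne hr.symm
    have e2 : star β.bar.1 = β.1 := by ext g; simp
    rw [e2] at e1
    rw [ip_sub_left, e1]
    exact sub_eq_zero.2 (ip_eq_zero_of_deg (χ := β.bar) (by rw [deg_bar, h, deg_one]; omega)).symm
  have h4 := isIrr_of_four hyp hu2 (symSq_three hyp hu2 h) h3 (by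
    simp only [Pi.sub_apply, Pi.mul_apply, Pi.star_apply, h1, h2]; norm_num)
  set χ : IrrCharacter G := ⟨_, h4⟩ with hχ
  have h5 : charDegree χ.1 = 6 := charDegree_eq_of_apply_one (by
    simp only [hχ, Pi.sub_apply, Pi.mul_apply, Pi.star_apply, h1]; norm_num)
  have h6 : β.1 * β.1 = χ.1 + β.bar.1 := by rw [hχ]; exact (sub_add_cancel _ _).symm
  have h7 : ip (β.1 * star β.1) (β.1 * star β.1) = 2 := by
    rw [ip_mul_star_mul_star, h6, ip_add_left, ip_add_right, ip_add_right, χ.ip_self,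
      β.bar.ip_self, ip_eq_zero_of_deg (by rw [deg_bar]; omega),
      ip_eq_zero_of_deg (by rw [deg_bar]; omega)]
    norm_num
  have hc := β.isCharacter.mul β.isCharacter.star
  have h8 := hc.sub_irr (IrrCharacter.one G) (by rw [ip_mul_star_one]; exact one_ne_zero)
  refine ⟨⟨_, h8.isIrr_iff.2 ?_⟩, charDegree_eq_of_apply_one ?_, ?_, by simp⟩
  · rw [ip_sub_left, ip_sub_right, ip_sub_right, h7, IrrCharacter.ip_self,
      (IrrCharacter.isCharacter _).ip_comm hc, ip_mul_star_one]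
    norm_num
  · simp only [Pi.sub_apply, Pi.mul_apply, Pi.star_apply, h1, IrrCharacter.one_apply]; norm_num
  · simp only [Pi.sub_apply, Pi.mul_apply, Pi.star_apply, h2, IrrCharacter.one_apply]; norm_num

section Psi

variable {ψ : IrrCharacter G} (h5 : charDegree ψ.1 = 5)
  (hψ : ∀ χ : IrrCharacter G, charDegree χ.1 = 5 → χ = ψ)
include h5 hψ

theorem mul_self_eq {β : IrrCharacter G} (h : charDegree β.1 = 3) (hr : β.bar = β) :
    β.1 * β.1 = (IrrCharacter.one G).1 + β.1 + ψ.1 := by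
  have h1 : β 1 = 3 := by rw [β.apply_one, h]; simp
  have h2 := apply_of_three hyp hu2 h
  have hc := symSq_three hyp hu2 h
  rw [star_eq_of_bar hr] at hc
  have h3 : ip (β.1 * β.1 - β.1) (IrrCharacter.one G).1 = 1 := by
    have e1 := ip_mul_star_one β
    rw [star_eq_of_bar hr] at e1
    rw [ip_sub_left, e1, ip_eq_zero_of_deg (by rw [h, deg_one]; omega), sub_zero]
  have h4 := isIrr_of_four hyp hu2 (hc.sub_irr _ (by rw [h3]; exact one_ne_zero))
    (by rw [ip_sub_left, h3, IrrCharacter.ip_self, sub_self]) (by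
      simp only [Pi.sub_apply, Pi.mul_apply, h1, h2, IrrCharacter.one_apply]; norm_num)
  have h6 := congrArg Subtype.val (hψ ⟨_, h4⟩ (charDegree_eq_of_apply_one (by
    simp only [Pi.sub_apply, Pi.mul_apply, h1, IrrCharacter.one_apply]; norm_num)))
  rw [← h6]; simp only; ring

theorem mul_psi_eq {β : IrrCharacter G} (h : charDegree β.1 = 3) (hr : β.bar = β) :
    β.1 * ψ.1 = ψ.1 + fun g => (ψ g ^ 2 - ψ (g * g)) / 2 := by
  have h1 : ∀ g, ψ g = β g * β g - β g - 1 := fun g => by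
    have := congrFun (mul_self_eq hyp hu2 h5 hψ h hr) g
    simp only [Pi.mul_apply, Pi.add_apply, IrrCharacter.one_apply] at this
    linear_combination -this
  ext g
  have h2 := apply_mul_self hyp h g
  rw [← β.bar_apply, hr] at h2
  simp only [Pi.mul_apply, Pi.add_apply, h1, h2]
  ring

theorem exists_alt : ∃ (S A : G → ℂ) (α α' : IrrCharacter G),
    A = (fun g => (ψ g ^ 2 - ψ (g * g)) / 2) ∧ IsCharacter G S ∧ IsCharacter G A ∧
    ψ.1 * ψ.1 = S + A ∧ S 1 = 15 ∧ S u = 3 ∧ A 1 = 10 ∧ ip S (IrrCharacter.one G).1 = 1 ∧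
    ip (ψ.1 * ψ.1) (IrrCharacter.one G).1 = 1 ∧ charDegree α.1 = 3 ∧ ip A α.1 ≠ 0 ∧
    ∀ χ : IrrCharacter G, 5 ≤ charDegree χ.1 → ip A χ.1 = 0 := by
  have h1 : ψ 1 = 5 := by rw [ψ.apply_one, h5]; simp
  have h2 := apply_of_five hyp hu2 h5
  have hr := hψ _ ((deg_bar ψ).trans h5)
  have huu : u * u = 1 := by rw [← sq, hu2]
  have hA := ψ.isCharacter.altSq
  obtain ⟨α, hα, hα'⟩ := exists_three_of_neg hyp hA (by simp only [huu, h1, h2]; norm_num)
  obtain ⟨α', hβ, hβ'⟩ := exists_three_of_neg hyp (hA.sub_irr _ hα') (by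
    simp only [Pi.sub_apply, huu, h1, h2, apply_of_three hyp hu2 hα]; norm_num)
  have e1 := ip_mul_star_one ψ
  rw [star_eq_of_bar hr] at e1
  have e2 : ip (fun g => ψ (g * g)) (IrrCharacter.one G).1 = 1 := by
    have := ψ.fsInd_eq_one_of_odd (ψ.real_iff_bar_eq.2 hr) (by rw [h5]; decide)
    rwa [fsInd_eq_ip] at this
  refine ⟨_, _, α, α', rfl, ψ.isCharacter.symSq, hA, ?_, ?_, ?_, ?_, ?_, e1, hα, hα', ?_⟩
  · ext g; simp only [Pi.mul_apply, Pi.add_apply]; ring
  · simp only [mul_one, h1]; norm_num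
  · simp only [huu, h1, h2]; norm_num
  · simp only [mul_one, h1]; norm_num
  · have : (fun g => (ψ g ^ 2 + ψ (g * g)) / 2) =
        (2⁻¹ : ℂ) • (ψ.1 * ψ.1 + fun g => ψ (g * g)) := by
      ext g; simp only [Pi.smul_apply, Pi.add_apply, Pi.mul_apply, smul_eq_mul]; ring
    rw [this, ip_smul_left, ip_add_left, e1, e2]; norm_num
  · intro χ hχ
    by_contra hn
    have e3 := ip_ne_zero_of_sub (hA.sub_irr _ hα')
      (ip_ne_zero_of_sub hA hn (ψ := α) (by rintro rfl; omega)) (ψ := α') (by rintro rfl; omega)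
    have e4 := deg_le ((hA.sub_irr _ hα').sub_irr _ hβ') e3 (n := 4) (by
      simp only [Pi.sub_apply, mul_one, h1, α.apply_one, α'.apply_one, hα, hβ]; norm_num)
    omega

theorem nonreal_aux {β : IrrCharacter G} (h : charDegree β.1 = 3) (hr : β.bar ≠ β) :
    ip (ψ.1 * ψ.1) ψ.1 = 0 ∧ ip (β.1 * ψ.1) (β.1 * ψ.1) = 2 := by
  obtain ⟨S, A, α, α', -, hS, hA, e, hS1, hSu, hA1, hS0, e0, -, -, hA5⟩ :=
    exists_alt hyp hu2 h5 hψ
  obtain ⟨θ, hθ, hθu, eθ⟩ := exists_eight hyp hu2 h hr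
  have hψr := star_eq_of_bar (hψ _ ((deg_bar ψ).trans h5))
  have hψψ := ψ.isCharacter.mul ψ.isCharacter
  have h1 : ip (β.1 * ψ.1) (β.1 * ψ.1) = 1 + ip S θ.1 := by
    have := ip_mul_star_mul_star β.1 β.1 ψ.1 ψ.1
    rw [hψr, mul_comm ψ.1 β.1, eθ] at this
    rw [← this, ip_add_left, (IrrCharacter.isCharacter _).ip_comm hψψ, e0,
      θ.isCharacter.ip_comm hψψ, e, ip_add_left, hA5 θ (by omega), add_zero]
  have h2 : ip S θ.1 ≠ 0 := by
    intro h0
    rw [h0, add_zero] at h1
    have := eq_three_of_neg hyp hu2 (β.isCharacter.mul ψ.isCharacter) h1 (by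
      simp only [Pi.mul_apply, apply_of_three hyp hu2 h, apply_of_five hyp hu2 h5]; norm_num)
    simp only [Pi.mul_apply, β.apply_one, ψ.apply_one, h, h5] at this
    norm_num at this
  have hθ1 : θ ≠ IrrCharacter.one G := ne_one_of_deg (by omega)
  have h3 := (hS.sub_irr _ (by rw [hS0]; exact one_ne_zero)).sub_irr θ
    (ip_ne_zero_of_sub hS h2 hθ1)
  have h4 := isIrr_of_four hyp hu2 h3 (by
    rw [ip_sub_left, ip_sub_left, hS0, IrrCharacter.ip_self, IrrCharacter.ip_of_ne hθ1]; simp) (by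
    simp only [Pi.sub_apply, hS1, hSu, hθu, θ.apply_one, hθ, IrrCharacter.one_apply]; norm_num)
  set χ : IrrCharacter G := ⟨_, h4⟩ with hχ
  have h6 : charDegree χ.1 = 6 := charDegree_eq_of_apply_one (by
    simp only [hχ, Pi.sub_apply, hS1, θ.apply_one, hθ, IrrCharacter.one_apply]; norm_num)
  have h7 : S = (IrrCharacter.one G).1 + θ.1 + χ.1 := by rw [hχ]; simp only; ring
  constructor
  · rw [e, ip_add_left, hA5 ψ (by omega), h7, ip_add_left, ip_add_left,
      ip_eq_zero_of_deg (by rw [deg_one]; omega), ip_eq_zero_of_deg (by omega),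
      ip_eq_zero_of_deg (by omega)]
    simp
  · rw [h1, h7, ip_add_left, ip_add_left, ip_eq_zero_of_deg (by rw [deg_one]; omega),
      θ.ip_self, ip_eq_zero_of_deg (by omega)]
    norm_num

theorem bar_eq {β : IrrCharacter G} (h : charDegree β.1 = 3) : β.bar = β := by
  by_contra hr
  obtain ⟨S, A, α, α', eA, hS, hA, e, hS1, hSu, hA1, hS0, e0, hα, hα', hA5⟩ :=
    exists_alt hyp hu2 h5 hψ
  have hψr := star_eq_of_bar (hψ _ ((deg_bar ψ).trans h5))
  have hψψ := ψ.isCharacter.mul ψ.isCharacter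
  have hαψ := α.isCharacter.mul ψ.isCharacter
  have e1 : ip (α.1 * ψ.1) ψ.1 = ip (ψ.1 * ψ.1) α.1 := by
    rw [ip_mul_left, hψr, α.isCharacter.ip_comm hψψ]
  by_cases hαr : α.bar = α
  · have h1 := (nonreal_aux hyp hu2 h5 hψ h hr).1
    have h2 := mul_self_eq hyp hu2 h5 hψ hα hαr
    have h3 := mul_psi_eq hyp hu2 h5 hψ hα hαr
    rw [← eA] at h3
    have h4 := ip_mul_star_mul_star ψ.1 ψ.1 α.1 α.1
    rw [hψr, star_eq_of_bar hαr, h2, ip_add_right, ip_add_right, h1, e0, ← e1, mul_comm ψ.1 α.1,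
      h3] at h4
    simp only [ip_add_left, ip_add_right, ψ.ip_self, hA5 ψ (by omega),
      ψ.isCharacter.ip_comm hA] at h4
    have h6 : ip A A = 1 := by linear_combination -h4
    have := IrrCharacter.eq_of_ip_ne_zero (χ := ⟨A, hA.isIrr_iff.2 h6⟩) hα'
    have h7 : A = α.1 := congrArg Subtype.val this
    rw [h7, α.apply_one, hα] at hA1
    norm_num at hA1
  · have h1 := (nonreal_aux hyp hu2 h5 hψ hα hαr).2
    have h2 : ip (α.1 * ψ.1) ψ.1 ≠ 0 := by
      rw [e1, e, add_comm]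
      exact hA.ip_add_ne_zero_left hS α.isCharacter hα'
    have h3 := hαψ.sub_irr ψ h2
    obtain ⟨m, hm⟩ := hαψ.exists_ip_eq_nat ψ.isCharacter
    obtain ⟨n, hn⟩ := h3.exists_ip_eq_nat h3
    have h4 : (n : ℂ) + 2 * m = 3 := by
      rw [← hn, ip_sub_left, ip_sub_right, ip_sub_right, h1, ψ.isCharacter.ip_comm hαψ, hm,
        ψ.ip_self]
      ring
    have h6 : n + 2 * m = 3 := by exact_mod_cast h4
    have h7 : m ≠ 0 := by rintro rfl; exact h2 (by simpa using hm)
    have h8 : n = 1 := by omega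
    have := eq_three_of_neg hyp hu2 h3 (by rw [hn, h8]; simp) (by
      simp only [Pi.sub_apply, Pi.mul_apply, apply_of_three hyp hu2 hα, apply_of_five hyp hu2 h5]
      norm_num)
    simp only [Pi.sub_apply, Pi.mul_apply, α.apply_one, ψ.apply_one, hα, h5] at this
    norm_num at this

theorem card_three_le :
    (Finset.univ.filter fun χ : IrrCharacter G => charDegree χ.1 = 3).card ≤ 3 := by
  obtain ⟨S, A, α, α', eA, hS, hA, e, hS1, hSu, hA1, hS0, e0, hα, hα', hA5⟩ :=
    exists_alt hyp hu2 h5 hψ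
  have h1 : ∀ β : IrrCharacter G, charDegree β.1 = 3 → ipNat A β.1 = 1 := fun β h => by
    have hr := bar_eq hyp hu2 h5 hψ h
    have h2 := mul_self_eq hyp hu2 h5 hψ h hr
    have h3 := mul_psi_eq hyp hu2 h5 hψ h hr
    rw [← eA] at h3
    have h4 := ip_mul_left ψ.1 β.1 β.1
    rw [star_eq_of_bar hr, h2, mul_comm, h3, ip_add_left, ip_add_right, ip_add_right, ψ.ip_self,
      ip_eq_zero_of_deg (χ := ψ) (ψ := β) (by omega),
      ip_eq_zero_of_deg (by rw [deg_one]; omega)] at h4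
    exact ipNat_eq_of_ip_eq (by simpa using h4)
  have h2 := hA.charDegree_eq_sum
  rw [charDegree_eq_of_apply_one (n := 10) (by rw [hA1]; simp)] at h2
  have h3 := Finset.sum_le_sum_of_subset (f := fun χ : IrrCharacter G =>
    ipNat A χ.1 * charDegree χ.1) (Finset.filter_subset (fun χ => charDegree χ.1 = 3) Finset.univ)
  rw [← h2, Finset.sum_congr rfl (g := fun _ => 3) fun χ hχ => by
    rw [h1 χ (Finset.mem_filter.1 hχ).2, (Finset.mem_filter.1 hχ).2]] at h3
  simp only [Finset.sum_const, smul_eq_mul] at h3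
  omega

end Psi

theorem sum_eq (hu : u ≠ 1) (F : IrrCharacter G → ℂ) {c0 c3 c5 c6 : ℂ}
    (h0 : F (IrrCharacter.one G) = c0) (h3 : ∀ χ, charDegree χ.1 = 3 → F χ = c3)
    (h5 : ∀ χ, charDegree χ.1 = 5 → F χ = c5) (h6 : ∀ χ, charDegree χ.1 = 6 → F χ = c6)
    (hz : ∀ χ : IrrCharacter G, χ u = 0 → F χ = 0) :
    ∑ χ, F χ = c0 +
      (Finset.univ.filter fun χ : IrrCharacter G => charDegree χ.1 = 3).card * c3 +
      (Finset.univ.filter fun χ : IrrCharacter G => charDegree χ.1 = 5).card * c5 +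
      (Finset.univ.filter fun χ : IrrCharacter G => charDegree χ.1 = 6).card * c6 := by
  classical
  have key : ∀ χ, F χ = (if χ = IrrCharacter.one G then c0 else 0) +
      (if charDegree χ.1 = 3 then c3 else 0) + (if charDegree χ.1 = 5 then c5 else 0) +
      (if charDegree χ.1 = 6 then c6 else 0) := fun χ => by
    by_cases h1 : χ = IrrCharacter.one G
    · subst h1; simp [deg_one, h0]
    rcases cases' hyp hu2 hu h1 with h | h | h | h
    · have := four_dvd hyp hu2 h
      rw [hz χ h, if_neg h1, if_neg (by omega), if_neg (by omega), if_neg (by omega)]; simp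
    · simp [h1, h, h3 χ h]
    · simp [h1, h, h5 χ h]
    · simp [h1, h, h6 χ h]
  rw [Finset.sum_congr rfl fun χ _ => key χ]
  simp [Finset.sum_add_distrib, Finset.sum_ite]

theorem card_eq_sixty (hu : u ≠ 1) : Nat.card G = 60 ∧ Nat.card (centralizer ({u} : Set G)) = 4 ∧
    ∀ g, IsPElt 2 g → g ≠ 1 → IsConj u g := by
  classical
  have e1 := sum_eq hyp hu2 hu (fun χ => χ 1 * χ u) (c0 := 1) (c3 := -3) (c5 := 5) (c6 := 12)
    (by simp) (fun χ h => by rw [χ.apply_one, h, apply_of_three hyp hu2 h]; norm_num)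
    (fun χ h => by rw [χ.apply_one, h, apply_of_five hyp hu2 h]; norm_num)
    (fun χ h => by rw [χ.apply_one, h, apply_of_six hyp hu2 h]; norm_num)
    (fun χ h => by simp [h])
  have e2 := sum_eq hyp hu2 hu (fun χ => χ u * conj (χ u)) (c0 := 1) (c3 := 1) (c5 := 1) (c6 := 4)
    (by simp) (fun χ h => by rw [apply_of_three hyp hu2 h]; norm_num)
    (fun χ h => by rw [apply_of_five hyp hu2 h]; norm_num)
    (fun χ h => by rw [apply_of_six hyp hu2 h, map_ofNat]; norm_num)
    (fun χ h => by simp [h])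
  have e3 := sum_eq hyp hu2 hu (fun χ => χ u * χ u * conj (χ u) / χ 1) (c0 := 1) (c3 := -1 / 3)
    (c5 := 1 / 5) (c6 := 4 / 3)
    (by simp) (fun χ h => by rw [χ.apply_one, h, apply_of_three hyp hu2 h]; norm_num)
    (fun χ h => by rw [χ.apply_one, h, apply_of_five hyp hu2 h]; norm_num)
    (fun χ h => by rw [χ.apply_one, h, apply_of_six hyp hu2 h, map_ofNat]; norm_num)
    (fun χ h => by simp [h])
  have e4 := card_class_mul_eq_sum u u u
  rw [sum_irr_one_mul_of_ne_one hu] at e1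
  rw [sum_irr_mul_conj_of_isConj (IsConj.refl u)] at e2
  rw [e3, ← (centralizer ({u} : Set G)).index_mul_card] at e4
  have hle := fun ψ h5 hψ => card_three_le hyp hu2 (ψ := ψ) h5 hψ
  have hi := (centralizer ({u} : Set G)).index_ne_zero_of_finite
  have hc : Nat.card (centralizer ({u} : Set G)) ≠ 0 := Nat.card_pos.ne'
  have hG := (centralizer ({u} : Set G)).index_mul_card
  have hn5 : (Finset.univ.filter fun χ : IrrCharacter G => charDegree χ.1 = 5).card = 1 →
      (Finset.univ.filter fun χ : IrrCharacter G => charDegree χ.1 = 3).card ≤ 3 := fun h => by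
    obtain ⟨ψ, hψ⟩ := Finset.card_eq_one.1 h
    refine hle ψ ?_ fun χ hχ => ?_
    · have := Finset.mem_singleton_self ψ
      rw [← hψ] at this
      exact (Finset.mem_filter.1 this).2
    · exact Finset.mem_singleton.1 (hψ ▸ Finset.mem_filter.2 ⟨Finset.mem_univ _, hχ⟩)
  set a := Nat.card {xy : G × G // IsConj u xy.1 ∧ IsConj u xy.2 ∧ xy.1 * xy.2 = u} with ha
  generalize (Finset.univ.filter fun χ : IrrCharacter G => charDegree χ.1 = 3).card = t at *
  generalize (Finset.univ.filter fun χ : IrrCharacter G => charDegree χ.1 = 5).card = n5 at *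
  generalize (Finset.univ.filter fun χ : IrrCharacter G => charDegree χ.1 = 6).card = n6 at *
  set i := (centralizer ({u} : Set G)).index
  set c := Nat.card (centralizer ({u} : Set G)) with hcdef
  have f1 : 3 * t = 1 + 5 * n5 + 12 * n6 := by
    have : (3 * t : ℂ) = 1 + 5 * n5 + 12 * n6 := by linear_combination e1
    exact_mod_cast this
  have f2 : c = 1 + t + n5 + 4 * n6 := by
    have : (c : ℂ) = 1 + t + n5 + 4 * n6 := by linear_combination e2
    exact_mod_cast this
  have f3 : 45 * a * c + 16 * n5 * i = 40 * i := by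
    have hi' : (i : ℂ) ≠ 0 := by exact_mod_cast hi
    have hc' : (c : ℂ) ≠ 0 := by exact_mod_cast hc
    have : (45 * a * c + 16 * n5 * i : ℂ) = 40 * i := by
      rw [e4]; push_cast; field_simp
      linear_combination (-75 : ℂ) * e1
    exact_mod_cast this
  have f4 : n5 = 1 := by
    have : 16 * n5 * i ≤ 40 * i := by omega
    have := Nat.le_of_mul_le_mul_right this (Nat.pos_of_ne_zero hi)
    omega
  have f5 := hn5 f4
  have f6 : c = 4 := by omega
  rw [f4, f6] at f3
  have huu : u * u = 1 := by rw [← sq, hu2]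
  have key : ∀ x y : G, IsConj u x → IsConj u y → x * y = u →
      x ∈ centralizer ({u} : Set G) ∧ x ≠ 1 ∧ x ≠ u := by
    intro x y hx hy hxy
    have sq1 : ∀ x, IsConj u x → x * x = 1 := fun x hx => by
      obtain ⟨k, rfl⟩ := isConj_iff.1 hx
      calc k * u * k⁻¹ * (k * u * k⁻¹) = k * (u * u) * k⁻¹ := by group
        _ = 1 := by rw [huu]; group
    refine ⟨mem_centralizer_singleton_iff.2 ?_, fun h => hu (isConj_one_left.1 (h ▸ hx)),
      fun h => hu (isConj_one_left.1 ?_)⟩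
    · have h1 : y = x * u := by rw [← hxy, ← mul_assoc, sq1 x hx, one_mul]
      have h2 := sq1 y hy
      rw [h1] at h2
      rw [eq_inv_of_mul_eq_one_left h2, mul_inv_rev, inv_eq_of_mul_eq_one_left huu,
        inv_eq_of_mul_eq_one_left (sq1 x hx)]
    · rw [h] at hxy
      rwa [mul_eq_left.1 hxy] at hy
  have hu' : u ∈ centralizer ({u} : Set G) := mem_centralizer_singleton_iff.2 rfl
  have hS : ((centralizer ({u} : Set G) : Set G) \ {1, u}).ncard = 2 := by
    rw [Set.ncard_diff (by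
      rintro z (rfl | rfl)
      exacts [one_mem _, hu']), Set.ncard_pair hu.symm, ← Nat.card_coe_set_eq]
    exact congrArg (· - 2) f6
  have ha2 : a ≤ 2 := by
    rw [← hS, ← Nat.card_coe_set_eq]
    refine Nat.card_le_card_of_injective (fun xy => ⟨xy.1.1, ?_⟩) ?_
    · obtain ⟨h1, h2, h3⟩ := key _ _ xy.2.1 xy.2.2.1 xy.2.2.2
      exact ⟨h1, by simp [h2, h3]⟩
    · rintro ⟨⟨x, y⟩, h1, h2, h3⟩ ⟨⟨x', y'⟩, h1', h2', h3'⟩ e
      simp only [Subtype.mk.injEq] at e
      subst e
      simp only [Subtype.mk.injEq, Prod.mk.injEq, true_and]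
      exact mul_left_cancel (h3.trans h3'.symm)
  have ha3 : a = 2 := by omega
  refine ⟨by rw [← hG, f6]; omega, f6, fun g hg hg1 => ?_⟩
  obtain ⟨⟨⟨x, y⟩, hx, hy, hxy⟩⟩ : Nonempty
      {xy : G × G // IsConj u xy.1 ∧ IsConj u xy.2 ∧ xy.1 * xy.2 = u} :=
    (Nat.card_pos_iff.1 (by rw [← ha, ha3]; norm_num)).1
  simp only at hx hy hxy
  obtain ⟨h1, h2, h3⟩ := key x y hx hy hxy
  have hyx : y * x = u := by
    have := mem_centralizer_singleton_iff.1 h1
    calc y * x = x⁻¹ * (x * y) * x := by group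
      _ = u := by rw [hxy, mul_assoc, ← this]; group
  obtain ⟨h4, h5, h6⟩ := key y x hy hx hyx
  have hne : x ≠ y := by
    rintro rfl
    obtain ⟨k, rfl⟩ := isConj_iff.1 hx
    apply hu
    calc u = k * u * k⁻¹ * (k * u * k⁻¹) := hxy.symm
      _ = k * (u * u) * k⁻¹ := by group
      _ = 1 := by rw [huu]; group
  have hS' : ({x, y} : Set G) = (centralizer ({u} : Set G) : Set G) \ {1, u} := by
    refine Set.eq_of_subset_of_ncard_le ?_ (by rw [hS, Set.ncard_pair hne])
    rintro z (rfl | rfl)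
    · exact ⟨h1, by simp [h2, h3]⟩
    · exact ⟨h4, by simp [h5, h6]⟩
  let P : Sylow 2 G := Sylow.ofCard (centralizer ({u} : Set G)) (by
    rw [← hG, f6, show i = 15 by omega, ← hcdef, f6]
    decide +kernel)
  obtain ⟨k, hk⟩ := hg.exists_conj_mem P
  refine IsConj.trans ?_ (isConj_iff.2 ⟨k, rfl⟩).symm
  by_cases e : k * g * k⁻¹ = u
  · rw [e]
  have : k * g * k⁻¹ ∈ ({x, y} : Set G) := by
    rw [hS']
    exact ⟨hk, by simp [e, hg1]⟩
  rcases this with e | e
  · rwa [e]
  · rwa [e]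

end Cfsg.Four
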