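import Cfsg.Agent.Char.RelTaketaB

/-!
# Solvable groups with four character degrees (Garrison)
-/

set_option autoImplicit false
set_option linter.unusedSectionVars false

namespace Cfsg

open scoped commutatorElement Classical
open Subgroup MulAction

universe u v

variable {G : Type u} [Group G] [Finite G] {p : ℕ}

theorem IrrCharacter.exists_inflate_mk' {K : Subgroup G} [K.Normal] {χ : IrrCharacter G}
    (h : K ≤ charKer χ.1) : ∃ β : IrrCharacter (G ⧸ K),
      β.inflate _ (QuotientGroup.mk'_surjective K) = χ :=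
  χ.exists_inflate_eq _ _ fun g hg => χ.mem_charKer.1 (h (by rwa [QuotientGroup.ker_mk'] at hg))

theorem charDegree_dvd_index_of_commutator_le {L : Subgroup G} [L.Normal] {χ : IrrCharacter G}
    (h : ⁅L, L⁆ ≤ charKer χ.1) : charDegree χ.1 ∣ L.index := by
  obtain ⟨θ, hθ⟩ := χ.exists_liesOver_below L.subtype
  have h6 := hθ.charDegree_dvd_mul_index
  rwa [of_not_not fun e => hθ.not_commutator_le_charKer e h, one_mul, range_subtype] at h6

theorem derivedSeries_succ_eq_map (k : ℕ) (L : Subgroup G) :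
    (derivedSeries L (k + 1)).map L.subtype =
      ⁅(derivedSeries L k).map L.subtype, (derivedSeries L k).map L.subtype⁆ := by
  rw [derivedSeries_succ, map_commutator]

/-- Over a normal Sylow subgroup `V` with a single nonlinear `p'`-degree, `G'' ≤ V'`. -/
theorem derivedSeries_two_le_of_normal_sylow [hp : Fact p.Prime] {V : Subgroup G} [V.Normal]
    (hV : IsPGroup p V) (hi : ¬ p ∣ V.index) {b : ℕ}
    (h : ∀ χ : IrrCharacter G, ¬ p ∣ charDegree χ.1 → charDegree χ.1 = 1 ∨ charDegree χ.1 = b) :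
    derivedSeries G 2 ≤ ⁅V, V⁆ := by
  have hQ : ∀ β : IrrCharacter (G ⧸ V), charDegree β.1 = 1 ∨ charDegree β.1 = b := fun β => by
    rw [← β.charDegree_inflate _ (QuotientGroup.mk'_surjective V)]
    exact h _ fun hd => hi (hd.trans (by
      rw [β.charDegree_inflate]; exact β.charDegree_dvd_card))
  have h2 := derivedSeries_le_of_quotient (derivedSeries_two_eq_bot hQ)
  obtain ⟨k, hk⟩ := hV.exists_card_eq
  intro z hz
  by_contra hn
  obtain ⟨lam, h3, h4⟩ := exists_linear_ne_one (L := commutator V) le_rfl (g := ⟨z, h2 hz⟩)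
    fun e => hn (coe_mem_commutator_iff.2 e)
  have hVT := le_inertia_subtype V (IrrCharacter.ofLinear lam)
  obtain ⟨η, hη, -⟩ := exists_extension_of_coprime_card
    (inertia_toInertia V.subtype (IrrCharacter.ofLinear lam)) (by
      rw [range_toInertia, range_subtype, ← relIndex, hk]
      exact ((hp.out.coprime_iff_not_dvd.2 hi).pow_left k).coprime_dvd_right
        (relIndex_dvd_index_of_normal _ _))
  obtain ⟨χ, -, hχ⟩ := exists_liesOver_of_extends hη (IrrCharacter.one _)
  rw [IrrCharacter.charDegree_one, IrrCharacter.charDegree_ofLinear, one_mul, mul_one] at hχ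
  have hT : commutator G ≤ inertia V.subtype (IrrCharacter.ofLinear lam) := by
    have := commutator_le_of_index_le (L := (inertia V.subtype (IrrCharacter.ofLinear lam)).map
      (QuotientGroup.mk' V)) fun ψ hψ => by
        rw [index_map_mk', sup_eq_left.2 hVT, (hQ ψ).resolve_left hψ, ← hχ]
        rcases h χ (fun hd => hi (hd.trans (hχ ▸ index_dvd_of_le hVT))) with e | e
        · rw [e, ← (hQ ψ).resolve_left hψ]; exact ψ.charDegree_pos
        · exact e.le
    rwa [commutator_quotient_eq, Subgroup.map_le_map_iff, QuotientGroup.ker_mk', sup_eq_left.2 hVT] at this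
  have h1 : charDegree η.1 = 1 := by
    rw [charDegree_eq_of_comp_eq hη, IrrCharacter.charDegree_ofLinear]
  have h5 := η.mem_charKer.1 (η.commutator_le_charKer_iff'.2 h1 ((coe_mem_commutator_iff
    (x := toInertia V.subtype (IrrCharacter.ofLinear lam) ⟨z, h2 hz⟩)).1
    (commutator_mono hT hT hz)))
  have h6 := congrFun hη ⟨z, h2 hz⟩
  rw [η.apply_one_eq_one_iff.2 h1] at h5
  exact h4 (Units.val_eq_one.1 (h6.symm.trans h5))

theorem false_of_minNormal_of_mul_degrees [Group.IsSolvable G] [hp : Fact p.Prime] {e b : ℕ}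
    (hb : ¬ p ∣ b) (h : ∀ χ : IrrCharacter G, p ∣ charDegree χ.1 →
      charDegree χ.1 = p ^ e ∨ charDegree χ.1 = p ^ e * b)
    {N V W : Subgroup G} [N.Normal] [V.Normal] [W.Normal] (hN : IsPGroup p (G ⧸ N))
    {β : IrrCharacter G} (hβ : N ≤ charKer β.1) (hβe : charDegree β.1 = p ^ e)
    (hW : IsMinNormal W) (hWp : ¬ p ∣ Nat.card W) (hWV : W ≤ V) (hVN : V ≤ N)
    (hV : IsPGroup p (V.map (QuotientGroup.mk' W))) (hc : ¬ W ≤ centralizer (V : Set G)) :
    False := by
  obtain ⟨Q⟩ : Nonempty (Sylow p G) := inferInstance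
  have h1 := sylow_inf_sup_eq Q hWV hV
  obtain ⟨_, _, hel⟩ := hW.exists_isElementaryAbelian
  have hWW : W ≤ centralizer (W : Set G) := le_centralizer_iff_isMulCommutative.2 hel.1
  have hC : W ⊓ centralizer (V : Set G) = ⊥ :=
    (hW.3 _ inferInstance inf_le_left).resolve_right fun e => hc (e ▸ inf_le_right)
  obtain ⟨x, hx⟩ : ∃ x : LinC W.subtype, ¬ V ≤ inertia W.subtype x.irr := by
    by_contra hn
    push Not at hn
    refine hc (commutator_eq_bot_iff_le_centralizer.1 (eq_bot_iff.2 ?_))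
    rw [← commutator_eq_bot_iff_le_centralizer.2 hWW]
    exact ThreePrimes.commutator_le_of_forall_smul fun x y hy => LinC.mem_inertia_iff.1 (hn x hy)
  have hWT := le_inertia_subtype W x.irr
  obtain ⟨η, hη, -⟩ := exists_extension_of_supplement (inertia_toInertia W.subtype x.irr)
    (by simp) ((normalizer (((Q : Subgroup G) ⊓ V : Subgroup G) : Set G)).subgroupOf _) (by
      rw [range_toInertia, range_subtype]
      refine subgroupOf_sup_subgroupOf_of_le hWT ?_
      rw [eq_top_iff, ← normalizer_sylow_inf_sup_eq_top Q V]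
      exact sup_le le_sup_left (h1.ge.trans (sup_le_sup_right le_normalizer _))) (fun n hn => by
        have h2 := mem_centralizer_of_mem_normalizer_of_inf_eq_bot
          (normalizer_eq_top W ▸ le_top) (inf_comm W _ ▸ inf_eq_bot_of_isPGroup_of_not_dvd
            Q.isPGroup'.to_inf_left hWp) n.2 hn
        have h3 : (n : G) ∈ W ⊓ centralizer (V : Set G) := mem_inf.2 ⟨n.2, by
          have : V ≤ centralizer {(n : G)} := h1.ge.trans (sup_le
            (fun y hy => mem_centralizer_singleton_iff.2 (h2 y hy))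
            fun y hy => mem_centralizer_singleton_iff.2 (hWW n.2 y hy))
          exact fun y hy => mem_centralizer_singleton_iff.1 (this hy)⟩
        rw [hC, mem_bot, OneMemClass.coe_eq_one] at h3
        rw [h3, detChar_apply_one])
  obtain ⟨T, hT⟩ : ∃ T, T = inertia W.subtype x.irr := ⟨_, rfl⟩
  have hdeg : ∀ κ : IrrCharacter (inertia W.subtype x.irr), W.subgroupOf _ ≤ charKer κ.1 →
      ∃ χ : IrrCharacter G, charDegree χ.1 = charDegree κ.1 * T.index := fun κ hκ => by
    obtain ⟨γ, rfl⟩ := IrrCharacter.exists_inflate_mk' (K := (toInertia W.subtype x.irr).range)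
      (χ := κ) (by rwa [range_toInertia, range_subtype])
    obtain ⟨χ, -, e⟩ := exists_liesOver_of_extends hη γ
    exact ⟨χ, by rw [e, hT, LinC.charDegree_irr, mul_one, γ.charDegree_inflate]⟩
  have hpT : p ∣ T.relIndex (T ⊔ N) := by
    obtain ⟨k, hk⟩ := hV.exists_card_eq
    rw [card_map_mk'_eq_relIndex] at hk
    obtain ⟨i, -, hi⟩ := (Nat.dvd_prime_pow hp.out).1
      (hk ▸ relIndex_dvd_of_le_left V (hT ▸ hWT : W ≤ T))
    refine (dvd_pow_self p (n := i) fun e =>
      hx (hT ▸ relIndex_eq_one.1 (by rw [hi, e, pow_zero]))).trans ?_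
    rw [← hi, ← relIndex_sup_normal_eq_relIndex,
      ← relIndex_mul_relIndex T (T ⊔ V) (T ⊔ N) le_sup_left (sup_le_sup_left hVN _)]
    exact dvd_mul_right _ _
  have hidx := relIndex_mul_index (le_sup_left : T ≤ T ⊔ N)
  have hpT' : p ∣ T.index := hidx ▸ hpT.mul_right _
  have hdvd : ∀ χ : IrrCharacter G, p ∣ charDegree χ.1 → charDegree χ.1 ∣ p ^ e * b ∧
      p ^ e ∣ charDegree χ.1 := fun χ hχ => by
    rcases h χ hχ with e | e <;> rw [e]
    exacts [⟨dvd_mul_right _ _, dvd_rfl⟩, ⟨dvd_rfl, dvd_mul_right _ _⟩]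
  obtain ⟨χ, hχ⟩ := hdeg (IrrCharacter.one _) fun y _ => (IrrCharacter.mem_charKer _).2 rfl
  rw [IrrCharacter.charDegree_one, one_mul] at hχ
  have h3 := hdvd χ (hχ ▸ hpT')
  rw [hχ] at h3
  have hcomm : ⁅T, T⁆ ≤ N := by
    rw [hT, ← map_subtype_commutator, map_le_iff_le_comap, ← subgroupOf, ← map_mk'_eq_bot_iff,
      ← commutator_quotient_eq, commutator_eq_bot_iff_comm, comm_iff_forall_irr_charDegree]
    intro γ
    rw [← γ.charDegree_inflate _ (QuotientGroup.mk'_surjective _)]
    have h4 := le_charKer_inflate _ γ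
    obtain ⟨ψ, hψ⟩ := hdeg _ ((comap_mono (hWV.trans hVN)).trans h4)
    refine IrrCharacter.charDegree_eq_one_of_le_charKer (p := p) (fun hd => hb ?_) h4
      (IsPGroup.of_injective hN (QuotientGroup.lift _ ((QuotientGroup.mk' N).comp (Subgroup.subtype _))
        fun y hy => (QuotientGroup.eq_one_iff _).2 hy) ?_)
    · have := ((mul_dvd_mul hd h3.2).trans (hψ ▸ (hdvd ψ (hψ ▸ hpT'.mul_left _)).1))
      rw [mul_comm] at this
      exact Nat.dvd_of_mul_dvd_mul_left (pow_pos hp.out.pos e) this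
    · refine (injective_iff_map_eq_one _).2 fun y hy => ?_
      obtain ⟨y, rfl⟩ := QuotientGroup.mk_surjective y
      exact (QuotientGroup.eq_one_iff _).2 ((QuotientGroup.eq_one_iff (y : G)).1 hy)
  obtain ⟨φ, hφ⟩ := β.exists_liesOver_below (T ⊔ N).subtype
  have hφ1 : charDegree φ.1 = 1 := φ.commutator_le_charKer_iff'.1 fun y hy =>
    hφ.comap_charKer_le (hβ (by
      have : ⁅T ⊔ N, T ⊔ N⁆ ≤ N := by
        rw [← map_mk'_eq_bot_iff, map_commutator, Subgroup.map_sup, map_mk'_eq_bot_iff.2 le_rfl,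
          sup_bot_eq, ← map_commutator, map_mk'_eq_bot_iff]
        exact hcomm
      exact this (coe_mem_commutator_iff.2 hy)))
  have h5 := hφ.charDegree_le_index_mul (subtype_injective _) φ.isCharacter
  rw [range_subtype, hφ1, mul_one, hβe] at h5
  obtain ⟨k, hk⟩ := hN.exists_card_eq
  obtain ⟨i, -, hi⟩ := (Nat.dvd_prime_pow hp.out).1
    ((index_dvd_of_le (le_sup_right : N ≤ T ⊔ N)).trans (dvd_of_eq hk))
  have h6 : p ^ (i + 1) ∣ p ^ e := ((hp.out.coprime_iff_not_dvd.2 hb).pow_left _).dvd_of_dvd_mul_right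
    (((pow_succ' p i).symm ▸ mul_dvd_mul hpT (dvd_of_eq hi.symm)).trans (hidx ▸ h3.1))
  rw [hi, Nat.pow_le_pow_iff_right hp.out.one_lt] at h5
  have := (Nat.pow_dvd_pow_iff_le_right hp.out.one_lt).1 h6
  omega

theorem exists_normal_sylow_of_mul_degrees [hp : Fact p.Prime] {e b : ℕ} (hb : ¬ p ∣ b)
    (G : Type u) [Group G] [Finite G] : Group.IsSolvable G →
      (∀ χ : IrrCharacter G, p ∣ charDegree χ.1 →
        charDegree χ.1 = p ^ e ∨ charDegree χ.1 = p ^ e * b) →
      ∀ (N : Subgroup G) [N.Normal], IsPGroup p (G ⧸ N) → ∀ β : IrrCharacter G, N ≤ charKer β.1 →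
        charDegree β.1 = p ^ e →
          ∃ V : Subgroup G, V.Normal ∧ V ≤ N ∧ IsPGroup p V ∧ ¬ p ∣ V.relIndex N := by
  refine card_induction (P := fun G _ _ => Group.IsSolvable G →
      (∀ χ : IrrCharacter G, p ∣ charDegree χ.1 →
        charDegree χ.1 = p ^ e ∨ charDegree χ.1 = p ^ e * b) →
      ∀ (N : Subgroup G) [N.Normal], IsPGroup p (G ⧸ N) → ∀ β : IrrCharacter G, N ≤ charKer β.1 →
        charDegree β.1 = p ^ e →
          ∃ V : Subgroup G, V.Normal ∧ V ≤ N ∧ IsPGroup p V ∧ ¬ p ∣ V.relIndex N) ?_ G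
  intro G _ _ ih hsol h N _ hN β hβ hβe
  by_cases h0 : N = ⊥
  · exact ⟨⊥, inferInstance, bot_le, IsPGroup.of_bot, by
      rw [h0, relIndex_self]; exact hp.out.not_dvd_one⟩
  obtain ⟨W, hW, hWN⟩ := exists_isMinNormal_le N h0
  have := hW.1
  obtain ⟨γ, rfl⟩ := IrrCharacter.exists_inflate_mk' (hWN.trans hβ)
  obtain ⟨V, _, hVN, hVp, hi⟩ := ih _ (card_quotient_lt hW.2) inferInstance
    (fun χ hχ => by
      rw [← χ.charDegree_inflate _ (QuotientGroup.mk'_surjective W)] at hχ ⊢
      exact h _ hχ) (N.map (QuotientGroup.mk' W))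
    (hN.of_equiv (QuotientGroup.quotientQuotientEquivQuotient W N hWN).symm) γ
    ((map_le_charKer_iff _ γ).2 hβ) (by rwa [γ.charDegree_inflate] at hβe)
  have hVe := map_comap_eq_self_of_surjective (QuotientGroup.mk'_surjective W) V
  have hVN' : V.comap (QuotientGroup.mk' W) ≤ N := by
    refine (comap_mono hVN).trans ?_
    rw [QuotientGroup.comap_map_mk', sup_eq_right.2 hWN]
  rw [← relIndex_comap] at hi
  obtain ⟨q, hq, hel⟩ := hW.exists_isElementaryAbelian
  have := Fact.mk hq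
  by_cases hqp : q = p
  · exact ⟨_, inferInstance, hVN', hVp.comap_of_ker_isPGroup _
      (by rw [QuotientGroup.ker_mk']; exact hqp ▸ hel.isPGroup), hi⟩
  have hWV := QuotientGroup.le_comap_mk' W V
  obtain ⟨Q⟩ : Nonempty (Sylow p G) := inferInstance
  have h1 := sylow_inf_sup_eq Q hWV (hVe.symm ▸ hVp)
  have hc := of_not_not fun hc => false_of_minNormal_of_mul_degrees hb h hN hβ hβe hW
    (not_dvd_card_of_isPGroup_of_ne hqp hel.isPGroup) hWV hVN' (hVe.symm ▸ hVp) hc
  have h3 := normalizer_sylow_inf_sup_eq_top Q (V.comap (QuotientGroup.mk' W))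
  rw [sup_eq_left.2 (h1.ge.trans (sup_le le_normalizer ((hc.trans (centralizer_le
    (SetLike.coe_subset_coe.2 inf_le_right))).trans (centralizer_le_normalizer _)))),
    normalizer_eq_top_iff] at h3
  refine ⟨_, h3, inf_le_right.trans hVN', Q.isPGroup'.to_inf_left, ?_⟩
  rw [← relIndex_mul_relIndex _ _ N inf_le_right hVN', hp.out.dvd_mul, inf_relIndex_right]
  exact fun h4 => h4.elim (not_dvd_relIndex_sylow_inf_normal Q _) hi

theorem exists_ncard_diff_le {s : Set ℕ} (hs : s.Finite) {k : ℕ} (h : s.ncard ≤ k + 1) :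
    ∃ a, (s \ {a}).ncard ≤ k := by
  rcases s.eq_empty_or_nonempty with rfl | ⟨a, ha⟩
  · exact ⟨0, by simp⟩
  · exact ⟨a, by rw [Set.ncard_diff_singleton_of_mem ha]; omega⟩

theorem exists_forall_eq_of_ncard_le_two {s : Set ℕ} (hs : s.Finite) (h : s.ncard ≤ 2) :
    ∃ a b, ∀ x ∈ s, x = a ∨ x = b := by
  obtain ⟨a, ha⟩ := exists_ncard_diff_le hs h
  obtain ⟨b, hb⟩ := exists_ncard_diff_le (hs.diff) ha
  rw [Nat.le_zero, Set.ncard_eq_zero hs.diff.diff] at hb
  refine ⟨a, b, fun x hx => by_contra fun hn => ?_⟩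
  push Not at hn
  exact (hb ▸ (⟨⟨hx, hn.1⟩, hn.2⟩ : x ∈ (s \ {a}) \ {b}) : x ∈ (∅ : Set ℕ))

theorem ncard_charDegrees_diff_le {k : ℕ} (h : (charDegrees G).ncard ≤ k + 1) :
    (charDegrees G \ {1}).ncard ≤ k := by
  rw [Set.ncard_diff_singleton_of_mem one_mem_charDegrees]; omega

theorem derivedSeries_eq_bot_of_ncard_le_three {k : ℕ} (hk : k ≤ 3)
    (h : (charDegrees G).ncard ≤ k) : derivedSeries G k = ⊥ := by
  have h0 := (Set.ncard_pos finite_charDegrees).2 ⟨1, one_mem_charDegrees (G := G)⟩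
  interval_cases k
  · omega
  · rw [derivedSeries_one, commutator_eq_bot_iff_comm, comm_iff_charDegrees_subset]
    exact fun d hd => (Set.ncard_le_one finite_charDegrees).1 h _ hd _ one_mem_charDegrees
  · obtain ⟨m, hm⟩ := (Set.ncard_le_one_iff_subset_singleton finite_charDegrees.diff).1
      (ncard_charDegrees_diff_le h)
    exact derivedSeries_two_eq_bot (m := m) fun χ =>
      or_iff_not_imp_left.2 fun e => hm ⟨χ.charDegree_mem, e⟩
  · obtain ⟨m, n, hm⟩ := exists_forall_eq_of_ncard_le_two finite_charDegrees.diff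
      (ncard_charDegrees_diff_le h)
    exact derivedSeries_three_eq_bot G m n fun χ =>
      or_iff_not_imp_left.2 fun e => hm _ ⟨χ.charDegree_mem, e⟩

theorem FrobQuot.derivedSeries_four [Group.IsSolvable G] {K N : Subgroup G} {r b c : ℕ}
    (hF : FrobQuot K N r) (h : ∀ χ : IrrCharacter G, charDegree χ.1 = 1 ∨
      charDegree χ.1 = N.index ∨ charDegree χ.1 = b ∨ charDegree χ.1 = c)
    (hno : ∀ q : ℕ, q.Prime → ∃ χ : IrrCharacter G, charDegree χ.1 ≠ 1 ∧ ¬ q ∣ charDegree χ.1) :
    derivedSeries G 4 = ⊥ := by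
  have := hF.normal
  have h1 : derivedSeries G 1 ≤ (derivedSeries N 0).map N.subtype := by
    rw [derivedSeries_one, derivedSeries_zero, ← MonoidHom.range_eq_map, range_subtype]
    exact hF.commutator_le
  suffices h3 : derivedSeries N 3 = ⊥ by
    have h2 := derivedSeries_add_le_map h1 3
    rwa [h3, Subgroup.map_bot, le_bot_iff] at h2
  by_cases ha : ∀ χ : IrrCharacter G, ¬ ⁅N, N⁆ ≤ charKer χ.1 → charDegree χ.1 ≠ N.index
  · rw [← map_subtype_inj, Subgroup.map_bot, derivedSeries_succ_eq_map, derivedSeries_succ_eq_map,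
      map_derivedSeries_one]
    exact commutator_commutator_eq_bot_of_rel_two G inferInstance _ b c fun χ hχ =>
      ((h χ).resolve_left fun e => hχ ((commutator_mono le_top le_top).trans
        (χ.commutator_le_charKer_iff'.2 e))).resolve_left (ha χ hχ)
  push Not at ha
  obtain ⟨χ, hχ, hχa⟩ := ha
  obtain ⟨ψ, hψ⟩ := χ.exists_liesOver_below N.subtype
  have hψ1 : charDegree ψ.1 ≠ 1 := fun e => hχ (hψ.le_charKer_of_le_map N.subtype_injective (by
    rw [← map_subtype_commutator]
    exact map_mono (ψ.commutator_le_charKer_iff'.2 e)))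
  have hψa : charDegree ψ.1 ∣ N.index := hχa ▸ hψ.charDegree_dvd
  have hbc : ∀ θ : IrrCharacter N, charDegree θ.1 ≠ 1 → ∀ ζ : IrrCharacter G,
      charDegree ζ.1 = N.index * charDegree θ.1 → charDegree ζ.1 = b ∨ charDegree ζ.1 = c :=
    fun θ hθ ζ e => ((h ζ).resolve_left fun e' => hθ (Nat.eq_one_of_mul_eq_one_left (e ▸ e'))
      ).resolve_left fun e' => hθ (Nat.eq_of_mul_eq_mul_left (index_pos N) (by rw [← e, e', mul_one]))
  obtain ⟨ζ, hζ⟩ := (hF.mem_or_prime_dvd ψ).resolve_right fun hd => hF.not_dvd (hd.trans hψa)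
  wlog hc : N.index * charDegree ψ.1 = c generalizing b c
  · exact this (fun χ => (h χ).imp_right (Or.imp_right Or.symm))
      (fun θ hθ ζ e => (hbc θ hθ ζ e).symm) (hζ ▸ (hbc ψ hψ1 ζ hζ).resolve_right (hζ ▸ hc))
  have hab : b.Coprime N.index := Nat.coprime_of_dvd fun q hq hqb hqa => by
    obtain ⟨φ, h2, h3⟩ := hno q hq
    rcases (h φ).resolve_left h2 with e | e | e <;> rw [e] at h3
    exacts [h3 hqa, h3 hqb, h3 (hc ▸ hqa.mul_right _)]
  refine derivedSeries_three_eq_bot N b (charDegree ψ.1) fun θ => or_iff_not_imp_left.2 fun hθ => ?_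
  rcases hF.mem_or_prime_dvd θ with ⟨φ, hφ⟩ | hr
  · rcases hbc θ hθ φ hφ with e | e
    · exact (hF.ne_one ((Nat.coprime_self _).1 (hab.coprime_dvd_left
        (by rw [← e, hφ]; exact dvd_mul_right _ _)))).elim
    · exact Or.inr (Nat.eq_of_mul_eq_mul_left (index_pos N) (by rw [← hφ, e, hc]))
  · obtain ⟨φ, hφ⟩ := θ.exists_liesOver_above N.subtype_injective
    have h2 := hr.trans hφ.charDegree_dvd
    rcases h φ with e | e | e | e
    · exact (hF.prime.not_dvd_one (e ▸ h2)).elim
    · exact (hF.not_dvd (e ▸ h2)).elim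
    · exact Or.inl (by
        rw [← e, charDegree_eq_of_comp_eq (hφ.comp_eq_of_coprime (by rwa [range_subtype, e]))])
    · rw [e, ← hc] at h2
      exact (hF.not_dvd ((hF.prime.dvd_mul.1 h2).elim id (·.trans hψa))).elim

theorem PQuot.derivedSeries_four [Group.IsSolvable G] {K Z : Subgroup G} [K.Normal]
    {β : IrrCharacter G} (hP : PQuot K Z p β) (h : (charDegrees G).ncard ≤ 4)
    {χ : IrrCharacter G} (h1 : charDegree χ.1 ≠ 1) (hχ : ¬ p ∣ charDegree χ.1) :
    derivedSeries G 4 = ⊥ := by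
  have hp := Fact.mk hP.prime
  obtain ⟨k, hk⟩ := hP.pow
  obtain ⟨e, -, he⟩ := (Nat.dvd_prime_pow hP.prime).1 (hk ▸ charDegree_dvd_index_of_commutator_le
    ((commutator_le_left K K).trans hP.le_ker))
  have hd := hP.dvd
  have hcd : ∀ ψ : IrrCharacter G, charDegree ψ.1 = 1 ∨ charDegree ψ.1 = charDegree β.1 ∨
      charDegree ψ.1 = charDegree χ.1 ∨ charDegree ψ.1 = charDegree β.1 * charDegree χ.1 := by
    have h2 : ({1, charDegree β.1, charDegree χ.1, charDegree β.1 * charDegree χ.1} : Set ℕ) =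
        charDegrees G := by
      refine Set.eq_of_subset_of_ncard_le ?_ (h.trans_eq (Eq.symm ?_)) finite_charDegrees
      · rintro _ (rfl | rfl | rfl | rfl)
        exacts [one_mem_charDegrees, β.charDegree_mem, χ.charDegree_mem, hP.mul_mem_of_not_dvd hχ]
      · refine Set.ncard_eq_four.2 ⟨_, _, _, _, hP.ne_one.symm, h1.symm, fun e => hP.ne_one
          (Nat.eq_one_of_mul_eq_one_right e.symm), fun e => hχ (e ▸ hd), fun e => h1
            (Nat.eq_of_mul_eq_mul_left β.charDegree_pos (by rw [← e, mul_one])),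
          fun e => hχ (e ▸ hd.mul_right _), rfl⟩
    exact fun ψ => h2.ge ψ.charDegree_mem
  obtain ⟨V, _, hVK, hV, hi⟩ := exists_normal_sylow_of_mul_degrees (e := e) hχ G inferInstance
    (fun ψ hψ => by
      rcases hcd ψ with e | e | e | e
      exacts [(hP.prime.not_dvd_one (e ▸ hψ)).elim, Or.inl (e.trans he), (hχ (e ▸ hψ)).elim,
        Or.inr (he ▸ e)]) K (IsPGroup.of_card hk) β hP.le_ker he
  have hχe := (hP.prime.coprime_iff_not_dvd.2 hχ)
  have h2 : derivedSeries G 2 ≤ ⁅K, K⁆ :=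
    derivedSeries_le_of_quotient (derivedSeries_two_eq_bot (m := charDegree β.1) fun γ => by
      rw [← γ.charDegree_inflate _ (QuotientGroup.mk'_surjective _)]
      have h3 := hk ▸ charDegree_dvd_index_of_commutator_le (le_charKer_inflate _ γ)
      have h4 : ¬ charDegree χ.1 ∣ p ^ k := fun h4 =>
        h1 ((Nat.coprime_self _).1 ((hχe.pow_left k).coprime_dvd_left h4))
      rcases hcd (γ.inflate _ (QuotientGroup.mk'_surjective _)) with e | e | e | e
      exacts [Or.inl e, Or.inr e, (h4 (e ▸ h3)).elim, (h4 ((dvd_mul_left _ _).trans (e ▸ h3))).elim])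
  have h3 := derivedSeries_two_le_of_normal_sylow (V := V.subgroupOf K) (b := charDegree χ.1)
    (hV.of_equiv (subgroupOfEquivOfLe hVK).symm) hi fun θ hθ => by
      obtain ⟨ψ, hψ⟩ := θ.exists_liesOver_above K.subtype_injective
      have h4 := hψ.charDegree_dvd_mul_index
      have h5 := hψ.charDegree_dvd
      have h6 := (hP.prime.coprime_iff_not_dvd.2 hθ).symm.pow_right e
      rw [range_subtype, hk] at h4
      rcases hcd ψ with e | e | e | e <;> rw [e] at h4 h5
      · exact Or.inl (Nat.dvd_one.1 h5)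
      · exact Or.inl ((Nat.coprime_self _).1 (h6.coprime_dvd_right (he ▸ h5)))
      · exact Or.inr (Nat.dvd_antisymm h5 ((hχe.symm.pow_right k).dvd_of_dvd_mul_right h4))
      · exact Or.inr (Nat.dvd_antisymm (h6.dvd_of_dvd_mul_left (he ▸ h5))
          ((hχe.symm.pow_right k).dvd_of_dvd_mul_right ((dvd_mul_left _ _).trans h4)))
  have h4 : ⁅⁅V, V⁆, ⁅V, V⁆⁆ = ⊥ := eq_bot_of_forall_le_charKer fun ψ =>
    commutator_le_charKer_of_pow_dvd (hV.to_le (commutator_le_left V V)) (k := e) (fun φ hφ => by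
      obtain ⟨θ, hθ⟩ := φ.exists_liesOver_below V.subtype
      obtain ⟨n, hn⟩ := hV.exists_card_eq
      obtain ⟨i, -, hi⟩ := (Nat.dvd_prime_pow hP.prime).1 (hn ▸ θ.charDegree_dvd_card)
      have h5 : p ∣ charDegree φ.1 := (dvd_pow_self p (n := i) fun e => hφ
        (hθ.le_charKer_of_le_map V.subtype_injective (by
          rw [← map_subtype_commutator]
          exact map_mono (θ.commutator_le_charKer_iff'.2 (by rw [hi, e, pow_zero]))))).trans
        (hi ▸ hθ.charDegree_dvd)
      rcases hcd φ with e | e | e | e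
      exacts [(hP.prime.not_dvd_one (e ▸ h5)).elim, he ▸ e ▸ dvd_rfl, (hχ (e ▸ h5)).elim,
        he ▸ e ▸ dvd_mul_right _ _]) fun h5 => by
      have h6 : ¬ p ^ (e + 1) ∣ p ^ e := fun h6 => by
        have := (Nat.pow_dvd_pow_iff_le_right hP.prime.one_lt).1 h6
        omega
      have h7 := dvd_pow_self p e.succ_ne_zero
      rcases hcd ψ with e | e | e | e <;> rw [e] at h5
      exacts [hP.prime.not_dvd_one (h7.trans h5), h6 (he ▸ h5), hχ (h7.trans h5),
        h6 ((hχe.pow_left _).dvd_of_dvd_mul_right (he ▸ h5))]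
  have h5 : derivedSeries G 3 ≤ ⁅V, V⁆ := by
    refine (derivedSeries_add_le_map (i := 1) (map_derivedSeries_one K ▸ h2) 1).trans
      ((map_mono h3).trans ?_)
    rw [map_commutator, subgroupOf_map_subtype, inf_eq_left.2 hVK]
  exact eq_bot_iff.2 (h4 ▸ commutator_mono h5 h5)

/-- **Garrison's theorem.** -/
theorem derivedSeries_eq_bot_of_ncard_le_four (G : Type u) [Group G] [Finite G] :
    Group.IsSolvable G → ∀ k ≤ 4, (charDegrees G).ncard ≤ k → derivedSeries G k = ⊥ := by
  refine card_induction (P := fun G _ _ => Group.IsSolvable G →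
    ∀ k ≤ 4, (charDegrees G).ncard ≤ k → derivedSeries G k = ⊥) ?_ G
  intro G _ _ ih hsol k hk h
  rcases hk.lt_or_eq with hk | rfl
  · exact derivedSeries_eq_bot_of_ncard_le_three (by omega) h
  by_cases hG : ∀ a b : G, a * b = b * a
  · exact derivedSeries_succ_eq_bot (derivedSeries_three_eq_bot G 1 1 fun χ =>
      Or.inl (χ.charDegree_eq_one_of_comm hG))
  by_cases hno : ∀ q : ℕ, q.Prime →
      ∃ χ : IrrCharacter G, charDegree χ.1 ≠ 1 ∧ ¬ q ∣ charDegree χ.1
  · obtain ⟨K, hK, hJ⟩ := exists_isJustNonab_quotient' hG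
    rcases hJ.pQuot_or_frobQuot with ⟨Z, p, β, hp⟩ | ⟨N, r, hF⟩
    · obtain ⟨χ, h1, h2⟩ := hno p hp.prime
      exact hp.derivedSeries_four h h1 h2
    · obtain ⟨b, c, hbc⟩ := exists_forall_eq_of_ncard_le_two
        (s := (charDegrees G \ {1}) \ {N.index}) finite_charDegrees.diff.diff (by
          have := ncard_charDegrees_diff_le h
          rw [Set.ncard_diff_singleton_of_mem (s := charDegrees G \ {1}) ⟨hF.index_mem, hF.ne_one⟩]
          omega)
      exact hF.derivedSeries_four (b := b) (c := c) (fun χ => or_iff_not_imp_left.2 fun h1 =>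
        or_iff_not_imp_left.2 fun h2 => hbc _ ⟨⟨χ.charDegree_mem, h1⟩, h2⟩) hno
  push Not at hno
  obtain ⟨p, hp, hno⟩ := hno
  have := Fact.mk hp
  have h1 : ∀ q ∈ ({p} : Set ℕ), q.Prime → HasNormalPComplement q G := fun q hq _ =>
    hq ▸ hasNormalPComplement_of_forall_dvd_charDegree hno
  have h2 := isPiGroup_piResidual_of_forall h1
  have h3 := isNilpotent_quotient_piResidual_of_forall h1
  have h4 := isPiNumber_index_piResidual {p} G
  obtain ⟨L, hL⟩ : ∃ L, L = piResidual {p} G := ⟨_, rfl⟩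
  have : L.Normal := hL ▸ inferInstance
  replace h3 : Group.IsNilpotent (G ⧸ L) := by subst hL; exact h3
  rw [← hL] at h2 h4
  by_cases h0 : ⁅L, L⁆ = ⊥
  · have := le_centralizer_iff_isMulCommutative.1 (commutator_eq_bot_iff_le_centralizer.1 h0)
    exact (isMGroup_of_comm_of_quotient_nilpotent L).derivedSeries_eq_bot h
  have hLt : L ≠ ⊤ := by
    rintro rfl
    obtain ⟨χ, hχ⟩ := not_forall.1 fun e => hG (comm_iff_forall_irr_charDegree.2 e)
    exact h2 p hp (card_top (G := G) ▸ (hno χ hχ).trans χ.charDegree_dvd_card) rfl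
  obtain ⟨D, hD⟩ : ∃ D, D = {d ∈ charDegrees G | IsPiNumber {p} d} := ⟨_, rfl⟩
  have hDs : D ⊆ charDegrees G := hD ▸ Set.sep_subset _ _
  have h5 := Set.ncard_diff_add_ncard_of_subset hDs finite_charDegrees
  have h6 : 0 < D.ncard := (Set.ncard_pos (finite_charDegrees.subset hDs)).2
    ⟨1, hD ▸ ⟨one_mem_charDegrees, isPiNumber_one _⟩⟩
  have h7 := derivedSeries_le_of_quotient (ih (G ⧸ ⁅L, L⁆) (card_quotient_lt h0) inferInstance
    D.ncard (by omega) (Set.ncard_le_ncard (by
      rintro _ ⟨γ, rfl⟩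
      rw [← γ.charDegree_inflate _ (QuotientGroup.mk'_surjective _), hD]
      exact ⟨IrrCharacter.charDegree_mem _, h4.of_dvd
        (charDegree_dvd_index_of_commutator_le (le_charKer_inflate _ γ))⟩)
      (finite_charDegrees.subset hDs)))
  have h8 := ih L (card_lt_of_ne_top hLt) inferInstance (1 + (4 - D.ncard)) (by omega)
    ((Set.ncard_le_ncard (t := insert 1 (natPiPart {p}ᶜ '' (charDegrees G \ D))) (by
      rintro _ ⟨θ, rfl⟩
      obtain ⟨χ, hχ⟩ := θ.exists_liesOver_above L.subtype_injective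
      rw [hχ.charDegree_eq_natPiPart h2 h4]
      by_cases e : IsPiNumber {p} (charDegree χ.1)
      · exact Or.inl (e.natPiPart_compl_eq_one χ.charDegree_pos.ne')
      · exact Or.inr ⟨_, ⟨χ.charDegree_mem, fun e' => e (hD ▸ e').2⟩, rfl⟩)
      ((finite_charDegrees.diff.image _).insert _)).trans ((Set.ncard_insert_le _ _).trans (by
        have := Set.ncard_image_le (f := natPiPart {p}ᶜ) (s := charDegrees G \ D)
          finite_charDegrees.diff
        omega)))
  have h9 := derivedSeries_add_le_map (i := 1) (map_derivedSeries_one L ▸ h7) (4 - D.ncard)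
  rwa [h8, Subgroup.map_bot, le_bot_iff, show D.ncard + (4 - D.ncard) = 4 by omega] at h9

end Cfsg
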