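import Cfsg.Agent.Char.Gallagher
import Cfsg.Agent.Char.Extend
import Cfsg.Agent.Grp.Residual
import Cfsg.Agent.Grp.SchurZ

/-!
# Fully ramified characters: passage to Sylow subgroups, the Gagola / Howlett-Isaacs lemma
-/

set_option autoImplicit false
set_option linter.unusedSectionVars false

namespace Cfsg

universe u v w

variable {G : Type u} [Group G] {N : Type v} [Group N] {T : Type w} [Group T]
variable [Finite G] [Finite N] [Finite T]

theorem index_range_of_factor {f : N →* G} (hf : Function.Injective f) {i : T →* G}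
    (hi : Function.Injective i) {j : N →* T} (hfac : ∀ n, i (j n) = f n) :
    f.range.index = i.range.index * j.range.index := by
  have hj : Function.Injective j := fun a b h => hf (by rw [← hfac, ← hfac, h])
  have h1 := card_mul_index_range hf
  rw [← card_mul_index_range hi, ← card_mul_index_range hj, mul_assoc] at h1
  rw [Nat.eq_of_mul_eq_mul_left Nat.card_pos h1, mul_comm]

theorem IsFullyRamified.index_eq_one_of_extension {f : N →* G} (hf : Function.Injective f)
    {χ : IrrCharacter G} {θ : IrrCharacter N} (h : IsFullyRamified f χ θ) {ψ : IrrCharacter G}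
    (hψ : ψ.1 ∘ f = θ.1) : f.range.index = 1 := by
  have h1 := h.unique hf (liesOver_of_comp_eq hψ)
  subst h1
  rw [← h.ipNat_sq, hψ, θ.ipNat_self, one_pow]

/-- If exactly one irreducible character lies over `θ`, then `θ` is fully ramified in its
inertia group. -/
theorem exists_isFullyRamified_inertia_of_unique {f : N →* G} [IsNormalEmb f]
    {θ : IrrCharacter N} {χ : IrrCharacter G}
    (hu : ∀ ψ : IrrCharacter G, LiesOver f ψ.1 θ.1 → ψ = χ) :
    ∃ ψ : IrrCharacter (inertia f θ), IsFullyRamified (toInertia f θ) ψ θ := by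
  obtain ⟨ψ, hψ⟩ := θ.exists_liesOver_above (IsNormalEmb.injective (f := toInertia f θ))
  have hT : inertia f θ ≤ (inertia f θ).subtype.range := by rw [Subgroup.range_subtype]
  have key : ∀ η : IrrCharacter (inertia f θ), LiesOver (toInertia f θ) η.1 θ.1 →
      ind (inertia f θ).subtype η.1 = χ.1 := fun η hη =>
    congrArg Subtype.val (hu ⟨_, clifford_isIrr_ind (Subgroup.subtype_injective _)
      (fun _ => rfl) hT hη⟩ (liesOver_ind_of_liesOver (Subgroup.subtype_injective _)
        (fun _ => rfl) θ.isCharacter η.isCharacter hη))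
  exact ⟨ψ, isFullyRamified_of_unique (inertia_toInertia f θ) fun η hη =>
    clifford_injective (Subgroup.subtype_injective _) (fun _ => rfl) hT hη hψ
      ((key η hη).trans (key ψ hψ).symm)⟩

theorem inertia_eq_range_of_unique_of_coprime {f : N →* G} [IsNormalEmb f]
    (hcop : (Nat.card N).Coprime f.range.index) {θ : IrrCharacter N} {χ : IrrCharacter G}
    (hu : ∀ ψ : IrrCharacter G, LiesOver f ψ.1 θ.1 → ψ = χ) : inertia f θ = f.range := by
  obtain ⟨ψ, hψ⟩ := exists_isFullyRamified_inertia_of_unique hu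
  obtain ⟨η, hη, -⟩ := exists_extension_of_coprime_card (inertia_toInertia f θ)
    (Nat.Coprime.coprime_dvd_right (by
      rw [range_toInertia]; exact Subgroup.relIndex_dvd_index_of_normal _ _) hcop)
  have h1 := hψ.index_eq_one_of_extension IsNormalEmb.injective hη
  rw [range_toInertia, Subgroup.index_eq_one, Subgroup.subgroupOf_eq_top] at h1
  exact le_antisymm h1 (range_le_inertia f θ)

namespace IsFullyRamified

variable {f : N →* G} {i : T →* G} {j : N →* T} {χ : IrrCharacter G} {θ : IrrCharacter N}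

theorem liesOver_iff_of_factor (h : IsFullyRamified f χ θ) (hf : Function.Injective f)
    (hi : Function.Injective i) (hfac : ∀ n, i (j n) = f n) (ψ : IrrCharacter T) :
    LiesOver i χ.1 ψ.1 ↔ LiesOver j ψ.1 θ.1 := by
  constructor
  · intro h1
    obtain ⟨η, hη⟩ := ψ.exists_liesOver_below j
    obtain ⟨e, -, he⟩ := h
    rwa [LiesOver.eq_of_comp_eq_smul he
      (LiesOver.trans_of_eq hfac χ.isCharacter η.isCharacter h1 hη)] at hη
  · intro h1
    obtain ⟨η, hη⟩ := ψ.exists_liesOver_above hi
    rwa [h.unique hf (LiesOver.trans_of_eq hfac η.isCharacter θ.isCharacter hη h1)] at hη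

theorem inertia_eq_top_of_factor [IsNormalEmb f] [IsNormalEmb j] (h : IsFullyRamified f χ θ)
    (hfac : ∀ n, i (j n) = f n) : inertia j θ = ⊤ := by
  rw [inertia_of_factor hfac, h.inertia_eq_top, Subgroup.comap_top]

/-- Full ramification passes to "Sylow subgroups" of the quotient. -/
theorem of_sylow [IsNormalEmb f] (h : IsFullyRamified f χ θ) (hi : Function.Injective i)
    (hfac : ∀ n, i (j n) = f n) {p k : ℕ} [hp : Fact p.Prime] (hpi : ¬ p ∣ i.range.index)
    (hk : j.range.index = p ^ k) {ψ : IrrCharacter T} (hψ : LiesOver j ψ.1 θ.1) :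
    IsFullyRamified j ψ θ := by
  have := IsNormalEmb.of_factor hi hfac
  have hf := IsNormalEmb.injective (f := f)
  have hT := h.inertia_eq_top_of_factor hfac
  have h1 := hψ.charDegree_eq
  have h2 := hψ.sq_mul_index_le
  rw [hT, Subgroup.index_top, mul_one] at h1 h2
  have h3 := (ψ.isCharacter.ind i).eq_smul_of_unique χ fun η hη => h.unique hf
    (LiesOver.trans_of_eq hfac η.isCharacter θ.isCharacter
      ((liesOver_iff_ip_ind η.isClassFunction _).2 hη) hψ)
  have h4 := congrArg charDegree h3
  rw [ψ.isCharacter.charDegree_ind hi, χ.isCharacter.charDegree_nsmul] at h4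
  have h5 := h.charDegree_sq
  rw [index_range_of_factor hf hi hfac, hk] at h5
  refine isFullyRamified_of_charDegree_sq hψ hT ?_
  rw [h1, mul_pow, hk]
  congr 1
  refine le_antisymm (hk ▸ h2) (Nat.le_of_dvd (pow_pos
    ((liesOver_iff_ipNat_pos ψ.isCharacter θ.isCharacter).1 hψ) 2) ?_)
  have h6 : i.range.index ^ 2 * ipNat (ψ.1 ∘ j) θ.1 ^ 2 =
      p ^ k * (ipNat (Cfsg.ind i ψ.1) χ.1 ^ 2 * i.range.index) := by
    apply Nat.eq_of_mul_eq_mul_right (pow_pos θ.charDegree_pos 2)
    calc _ = (i.range.index * charDegree ψ.1) ^ 2 := by rw [h1]; ring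
      _ = _ := by rw [h4, mul_pow, h5]; ring
  exact (Nat.Coprime.pow _ _ ((Nat.Prime.coprime_iff_not_dvd hp.out).2 hpi)).dvd_of_dvd_mul_left
    ⟨_, h6⟩

theorem index_inertia_mul_sq [IsNormalEmb f] [IsNormalEmb i] (h : IsFullyRamified f χ θ)
    (hfac : ∀ n, i (j n) = f n) {φ : IrrCharacter T} (hφ : LiesOver i χ.1 φ.1) :
    (inertia i φ).index * charDegree φ.1 ^ 2 = j.range.index * charDegree θ.1 ^ 2 := by
  classical
  have hi := IsNormalEmb.injective (f := i)
  have := IsNormalEmb.of_factor hi hfac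
  have hf := IsNormalEmb.injective (f := f)
  have hT := h.inertia_eq_top_of_factor hfac
  rw [← sum_ipNat_comp_sq_of_inertia_eq_top hT, ← card_conjOrbit, Finset.sum_mul,
    ← smul_eq_mul, ← Finset.sum_const]
  symm
  rw [← Finset.sum_subset (Finset.subset_univ (conjOrbit i φ))]
  · refine Finset.sum_congr rfl fun ψ hψ => ?_
    have h1 := ((h.liesOver_iff_of_factor hf hi hfac ψ).1
      (hφ.of_mem_conjOrbit χ.isClassFunction hψ)).charDegree_eq
    rw [hT, Subgroup.index_top, mul_one] at h1
    rw [← charDegree_of_mem_conjOrbit hψ, h1, mul_pow]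
  · intro ψ _ hψ
    have h1 : ¬ LiesOver j ψ.1 θ.1 := fun h1 =>
      hψ (hφ.mem_conjOrbit ((h.liesOver_iff_of_factor hf hi hfac ψ).2 h1))
    rw [liesOver_iff_ipNat_pos ψ.isCharacter θ.isCharacter, not_lt, Nat.le_zero] at h1
    simp [h1]

/-- Gagola, Howlett-Isaacs: if `χ` is fully ramified over `Z ≤ K ⊴ G` and `φ` is a constituent
of `χ_K`, then `G/K` has a subgroup whose index is the `p`-part of the index of the inertia group
of `φ`. -/
theorem exists_index_eq_ordProj {Z K : Subgroup G} [Z.Normal] [K.Normal] (hZK : Z ≤ K)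
    {θ : IrrCharacter Z} (h : IsFullyRamified Z.subtype χ θ) {φ : IrrCharacter K}
    (hφ : LiesOver K.subtype χ.1 φ.1) (p : ℕ) [hp : Fact p.Prime] :
    ∃ R : Subgroup (G ⧸ K), R.index = p ^ (inertia K.subtype φ).index.factorization p := by
  classical
  obtain ⟨S⟩ : Nonempty (Sylow p G) := inferInstance
  let P : Subgroup G := (S : Subgroup G) ⊔ Z
  let Q : Subgroup G := P ⊓ K
  let M : Subgroup G := Subgroup.normalizer (Q : Set G)
  have hZP : Z ≤ P := le_sup_right
  have hZQ : Z ≤ Q := le_inf hZP hZK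
  have hQP : Q ≤ P := inf_le_left
  have hQK : Q ≤ K := inf_le_right
  have hQM : Q ≤ M := Subgroup.le_normalizer
  have hPM : P ≤ M := Subgroup.le_normalizer.trans (normalizer_le_normalizer_inf_normal P K)
  have hMK : M ⊔ K = ⊤ := by
    rw [eq_top_iff, ← normalizer_sylow_inf_sup_eq_top S K]
    refine sup_le_sup_right ?_ _
    have h1 : Q = ((S : Subgroup G) ⊓ K) ⊔ Z := sup_inf_eq_of_le_of_le_normalizer'
      (by rw [Subgroup.normalizer_eq_top]; exact le_top) hZK
    change _ ≤ Subgroup.normalizer ((Q : Subgroup G) : Set G)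
    rw [h1]
    exact le_normalizer_sup le_rfl (by rw [Subgroup.normalizer_eq_top Z]; exact le_top)
  have hpP : ¬ p ∣ P.index := fun hd =>
    S.not_dvd_index (hd.trans (Subgroup.index_dvd_of_le le_sup_left))
  have hpQ : ¬ p ∣ Q.relIndex K := fun hd => by
    rw [Subgroup.inf_relIndex_right] at hd
    exact not_dvd_relIndex_sylow_inf_normal S K
      (hd.trans (Subgroup.relIndex_dvd_of_le_left K le_sup_left))
  obtain ⟨k, hk⟩ : ∃ k, (Subgroup.inclusion hZP).range.index = p ^ k := by
    rw [Subgroup.inclusion_range]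
    change ∃ k, Z.relIndex ((S : Subgroup G) ⊔ Z) = p ^ k
    rw [Subgroup.relIndex_sup_right]
    exact S.isPGroup'.index _
  have hQn : (Q.subgroupOf P).Normal := by
    change ((P ⊓ K).subgroupOf P).Normal
    rw [Subgroup.inf_subgroupOf_left]; infer_instance
  obtain ⟨ψ, hψ⟩ := χ.exists_liesOver_below P.subtype
  have hZi := Z.subtype_injective
  have hψθ := (h.liesOver_iff_of_factor hZi P.subtype_injective
    (j := Subgroup.inclusion hZP) (fun _ => rfl) ψ).1 hψ
  have hP : IsFullyRamified (Subgroup.inclusion hZP) ψ θ :=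
    h.of_sylow P.subtype_injective (fun _ => rfl) (by rwa [Subgroup.range_subtype]) hk hψθ
  obtain ⟨η, hη⟩ := φ.exists_liesOver_below (Subgroup.inclusion hQK)
  have hχQ : ∀ η' : IrrCharacter Q, LiesOver Q.subtype χ.1 η'.1 ↔
      LiesOver (Subgroup.inclusion hZQ) η'.1 θ.1 :=
    h.liesOver_iff_of_factor hZi Q.subtype_injective (fun _ => rfl)
  have hψQ : ∀ η' : IrrCharacter Q, LiesOver (Subgroup.inclusion hQP) ψ.1 η'.1 ↔
      LiesOver (Subgroup.inclusion hZQ) η'.1 θ.1 :=
    hP.liesOver_iff_of_factor (Subgroup.inclusion_injective _) (Subgroup.inclusion_injective _)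
      (fun _ => rfl)
  have hχη : LiesOver Q.subtype χ.1 η.1 :=
    LiesOver.trans_of_eq (fun _ => rfl) χ.isCharacter η.isCharacter hφ hη
  have hψη := (hψQ η).2 ((hχQ η).1 hχη)
  have horb : ∀ η', η' ∈ conjOrbit (Subgroup.inclusion hQM) η ↔ LiesOver Q.subtype χ.1 η'.1 := by
    intro η'
    constructor
    · intro h1
      exact LiesOver.of_mem_conjOrbit (f := Subgroup.inclusion hQM)
        (χ.isClassFunction.comp M.subtype) hχη h1
    · intro h1
      obtain ⟨g, hg⟩ := hψη.exists_conjAut_smul_eq ((hψQ η').2 ((hχQ η').1 h1))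
      refine mem_conjOrbit.2 ⟨Subgroup.inclusion hPM g, ?_⟩
      rw [← hg, conjAut_of_factor (f := Subgroup.inclusion hQM) (i := Subgroup.inclusion hPM)
        (j := Subgroup.inclusion hQP) (fun _ => rfl)]
  have hs : (inertia (Subgroup.inclusion hQM) η).index =
      (inertia (Subgroup.inclusion hQP) η).index := by
    rw [← card_conjOrbit, ← card_conjOrbit]
    congr 1
    ext η'
    rw [horb, ← hψη.liesOver_iff_mem_conjOrbit, hχQ, hψQ]
  obtain ⟨a, ha⟩ : ∃ a, (inertia (Subgroup.inclusion hQM) η).index = p ^ a := by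
    have h1 : (inertia (Subgroup.inclusion hQP) η).index ∣ p ^ k := by
      rw [← hk]
      refine Subgroup.index_dvd_of_le (le_trans ?_ (range_le_inertia _ _))
      rintro _ ⟨z, rfl⟩
      exact ⟨Subgroup.inclusion hZQ z, rfl⟩
    obtain ⟨a, -, ha⟩ := (Nat.dvd_prime_pow hp.out).1 h1
    exact ⟨a, hs.trans ha⟩
  -- the multiplicity `β = φ(1) / η(1)`
  set β := ∑ η' ∈ conjOrbit (Subgroup.inclusion hQM) η,
    ipNat (φ.1 ∘ Subgroup.inclusion hQK) η'.1 with hβ
  have hβ1 : charDegree φ.1 = β * charDegree η.1 := by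
    rw [← charDegree_comp φ.1 (Subgroup.inclusion hQK), (φ.isCharacter.comp _).charDegree_eq_sum,
      hβ, Finset.sum_mul,
      ← Finset.sum_subset (Finset.subset_univ (conjOrbit (Subgroup.inclusion hQM) η))]
    · exact Finset.sum_congr rfl fun η' hη' => by rw [charDegree_of_mem_conjOrbit hη']
    · intro η' _ hη'
      have h1 : ¬ LiesOver (Subgroup.inclusion hQK) φ.1 η'.1 := fun h1 => hη' ((horb η').2
        (LiesOver.trans_of_eq (fun _ => rfl) χ.isCharacter η'.isCharacter hφ h1))
      rw [liesOver_iff_ipNat_pos φ.isCharacter η'.isCharacter, not_lt, Nat.le_zero] at h1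
      simp [h1]
  have hβ2 : ¬ p ∣ β := by
    refine fun hd => hpQ (hd.trans ?_)
    have h1 := η.isCharacter.sum_ipNat_mul_charDegree (Subgroup.inclusion_injective hQK)
    rw [Subgroup.inclusion_range] at h1
    refine Nat.dvd_of_mul_dvd_mul_right η.charDegree_pos ?_
    rw [← hβ1]
    change _ ∣ (Q.subgroupOf K).index * _
    rw [← h1]
    refine Finset.dvd_sum fun φ' _ => ?_
    rcases Nat.eq_zero_or_pos (ipNat (φ'.1 ∘ Subgroup.inclusion hQK) η.1) with h0 | h0
    · rw [h0, zero_mul]; exact dvd_zero _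
    have h2 := (liesOver_iff_ipNat_pos φ'.isCharacter η.isCharacter).2 h0
    have h3 := (h.liesOver_iff_of_factor hZi K.subtype_injective
      (j := Subgroup.inclusion hZK) (fun _ => rfl) φ').2
      (LiesOver.trans_of_eq (fun _ => rfl) φ'.isCharacter θ.isCharacter h2 ((hχQ η).1 hχη))
    rw [charDegree_of_mem_conjOrbit (hφ.mem_conjOrbit h3)]
    exact dvd_mul_left _ _
  have ht : (inertia K.subtype φ).index.factorization p = a := by
    have h1 := h.index_inertia_mul_sq (j := Subgroup.inclusion hZK) (fun _ => rfl) hφ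
    have h2 := hP.index_inertia_mul_sq (j := Subgroup.inclusion hZQ) (fun _ => rfl) hψη
    rw [← hs, ha] at h2
    rw [index_range_of_factor (Subgroup.inclusion_injective hZK)
      (Subgroup.inclusion_injective hQK) (j := Subgroup.inclusion hZQ) (fun _ => rfl),
      mul_assoc, ← h2, hβ1, Subgroup.inclusion_range] at h1
    have h3 : (inertia K.subtype φ).index * β ^ 2 = Q.relIndex K * p ^ a := by
      apply Nat.eq_of_mul_eq_mul_right (pow_pos η.charDegree_pos 2)
      rw [mul_assoc, ← mul_pow, h1, mul_assoc]; rfl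
    have hβ0 : β ≠ 0 := fun h0 => hβ2 (h0 ▸ dvd_zero p)
    have hQ0 : Q.relIndex K ≠ 0 := fun h0 => hpQ (h0 ▸ dvd_zero p)
    have h4 := congrArg (fun n => n.factorization p) h3
    simp only [Nat.factorization_mul Subgroup.index_ne_zero_of_finite (pow_ne_zero 2 hβ0),
      Nat.factorization_mul hQ0 (pow_ne_zero a hp.out.ne_zero), Finsupp.add_apply,
      Nat.factorization_pow, Finsupp.smul_apply, Nat.factorization_eq_zero_of_not_dvd hβ2,
      Nat.factorization_eq_zero_of_not_dvd hpQ, hp.out.factorization_self] at h4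
    simpa using h4
  -- `K ∩ M` fixes `η`
  set I := inertia (Subgroup.inclusion hQM) η with hI
  have hD : K.subgroupOf M ≤ I := by
    cases nonempty_fintype M
    let U := K.subgroupOf M ⊔ I
    cases nonempty_fintype (M ⧸ U)
    have h1 := sum_conjAut_smul (Subgroup.inclusion hQM) η
      (fun η' => ipNat (φ.1 ∘ Subgroup.inclusion hQK) η'.1)
    rw [sum_eq_card_smul_sum_section U (fun x u hu => ?_) Quotient.out Quotient.out_eq'] at h1
    · rw [← hβ, ← hI, smul_eq_mul, smul_eq_mul, ← card_mul_relIndex (le_sup_right : I ≤ U),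
        mul_assoc] at h1
      have h2 : I.relIndex U ∣ β := ⟨_, (Nat.eq_of_mul_eq_mul_left Nat.card_pos h1).symm⟩
      have h3 : I.relIndex U ∣ p ^ a :=
        ha ▸ Subgroup.relIndex_dvd_index_of_le (le_sup_right : I ≤ U)
      have h4 := Nat.eq_one_of_dvd_coprimes
        (Nat.Coprime.pow_left a ((Nat.Prime.coprime_iff_not_dvd hp.out).2 hβ2)) h3 h2
      exact le_sup_left.trans (Subgroup.relIndex_eq_one.1 h4)
    · have hu' : u ∈ ((K.subgroupOf M ⊔ I : Subgroup M) : Set M) := hu
      rw [Subgroup.normal_mul] at hu'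
      obtain ⟨d, hd, t, ht, rfl⟩ := hu'
      have h2 : x * (d * t) = (x * d * x⁻¹) * x * t := by group
      rw [h2, map_mul, map_mul, mul_smul, mul_smul, mem_inertia.1 ht]
      have hd' : x * d * x⁻¹ ∈ K.subgroupOf M :=
        (inferInstance : (K.subgroupOf M).Normal).conj_mem d hd x
      generalize x * d * x⁻¹ = y at hd'
      generalize conjAut (Subgroup.inclusion hQM) x • η = η'
      unfold ipNat
      rw [← ip_comp_of_surjective (conjAut (Subgroup.inclusion hQM) y).toMonoidHom
        (conjAut (Subgroup.inclusion hQM) y).surjective]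
      congr 3
      · funext q
        refine φ.isClassFunction.eq_of_isConj (isConj_iff.2 ⟨⟨y, hd'⟩, Subtype.ext ?_⟩).symm
        exact (congrArg Subtype.val (map_conjAut (Subgroup.inclusion hQM) y q)).symm
      · funext q
        simp
  have hsurj : Function.Surjective ((QuotientGroup.mk' K).comp M.subtype) := by
    intro x
    obtain ⟨x, rfl⟩ := QuotientGroup.mk_surjective x
    have h1 : x ∈ ((M ⊔ K : Subgroup G) : Set G) := by rw [hMK]; trivial
    rw [Subgroup.mul_normal] at h1
    obtain ⟨m, hm, y, hy, rfl⟩ := h1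
    exact ⟨⟨m, hm⟩, (QuotientGroup.mk_mul_of_mem m hy).symm⟩
  refine ⟨I.map ((QuotientGroup.mk' K).comp M.subtype), ?_⟩
  rw [Subgroup.index_map_eq _ hsurj, ht, ha]
  rw [← MonoidHom.comap_ker, QuotientGroup.ker_mk']
  exact hD

end IsFullyRamified

end Cfsg
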