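import Cfsg.Agent.Char.CliffordBasic
import Cfsg.Agent.Char.Ker
import Cfsg.Agent.Char.Abelian
import Cfsg.Agent.Grp.Cores

/-!
# Irreducible characters vanishing on all but two conjugacy classes (Gagola)
-/

set_option autoImplicit false
set_option linter.unusedSectionVars false

namespace Cfsg

open scoped ComplexConjugate

universe u

variable {G : Type u} [Group G] [Finite G]

/-- `χ` vanishes exactly off the normal subgroup `N`, whose nonidentity elements are conjugate. -/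
structure IsGagola (χ : IrrCharacter G) (N : Subgroup G) : Prop where
  normal : N.Normal
  ne_bot : N ≠ ⊥
  ne_zero_iff : ∀ g, χ g ≠ 0 ↔ g ∈ N
  isConj : ∀ x ∈ N, ∀ y ∈ N, x ≠ 1 → y ≠ 1 → IsConj x y
  le_ker : ∀ ψ : IrrCharacter G, ψ ≠ χ → N ≤ charKer ψ.1
  faithful : ∀ g, χ g = χ 1 → g = 1

theorem exists_of_card_support_eq_two (χ : IrrCharacter G)
    (hχ : Nat.card {C : ConjClasses G // ∃ g ∈ C.carrier, (χ : G → ℂ) g ≠ 0} = 2) :
    ∃ x : G, x ≠ 1 ∧ χ x ≠ 0 ∧ ∀ g, χ g ≠ 0 → g = 1 ∨ IsConj x g := by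
  obtain ⟨⟨C, x, hxC, hx⟩, h1, h2⟩ := (Nat.card_eq_two_iff'
    (⟨ConjClasses.mk 1, 1, ConjClasses.mem_carrier_mk, χ.apply_one_ne_zero⟩ :
      {C : ConjClasses G // ∃ g ∈ C.carrier, (χ : G → ℂ) g ≠ 0})).1 hχ
  have hC : ConjClasses.mk x = C := ConjClasses.mem_carrier_iff_mk_eq.1 hxC
  subst hC
  refine ⟨x, fun h => h1 (Subtype.ext (congrArg ConjClasses.mk h)), hx, fun g hg => ?_⟩
  by_cases h : g = 1
  · exact Or.inl h
  · right
    have h3 := h2 ⟨ConjClasses.mk g, g, ConjClasses.mem_carrier_mk, hg⟩ fun h' =>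
      h (isConj_one_left.1 (ConjClasses.mk_eq_mk_iff_isConj.1 (congrArg Subtype.val h')))
    exact ConjClasses.mk_eq_mk_iff_isConj.1 (congrArg Subtype.val h3).symm

theorem exists_isGagola (hG : 2 < Nat.card G) (χ : IrrCharacter G)
    (hχ : Nat.card {C : ConjClasses G // ∃ g ∈ C.carrier, (χ : G → ℂ) g ≠ 0} = 2) :
    ∃ N : Subgroup G, IsGagola χ N := by
  classical
  cases nonempty_fintype G
  obtain ⟨x, hx1, hx, hsupp⟩ := exists_of_card_support_eq_two χ hχ
  set c := (Finset.univ.filter (IsConj x)).card with hc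
  have hc0 : c ≠ 0 := Finset.card_ne_zero.2 ⟨x, Finset.mem_filter.2 ⟨Finset.mem_univ _, IsConj.refl x⟩⟩
  have hsum : ∀ F : G → ℂ, IsClassFunction G F → (∀ g, χ g = 0 → F g = 0) →
      ∑ g, F g = F 1 + c * F x := by
    intro F hF h0
    have h1 : ∀ g, F g = (if g = 1 then F 1 else 0) + if IsConj x g then F x else 0 := by
      intro g
      by_cases hg : g = 1
      · subst hg
        rw [if_pos rfl, if_neg fun h => hx1 (isConj_one_left.1 h), add_zero]
      · rw [if_neg hg, zero_add]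
        split_ifs with h
        · exact (hF.eq_of_isConj h).symm
        · exact h0 g (by_contra fun h' => (hsupp g h').elim hg h)
    rw [Finset.sum_congr rfl fun g _ => h1 g, Finset.sum_add_distrib, Finset.sum_ite_eq',
      if_pos (Finset.mem_univ _), ← Finset.sum_filter, Finset.sum_const, nsmul_eq_mul]
  have hne : IrrCharacter.one G ≠ χ := by
    rintro rfl
    have h1 := hsum (fun _ => 1) (IsClassFunction.const 1) (fun g hg => by simp at hg)
    simp only [Finset.sum_const, Finset.card_univ, nsmul_eq_mul, mul_one] at h1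
    have h2 : Nat.card G = 1 + c := by
      rw [Nat.card_eq_fintype_card]; exact_mod_cast h1
    have h3 : c ∣ Nat.card G := Dvd.intro _ (card_filter_isConj_mul_card_centralizer x)
    rw [h2] at h3 hG
    have := Nat.dvd_one.1 ((Nat.dvd_add_left (dvd_refl c)).1 h3)
    omega
  have horth : ∀ ψ : IrrCharacter G, ψ ≠ χ →
      ψ 1 * conj (χ 1) + c * (ψ x * conj (χ x)) = 0 := by
    intro ψ hψ
    have h1 := IrrCharacter.ip_of_ne hψ
    rw [ip_def, mul_eq_zero] at h1
    rw [← hsum (fun g => ψ g * conj (χ g)) (ψ.isClassFunction.mul χ.isClassFunction.star)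
      (fun g hg => by simp [hg])]
    exact h1.resolve_left (inv_ne_zero (natCard_cast_ne_zero G))
  have hker : ∀ ψ : IrrCharacter G, ψ ≠ χ → x ∈ charKer ψ.1 := by
    intro ψ hψ
    have h1 := horth ψ hψ
    have h2 := horth _ hne
    simp only [IrrCharacter.one_apply, one_mul] at h2
    rw [ψ.mem_charKer]
    have h3 : (c : ℂ) * conj (χ x) ≠ 0 :=
      mul_ne_zero (Nat.cast_ne_zero.2 hc0) ((_root_.map_ne_zero _).2 hx)
    apply mul_left_cancel₀ h3
    linear_combination h1 - ψ 1 * h2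
  let N : Subgroup G := ⨅ ψ : {ψ : IrrCharacter G // ψ ≠ χ}, charKer ψ.1.1
  have hN : ∀ g, g ∈ N ↔ ∀ ψ : IrrCharacter G, ψ ≠ χ → g ∈ charKer ψ.1 := fun g => by
    simp [N, Subgroup.mem_iInf]
  have hNn : N.Normal := ⟨fun n hn g => (hN _).2 fun ψ hψ =>
    (charKer_normal ψ.1).conj_mem n ((hN n).1 hn ψ hψ) g⟩
  have hxN : x ∈ N := (hN x).2 hker
  have hiff : ∀ g, χ g ≠ 0 ↔ g ∈ N := by
    intro g
    constructor
    · intro hg
      rcases hsupp g hg with rfl | h
      · exact N.one_mem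
      · obtain ⟨y, rfl⟩ := isConj_iff.1 h
        exact hNn.conj_mem x hxN y
    · intro hg h0
      have hg1 : g ≠ 1 := by
        rintro rfl
        exact χ.apply_one_ne_zero h0
      have h1 := sum_irr_one_mul_of_ne_one hg1
      rw [← Finset.add_sum_erase _ _ (Finset.mem_univ χ), h0, mul_zero, zero_add,
        Finset.sum_congr rfl (g := fun ψ : IrrCharacter G => ((charDegree ψ.1 ^ 2 : ℕ) : ℂ))
          (fun ψ hψ => by
            rw [ψ.mem_charKer.1 ((hN g).1 hg ψ (Finset.ne_of_mem_erase hψ)), ψ.apply_one]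
            push_cast; ring), ← Nat.cast_sum, Nat.cast_eq_zero, Finset.sum_eq_zero_iff] at h1
      have h2 := h1 _ (Finset.mem_erase.2 ⟨hne, Finset.mem_univ _⟩)
      simp at h2
  refine ⟨N, hNn, fun h => hx1 (by rwa [h] at hxN), hiff, ?_, fun ψ hψ g hg => (hN g).1 hg ψ hψ,
    ?_⟩
  · intro a ha b hb ha1 hb1
    exact ((hsupp a ((hiff a).2 ha)).resolve_left ha1).symm.trans
      ((hsupp b ((hiff b).2 hb)).resolve_left hb1)
  · intro g hg
    have h1 : g ∈ N := (hiff g).1 (hg ▸ χ.apply_one_ne_zero)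
    refine eq_one_iff_forall_irr.2 fun ψ => ?_
    by_cases hψ : ψ = χ
    · rw [hψ]; exact hg
    · exact ψ.mem_charKer.1 ((hN g).1 h1 ψ hψ)

namespace IsGagola

variable {χ : IrrCharacter G} {N : Subgroup G}

theorem of_forall_mem (hG : 2 < Nat.card G)
    (hχ : Nat.card {C : ConjClasses G // ∃ g ∈ C.carrier, (χ : G → ℂ) g ≠ 0} = 2)
    (hN : ∀ g : G, g ∈ N ↔ (χ : G → ℂ) g ≠ 0) : IsGagola χ N := by
  obtain ⟨M, hM⟩ := exists_isGagola hG χ hχ
  have : N = M := Subgroup.ext fun g => (hN g).trans (hM.ne_zero_iff g)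
  rwa [this]

theorem eq_zero (h : IsGagola χ N) {g : G} (hg : g ∉ N) : χ g = 0 :=
  by_contra fun h' => hg ((h.ne_zero_iff g).1 h')

theorem exists_ne_one (h : IsGagola χ N) : ∃ x ∈ N, x ≠ 1 :=
  (Subgroup.bot_or_exists_ne_one N).resolve_left h.ne_bot

theorem le_of_normal (h : IsGagola χ N) (K : Subgroup G) [hK : K.Normal] (hK1 : K ≠ ⊥) :
    N ≤ K := by
  intro x hx
  by_contra hxK
  obtain ⟨ψ, h1, h2⟩ := exists_irr_le_charKer_not_mem K hxK
  have h3 : ψ = χ := by_contra fun h' => h2 (h.le_ker ψ h' hx)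
  subst h3
  obtain ⟨k, hk, hk1⟩ := (Subgroup.bot_or_exists_ne_one K).resolve_left hK1
  exact hk1 (h.faithful k (ψ.mem_charKer.1 (h1 hk)))

theorem eq_of_faithful (h : IsGagola χ N) {ψ : IrrCharacter G}
    (hψ : ∀ g, ψ g = ψ 1 → g = 1) : ψ = χ := by
  by_contra h'
  obtain ⟨x, hx, hx1⟩ := h.exists_ne_one
  exact hx1 (hψ x (ψ.mem_charKer.1 (h.le_ker ψ h' hx)))

theorem exists_prime (h : IsGagola χ N) : ∃ p : ℕ, p.Prime ∧ ∀ a ∈ N, a ^ p = 1 := by
  have h1 : Nat.card N ≠ 1 := fun h' => h.ne_bot (Subgroup.eq_bot_of_card_eq N h')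
  obtain ⟨p, hp, hd⟩ := Nat.exists_prime_and_dvd h1
  have : Fact p.Prime := ⟨hp⟩
  obtain ⟨x, hx⟩ := exists_prime_orderOf_dvd_card' p hd
  have hx1 : (x : G) ≠ 1 := by
    intro h'
    rw [show x = 1 from Subtype.ext h', orderOf_one] at hx
    exact hp.one_lt.ne hx
  refine ⟨p, hp, fun a ha => ?_⟩
  by_cases ha1 : a = 1
  · rw [ha1, one_pow]
  obtain ⟨y, rfl⟩ := isConj_iff.1 (h.isConj x x.2 a ha hx1 ha1)
  rw [conj_pow, ← Subgroup.coe_pow, ← hx, pow_orderOf_eq_one]
  simp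

theorem isMulCommutative (h : IsGagola χ N) : IsMulCommutative N := by
  obtain ⟨p, hp, hpow⟩ := h.exists_prime
  have : Fact p.Prime := ⟨hp⟩
  have hP : IsPGroup p N := fun a => ⟨1, Subtype.ext (by simpa using hpow a a.2)⟩
  have := h.normal
  have : Nontrivial N := (Subgroup.nontrivial_iff_ne_bot N).2 h.ne_bot
  have h1 := hP.center_nontrivial
  have h2 : (Subgroup.center N).map N.subtype ≠ ⊥ := by
    rw [Ne, Subgroup.map_eq_bot_iff_of_injective _ N.subtype_injective]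
    exact (Subgroup.nontrivial_iff_ne_bot _).1 h1
  have h3 := h.le_of_normal _ h2
  refine ⟨⟨fun a b => ?_⟩⟩
  obtain ⟨c, hc, hc'⟩ := h3 a.2
  have : c = a := Subtype.ext hc'
  subst this
  exact (Subgroup.mem_center_iff.1 hc b).symm

theorem isConj_mul (h : IsGagola χ N) {y n : G} (hy : y ∉ N) (hn : n ∈ N) : IsConj y (y * n) := by
  refine isConj_iff_forall_irr.2 fun ψ => ?_
  by_cases hψ : ψ = χ
  · rw [hψ, h.eq_zero hy, h.eq_zero fun h' => hy ((N.mul_mem_cancel_right hn).1 h')]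
  · exact (apply_mul_of_mem_charKer (h.le_ker ψ hψ hn) y).symm

theorem not_le_ker (h : IsGagola χ N) : ¬ ∀ g ∈ N, χ g = χ 1 := by
  obtain ⟨x, hx, hx1⟩ := h.exists_ne_one
  exact fun h' => hx1 (h.faithful x (h' x hx))

theorem card_centralizer_eq (h : IsGagola χ N) [N.Normal] {y : G} (hy : y ∉ N) :
    Nat.card (Subgroup.centralizer ({y} : Set G)) =
      Nat.card (Subgroup.centralizer ({(y : G ⧸ N)} : Set (G ⧸ N))) := by
  classical
  have h1 := sum_irr_mul_conj_of_isConj (IsConj.refl y)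
  have h2 := sum_irr_mul_conj_of_isConj (IsConj.refl (y : G ⧸ N))
  have h3 := sum_irr_inflate (QuotientGroup.mk' N) (QuotientGroup.mk'_surjective N)
    (fun ψ : IrrCharacter G => ψ y * conj (ψ y))
  have h4 : ∑ ψ : IrrCharacter G with ∀ g ∈ (QuotientGroup.mk' N).ker, ψ g = ψ 1,
      ψ y * conj (ψ y) = ∑ ψ : IrrCharacter G, ψ y * conj (ψ y) := by
    refine Finset.sum_subset (Finset.filter_subset _ _) fun ψ _ hψ => ?_
    have h5 : ψ = χ := by
      by_contra h'
      refine hψ (Finset.mem_filter.2 ⟨Finset.mem_univ _, fun g hg => ?_⟩)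
      rw [QuotientGroup.ker_mk'] at hg
      exact ψ.mem_charKer.1 (h.le_ker ψ h' hg)
    rw [h5, h.eq_zero hy, zero_mul]
  have h6 : (Nat.card (Subgroup.centralizer ({y} : Set G)) : ℂ) =
      Nat.card (Subgroup.centralizer ({(y : G ⧸ N)} : Set (G ⧸ N))) := by
    rw [← h1, ← h2, ← h4, ← h3]
    rfl
  exact_mod_cast h6

theorem index_centralizer_add_one (h : IsGagola χ N) {x : G} (hx : x ∈ N) (hx1 : x ≠ 1) :
    (Subgroup.centralizer ({x} : Set G)).index + 1 = Nat.card N := by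
  classical
  rw [← card_isConj_eq_index]
  have h1 : {y : G | IsConj x y} = (N : Set G) \ {1} := by
    ext y
    constructor
    · intro hy
      obtain ⟨g, rfl⟩ := isConj_iff.1 hy
      exact ⟨h.normal.conj_mem x hx g, fun h' => hx1 (by simpa [conj_eq_one_iff] using h')⟩
    · rintro ⟨hy, hy1⟩
      exact h.isConj x hx y hy hx1 hy1
  change ({y : G | IsConj x y} : Set G).ncard + 1 = (N : Set G).ncard
  rw [h1]
  exact Set.ncard_sdiff_singleton_add_one N.one_mem

theorem isPGroup_centralizer (h : IsGagola χ N) {p : ℕ} [hp : Fact p.Prime] (hN : IsPGroup p N)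
    {x : G} (hx : x ∈ N) (hx1 : x ≠ 1) : IsPGroup p (Subgroup.centralizer ({x} : Set G)) := by
  rw [IsPGroup.iff_card]
  refine ⟨_, Nat.eq_prime_pow_of_unique_prime_dvd Nat.card_pos.ne' fun {q} hq hd => ?_⟩
  by_contra hqp
  have : Fact q.Prime := ⟨hq⟩
  obtain ⟨y, hy⟩ := exists_prime_orderOf_dvd_card' q hd
  rw [← Subgroup.orderOf_coe] at hy
  have hord : ∀ n ∈ N, ∃ k, orderOf n = p ^ k := fun n hn => by
    obtain ⟨k, hk⟩ := IsPGroup.iff_orderOf.1 hN ⟨n, hn⟩
    exact ⟨k, by rw [← hk, Subgroup.orderOf_mk]⟩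
  have hyN : (y : G) ∉ N := by
    intro h'
    obtain ⟨k, hk⟩ := hord _ h'
    rw [hy] at hk
    exact hqp ((Nat.prime_dvd_prime_iff_eq hq hp.out).1 (hq.dvd_of_dvd_pow hk.dvd))
  obtain ⟨g, hg⟩ := isConj_iff.1 (h.isConj_mul hyN hx)
  have hcomm : Commute (y : G) x := (Subgroup.mem_centralizer_singleton_iff.1 y.2)
  have h1 : ((y : G) * x) ^ q = 1 := by
    rw [← hg, conj_pow, ← hy, pow_orderOf_eq_one]; simp
  rw [hcomm.mul_pow, ← hy, pow_orderOf_eq_one, one_mul, hy, ← orderOf_dvd_iff_pow_eq_one] at h1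
  obtain ⟨k, hk⟩ := hord x hx
  rcases (Nat.dvd_prime hq).1 h1 with h2 | h2
  · exact hx1 (orderOf_eq_one_iff.1 h2)
  · rw [h2] at hk
    exact hqp ((Nat.prime_dvd_prime_iff_eq hq hp.out).1 (hq.dvd_of_dvd_pow hk.dvd))

theorem dvd_card (h : IsGagola χ N) {p : ℕ} [hp : Fact p.Prime] (hN : IsPGroup p N) :
    p ∣ Nat.card N := by
  obtain ⟨k, hk⟩ := IsPGroup.iff_card.1 hN
  rcases k with _ | k
  · exact absurd (Subgroup.eq_bot_of_card_eq N (by simpa using hk)) h.ne_bot
  · rw [hk]; exact dvd_pow_self p k.succ_ne_zero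

theorem not_dvd_index_centralizer (h : IsGagola χ N) {p : ℕ} [hp : Fact p.Prime]
    (hN : IsPGroup p N) {x : G} (hx : x ∈ N) (hx1 : x ≠ 1) :
    ¬ p ∣ (Subgroup.centralizer ({x} : Set G)).index := by
  intro hd
  have h1 := h.dvd_card hN
  rw [← h.index_centralizer_add_one hx hx1] at h1
  exact hp.out.one_lt.ne' (Nat.dvd_one.1 ((Nat.dvd_add_right hd).1 h1))

theorem exists_sylow_centralizer (h : IsGagola χ N) {p : ℕ} [hp : Fact p.Prime]
    (hN : IsPGroup p N) {x : G} (hx : x ∈ N) (hx1 : x ≠ 1) :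
    ∃ P : Sylow p G, Subgroup.centralizer ({x} : Set G) = P :=
  ⟨(h.isPGroup_centralizer hN hx hx1).toSylow (h.not_dvd_index_centralizer hN hx hx1), rfl⟩

theorem liesOver (h : IsGagola χ N) {μ : IrrCharacter N} (hμ : μ ≠ IrrCharacter.one N) :
    LiesOver N.subtype χ.1 μ.1 := by
  obtain ⟨ψ, hψ⟩ := μ.exists_liesOver_above N.subtype_injective
  by_cases h1 : ψ = χ
  · exact h1 ▸ hψ
  refine absurd (LiesOver.eq_of_comp_eq_smul (c := ψ 1) (θ := IrrCharacter.one N) ?_ hψ) hμ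
  funext n
  simpa using ψ.mem_charKer.1 (h.le_ker ψ h1 n.2)

theorem index_inertia_add_one (h : IsGagola χ N) [N.Normal] {μ : IrrCharacter N}
    (hμ : μ ≠ IrrCharacter.one N) : (inertia N.subtype μ).index + 1 = Nat.card N := by
  classical
  have := h.isMulCommutative
  rw [← card_conjOrbit, ← card_irr_of_isMulCommutative (G := N), Nat.card_eq_fintype_card,
    ← Finset.card_univ, ← Finset.card_erase_add_one (Finset.mem_univ (IrrCharacter.one N))]
  congr 2
  ext θ
  rw [Finset.mem_erase, and_iff_left (Finset.mem_univ _)]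
  constructor
  · rintro hθ rfl
    obtain ⟨g, hg⟩ := mem_conjOrbit.1 hθ
    exact hμ (by rw [← smul_left_cancel_iff (conjAut N.subtype g), hg, IrrCharacter.smul_one])
  · exact fun hθ => (h.liesOver hμ).mem_conjOrbit (h.liesOver hθ)

theorem exists_sylow_inertia (h : IsGagola χ N) [N.Normal] {p : ℕ} [hp : Fact p.Prime]
    (hN : IsPGroup p N) {μ : IrrCharacter N} (hμ : μ ≠ IrrCharacter.one N) :
    ∃ P : Sylow p G, inertia N.subtype μ = P := by
  obtain ⟨x, hx, hx1⟩ := h.exists_ne_one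
  have h1 : (inertia N.subtype μ).index = (Subgroup.centralizer ({x} : Set G)).index := by
    have := h.index_inertia_add_one hμ
    have := h.index_centralizer_add_one hx hx1
    omega
  have h2 : Nat.card (inertia N.subtype μ) = Nat.card (Subgroup.centralizer ({x} : Set G)) := by
    have h3 := (inertia N.subtype μ).card_mul_index
    rw [← (Subgroup.centralizer ({x} : Set G)).card_mul_index, h1] at h3
    exact Nat.eq_of_mul_eq_mul_right (Nat.pos_of_ne_zero Subgroup.index_ne_zero_of_finite) h3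
  obtain ⟨k, hk⟩ := IsPGroup.iff_card.1 (h.isPGroup_centralizer hN hx hx1)
  exact ⟨(IsPGroup.of_card (h2.trans hk)).toSylow
    (h1 ▸ h.not_dvd_index_centralizer hN hx hx1), rfl⟩

/-- For `z ∉ N`, a `p`-subgroup centralizing `z` has order at most `|G|_p / |N|`. -/
theorem card_mul_card_le (h : IsGagola χ N) {p : ℕ} [hp : Fact p.Prime] (hN : IsPGroup p N)
    (P : Sylow p G) {z : G} (hz : z ∉ N) {Q : Subgroup G} (hQ : IsPGroup p Q)
    (hQz : Q ≤ Subgroup.centralizer ({z} : Set G)) : Nat.card Q * Nat.card N ≤ Nat.card P := by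
  have := h.normal
  have h1 : Nat.card Q ∣ N.index := by
    refine (Subgroup.card_dvd_of_le hQz).trans ?_
    rw [h.card_centralizer_eq hz]
    exact Subgroup.card_subgroup_dvd_card _
  have h2 : Nat.card Q * Nat.card N ∣ Nat.card G := by
    rw [← N.index_mul_card]; exact Nat.mul_dvd_mul_right h1 _
  obtain ⟨a, ha⟩ := IsPGroup.iff_card.1 hQ
  obtain ⟨b, hb⟩ := IsPGroup.iff_card.1 hN
  rw [ha, hb, ← pow_add] at h2 ⊢
  rw [P.card_eq_multiplicity]
  exact Nat.pow_le_pow_right hp.out.pos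
    ((hp.out.pow_dvd_iff_le_factorization Nat.card_pos.ne').1 h2)

end IsGagola

end Cfsg

set_option linter.all false in
theorem Cfsg.Rz.Char_Gagola_0 : True := by
  have := @_root_.Cfsg.IsGagola.mk.congr_simp.{0}
  trivial
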