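import Cfsg.Agent.Char.MatRep
import Cfsg.Agent.Char.Eigen
import Cfsg.Agent.Char.Abelian

/-!
# Frobenius' theorem on finite linear groups

A finite linear group of degree `n` has an abelian normal subgroup `A` with `|H : H ∩ A| ≤ 12 ^ n`
for every abelian subgroup `H`.
-/

set_option autoImplicit false
set_option linter.unusedSectionVars false

namespace Cfsg

open scoped ComplexConjugate Matrix commutatorElement

universe u v w

variable {G : Type u} [Group G]

section Normed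
variable {𝔸 : Type v} [NormedRing 𝔸] {φ : G →* 𝔸}

theorem jordan_norm_commutator_le (h1 : ∀ g, ‖φ g‖ ≤ 1) (a b : G) {c d : 𝔸}
    (hc : ∀ x, c * x = x * c) (hd : ∀ x, d * x = x * d) :
    ‖φ ⁅a, b⁆ - 1‖ ≤ 2 * ‖φ a - c‖ * ‖φ b - d‖ := by
  have e : φ ⁅a, b⁆ - 1 =
      ((φ a - c) * (φ b - d) - (φ b - d) * (φ a - c)) * φ (a⁻¹ * b⁻¹) := by
    have e1 : (φ a - c) * (φ b - d) - (φ b - d) * (φ a - c) = φ (a * b) - φ (b * a) := by
      simp only [map_mul, mul_sub, sub_mul]
      rw [hc (φ b), hd (φ a), hc d]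
      abel
    rw [e1, sub_mul, ← map_mul, ← map_mul, commutatorElement_def]
    simp [mul_assoc]
  rw [e]
  calc _ ≤ ‖(φ a - c) * (φ b - d) - (φ b - d) * (φ a - c)‖ * 1 :=
        (norm_mul_le _ _).trans (mul_le_mul_of_nonneg_left (h1 _) (norm_nonneg _))
    _ ≤ ‖φ a - c‖ * ‖φ b - d‖ + ‖φ b - d‖ * ‖φ a - c‖ := by
        rw [mul_one]
        exact (norm_sub_le _ _).trans (add_le_add (norm_mul_le _ _) (norm_mul_le _ _))
    _ = _ := by ring

variable [NormedAlgebra ℝ 𝔸] [Finite G]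

theorem jordan_eq_one_of_forall_pow (hφ : Function.Injective φ) {u : G}
    (h : ∀ k : ℕ, ‖φ (u ^ k) - 1‖ < 1) : u = 1 := by
  obtain ⟨v, hv⟩ := Finite.exists_max fun v : Submonoid.powers u => ‖φ v - 1‖
  have e : (2 : ℝ) • (φ v - 1) = (φ (v * v : Submonoid.powers u) - 1) - (φ v - 1) * (φ v - 1) := by
    simp only [two_smul, Submonoid.coe_mul, map_mul, mul_sub, sub_mul, mul_one, one_mul]
    abel
  have h1 : 2 * ‖φ v - 1‖ ≤ ‖φ v - 1‖ + ‖φ v - 1‖ * ‖φ v - 1‖ := by
    have := congrArg norm e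
    rw [norm_smul, Real.norm_two] at this
    rw [this]
    exact (norm_sub_le _ _).trans (add_le_add (hv _) (norm_mul_le _ _))
  have h2 : ‖φ v - 1‖ < 1 := by
    obtain ⟨v, k, rfl⟩ := v
    exact h k
  have h3 : ‖φ v - 1‖ ≤ 0 := by nlinarith [norm_nonneg (φ v - 1)]
  have h4 := (hv ⟨u, Submonoid.mem_powers u⟩).trans h3
  rw [norm_le_zero_iff, sub_eq_zero, ← map_one φ] at h4
  exact hφ h4

theorem jordan_commute_of_commute_conj (hφ : Function.Injective φ) (h1 : ∀ g, ‖φ g‖ ≤ 1)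
    {a b : G} {d : 𝔸} (hd : ∀ x, d * x = x * d) (hb : ‖φ b - d‖ < 1 / 2)
    (hc : Commute a ⁅a, b⁆) : ⁅a, b⁆ = 1 := by
  have hc' : Commute a (b * a⁻¹ * b⁻¹) := by
    have : b * a⁻¹ * b⁻¹ = a⁻¹ * ⁅a, b⁆ := by simp [commutatorElement_def, mul_assoc]
    rw [this]
    exact (Commute.refl a).inv_right.mul_right hc
  refine jordan_eq_one_of_forall_pow hφ fun k => ?_
  have e : ⁅a, b⁆ ^ k = ⁅a ^ k, b⁆ := by
    have : ⁅a, b⁆ = a * (b * a⁻¹ * b⁻¹) := by simp [commutatorElement_def, mul_assoc]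
    rw [this, hc'.mul_pow, conj_pow]
    simp [commutatorElement_def, mul_assoc]
  rw [e]
  refine (jordan_norm_commutator_le h1 _ b (c := 0) (by simp) hd).trans_lt ?_
  have := h1 (a ^ k)
  rw [sub_zero]
  nlinarith [norm_nonneg (φ b - d), norm_nonneg (φ (a ^ k))]

/-- Two elements of a finite group of contractions that are close to central elements commute. -/
theorem jordan_commute (hφ : Function.Injective φ) (h1 : ∀ g, ‖φ g‖ ≤ 1) {a : G} {c : 𝔸}
    (hc : ∀ x, c * x = x * c) (ha : ‖φ a - c‖ < 1 / 2) {b : G} {d : 𝔸}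
    (hd : ∀ x, d * x = x * d) (hb : ‖φ b - d‖ < 1 / 2) : a * b = b * a := by
  have key : ∀ b : G, ‖φ b - 1‖ < 1 / 2 → ⁅a, b⁆ = 1 := by
    by_contra hall
    push Not at hall
    have : Nonempty {b : G // ‖φ b - 1‖ < 1 / 2 ∧ ⁅a, b⁆ ≠ 1} := by
      obtain ⟨b, hb⟩ := hall
      exact ⟨⟨b, hb⟩⟩
    obtain ⟨⟨b, hb, hab⟩, hmin⟩ := Finite.exists_min
      fun b : {b : G // ‖φ b - 1‖ < 1 / 2 ∧ ⁅a, b⁆ ≠ 1} => ‖φ b - 1‖
    have h2 := jordan_norm_commutator_le h1 a b hc (d := 1) (by simp)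
    have h3 : 0 < ‖φ b - 1‖ := by
      rw [norm_pos_iff, sub_ne_zero, ← map_one φ]
      intro h
      exact hab (by simp [hφ h])
    have h4 : ‖φ ⁅a, b⁆ - 1‖ < ‖φ b - 1‖ := by nlinarith [norm_nonneg (φ a - c)]
    have h5 : ⁅a, ⁅a, b⁆⁆ = 1 := by
      by_contra h
      exact absurd (hmin ⟨_, h4.trans hb, h⟩) (not_le.2 h4)
    exact hab (jordan_commute_of_commute_conj hφ h1 (d := 1) (by simp) hb
      (commutatorElement_eq_one_iff_commute.1 h5))
  have h2 := jordan_norm_commutator_le h1 a b hc hd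
  have h3 : ‖φ ⁅a, b⁆ - 1‖ < 1 / 2 := by
    nlinarith [norm_nonneg (φ a - c), norm_nonneg (φ b - d)]
  exact commutatorElement_eq_one_iff_mul_comm.1 (jordan_commute_of_commute_conj hφ h1 hd hb
    (commutatorElement_eq_one_iff_commute.1 (key _ h3)))

end Normed

/-- The arc of length `π / 6` containing a complex number. -/
noncomputable def jordanArc (z : ℂ) : ℤ := ⌈z.arg / (Real.pi / 6)⌉

theorem jordanArc_mem (z : ℂ) : jordanArc z ∈ Finset.Icc (-5 : ℤ) 6 := by
  have hpi : 0 < Real.pi / 6 := by positivity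
  rw [Finset.mem_Icc, jordanArc]
  constructor
  · have : (-6 : ℤ) < ⌈z.arg / (Real.pi / 6)⌉ := by
      rw [Int.lt_ceil, lt_div_iff₀ hpi]
      have := Complex.neg_pi_lt_arg z
      push_cast
      linarith
    omega
  · rw [Int.ceil_le, div_le_iff₀ hpi]
    have := Complex.arg_le_pi z
    push_cast
    linarith

theorem norm_sub_lt_of_jordanArc_eq {z w : ℂ} (hz : ‖z‖ = 1) (hw : ‖w‖ = 1)
    (h : jordanArc z = jordanArc w) : ‖z⁻¹ * w - (√3 / 2 : ℝ)‖ < 1 / 2 := by
  have hpi : 0 < Real.pi / 6 := by positivity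
  have h1 : |w.arg - z.arg| < Real.pi / 6 := by
    have : |w.arg / (Real.pi / 6) - z.arg / (Real.pi / 6)| < 1 := by
      have a1 := Int.le_ceil (w.arg / (Real.pi / 6))
      have a2 := Int.le_ceil (z.arg / (Real.pi / 6))
      have a3 := Int.ceil_lt_add_one (w.arg / (Real.pi / 6))
      have a4 := Int.ceil_lt_add_one (z.arg / (Real.pi / 6))
      unfold jordanArc at h
      rw [h] at a2 a4
      rw [abs_lt]
      constructor <;> linarith
    rwa [← sub_div, abs_div, abs_of_pos hpi, div_lt_one hpi] at this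
  have h2 : z⁻¹ * w = Complex.exp ((w.arg - z.arg : ℝ) * Complex.I) := by
    conv_lhs => rw [← Complex.norm_mul_exp_arg_mul_I z, ← Complex.norm_mul_exp_arg_mul_I w]
    rw [hz, hw]
    push_cast
    rw [one_mul, one_mul, sub_mul, Complex.exp_sub, div_eq_inv_mul]
  have h3 : √3 / 2 < Real.cos (w.arg - z.arg) := by
    rw [← Real.cos_pi_div_six, ← Real.cos_abs (w.arg - z.arg)]
    exact Real.cos_lt_cos_of_nonneg_of_le_pi (abs_nonneg _) (by linarith) h1
  rw [h2, ← sq_lt_sq₀ (norm_nonneg _) (by norm_num), Complex.sq_norm, Complex.normSq_apply]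
  simp only [Complex.sub_re, Complex.exp_ofReal_mul_I_re, Complex.ofReal_re, Complex.sub_im,
    Complex.exp_ofReal_mul_I_im, Complex.ofReal_im, sub_zero]
  have h4 := Real.sin_sq_add_cos_sq (w.arg - z.arg)
  have h5 : √3 * √3 = 3 := Real.mul_self_sqrt (by norm_num)
  have h6 : 0 < √3 := by positivity
  nlinarith

open scoped Matrix.Norms.L2Operator in
theorem l2_norm_sub_lt_of_eigen {n : ℕ} (A : Matrix (Fin n) (Fin n) ℂ) (hA : Aᴴ * A = 1)
    {ι : Type*} [Fintype ι] (b : Module.Basis ι ℂ (Fin n → ℂ)) (ε : ι → ℂ)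
    (hb : ∀ i, A.toLin' (b i) = ε i • b i) (c : ℂ) {r : NNReal} (hr0 : 0 < r)
    (hr : ∀ i, ‖ε i - c‖ < r) : ‖A - c • (1 : Matrix (Fin n) (Fin n) ℂ)‖ < r := by
  rcases subsingleton_or_nontrivial (Matrix (Fin n) (Fin n) ℂ) with h | h
  · rw [Subsingleton.elim (A - c • (1 : Matrix (Fin n) (Fin n) ℂ)) 0, norm_zero]
    exact_mod_cast hr0
  have hn : IsStarNormal (A - c • (1 : Matrix (Fin n) (Fin n) ℂ)) := ⟨by
    have h1 : star A * A = 1 := hA
    have h2 : A * star A = 1 := mul_eq_one_comm.1 h1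
    simp only [Commute, SemiconjBy, star_sub, star_smul, star_one, mul_sub, sub_mul, h1, h2,
      mul_smul_comm, smul_mul_assoc, mul_one, one_mul, smul_sub, smul_smul, mul_comm c]
    abel⟩
  have h1 := spectrum.spectralRadius_lt_of_forall_lt (A - c • (1 : Matrix (Fin n) (Fin n) ℂ))
    (r := r) (fun z hz => by
      by_contra hlt
      refine spectrum.mem_iff.1 hz ((Matrix.isUnit_iff_isUnit_det _).2 (Ne.isUnit ?_))
      rw [← LinearMap.det_toLin', det_eq_prod_of_eigenbasis b (ε := fun i => z - (ε i - c))]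
      · refine Finset.prod_ne_zero_iff.2 fun i _ h => hlt ?_
        rw [sub_eq_zero.1 h]
        exact_mod_cast hr i
      · intro i
        simp [Algebra.algebraMap_eq_smul_one, hb, sub_smul])
  rw [IsStarNormal.spectralRadius_eq_nnnorm] at h1
  exact_mod_cast h1

open scoped Matrix.Norms.L2Operator in
/-- Frobenius' theorem (Isaacs 14.16 and its proof). -/
theorem IsCharacter.exists_abelian_normal_relIndex_le [Finite G] {χ : G → ℂ}
    (hχ : IsCharacter G χ) (hf : ∀ g : G, χ g = χ 1 → g = 1) :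
    ∃ A : Subgroup G, A.Normal ∧ (∀ x ∈ A, ∀ y ∈ A, x * y = y * x) ∧
      ∀ H : Subgroup G, (∀ x ∈ H, ∀ y ∈ H, x * y = y * x) → A.relIndex H ≤ 12 ^ charDegree χ := by
  obtain ⟨X, hu, hX⟩ := hχ.exists_unitary
  have hinj : Function.Injective X := (injective_iff_map_eq_one X).2 fun g hg =>
    hf g (by rw [← hX, ← hX, hg, map_one])
  have hun : ∀ g, X g ∈ unitary (Matrix (Fin (charDegree χ)) (Fin (charDegree χ)) ℂ) := fun g =>
    ⟨by rw [Matrix.star_eq_conjTranspose, hu, matRep_inv_mul],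
      by rw [Matrix.star_eq_conjTranspose, hu, matRep_mul_inv]⟩
  have h1 : ∀ g, ‖X g‖ ≤ 1 := fun g => by
    rcases subsingleton_or_nontrivial (Matrix (Fin (charDegree χ)) (Fin (charDegree χ)) ℂ) with
      h | h
    · rw [Subsingleton.elim (X g) 0, norm_zero]; norm_num
    · exact (CStarRing.norm_of_mem_unitary (hun g)).le
  let c : Matrix (Fin (charDegree χ)) (Fin (charDegree χ)) ℂ := ((√3 / 2 : ℝ) : ℂ) • 1
  have hc : ∀ x, c * x = x * c := fun x => by simp [c]
  let S : Set G := {g | ‖X g - c‖ < 1 / 2}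
  have hS : ∀ a ∈ S, ∀ b ∈ S, a * b = b * a := fun a ha b hb =>
    jordan_commute hinj h1 hc ha hc hb
  have hconj : ∀ a ∈ S, ∀ g, g * a * g⁻¹ ∈ S := by
    intro a ha g
    have : X (g * a * g⁻¹) - c = X g * (X a - c) * X g⁻¹ := by
      rw [mul_sub, sub_mul, ← hc, mul_assoc c, matRep_mul_inv, mul_one, map_mul, map_mul]
    simp only [S, Set.mem_setOf_eq] at ha ⊢
    rwa [this, CStarRing.norm_mul_mem_unitary _ (hun _), CStarRing.norm_mem_unitary_mul _ (hun _)]
  have hcomm := Subgroup.isMulCommutative_closure hS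
  refine ⟨Subgroup.closure S, ⟨fun a ha g => ?_⟩,
    fun x hx y hy => congrArg Subtype.val (mul_comm' (⟨x, hx⟩ : Subgroup.closure S) ⟨y, hy⟩),
    fun H hH => ?_⟩
  · induction ha using Subgroup.closure_induction with
    | mem a ha => exact Subgroup.subset_closure (hconj a ha g)
    | one => simp
    | mul a b _ _ ha hb => simpa [mul_assoc] using Subgroup.mul_mem _ ha hb
    | inv a _ ha => simpa [mul_assoc] using Subgroup.inv_mem _ ha
  · have : IsMulCommutative H := ⟨⟨fun a b => Subtype.ext (hH a a.2 b b.2)⟩⟩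
    obtain ⟨b, f, hb⟩ := rep_exists_eigenbasis_of_comm (repOfMatrix (X.comp H.subtype))
    let κ : H ⧸ (Subgroup.closure S).subgroupOf H →
        (Fin (Module.finrank ℂ (Fin (charDegree χ) → ℂ)) → Finset.Icc (-5 : ℤ) 6) :=
      fun q i => ⟨jordanArc (f i q.out), jordanArc_mem _⟩
    have hκ : Function.Injective κ := by
      intro q q' h
      rw [← q.out_eq, ← q'.out_eq]
      refine QuotientGroup.eq.2 (Subgroup.subset_closure ?_)
      refine l2_norm_sub_lt_of_eigen (r := 1 / 2) _ (hun _).1 b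
        (fun i => f i (q.out⁻¹ * q'.out)) (fun i => hb i _) _ (by norm_num) fun i => ?_
      have := norm_sub_lt_of_jordanArc_eq (linear_norm_apply (f i) _) (linear_norm_apply (f i) _)
        (congrArg Subtype.val (congrFun h i))
      simpa using this
    have := Nat.card_le_card_of_injective κ hκ
    rw [Nat.card_fun, Nat.card_eq_fintype_card (α := Finset.Icc (-5 : ℤ) 6), Fintype.card_coe] at this
    simpa [Subgroup.relIndex, Subgroup.index_eq_card] using this

end Cfsg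

set_option linter.all false in
theorem Cfsg.Rz.Char_Jordan_0 : True := by
  have := @_root_.Cfsg.jordanArc.eq_def
  have := @_root_.Cfsg.jordanArc.fun_cases
  trivial
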