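import Cfsg.Agent.Char.RelGraph
import Cfsg.Agent.Char.FewDeg

/-!
# The dual module of a normal subgroup

`LinC f` is the group of linear characters of `N`, with the conjugation action of `G`.
-/

set_option autoImplicit false
set_option linter.unusedSectionVars false

namespace Cfsg

open scoped commutatorElement Classical
open Subgroup MulAction

universe u v

variable {G : Type u} [Group G] {N : Type v} [Group N]

/-- The linear characters of `N`, as a `G`-module. -/
def LinC (_f : N →* G) : Type v := N →* ℂˣ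

namespace LinC

variable {f : N →* G}

noncomputable instance instCommGroup : CommGroup (LinC f) :=
  inferInstanceAs (CommGroup (N →* ℂˣ))

instance instFinite [Finite N] : Finite (LinC f) := finite_linearChar

/-- The underlying homomorphism. -/
def hom (x : LinC f) : N →* ℂˣ := x

/-- A homomorphism as an element of the dual module. -/
def mk (f : N →* G) (x : N →* ℂˣ) : LinC f := x

/-- The underlying irreducible character. -/
def irr (x : LinC f) : IrrCharacter N := IrrCharacter.ofLinear x.hom

@[simp] theorem hom_mk (x : N →* ℂˣ) : (mk f x).hom = x := rfl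
@[simp] theorem mk_hom (x : LinC f) : mk f x.hom = x := rfl
theorem ext' {x y : LinC f} (h : ∀ n, x.hom n = y.hom n) : x = y := MonoidHom.ext h
@[simp] theorem hom_mul (x y : LinC f) (n : N) : (x * y).hom n = x.hom n * y.hom n := rfl
@[simp] theorem hom_one (n : N) : (1 : LinC f).hom n = 1 := rfl
@[simp] theorem hom_inv (x : LinC f) (n : N) : (x⁻¹).hom n = (x.hom n)⁻¹ := rfl
@[simp] theorem hom_pow (x : LinC f) (k : ℕ) (n : N) : (x ^ k).hom n = x.hom n ^ k := rfl
theorem hom_mul' (x y : LinC f) : (x * y).hom = x.hom * y.hom := rfl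
theorem hom_eq_one_iff {x : LinC f} : x.hom = 1 ↔ x = 1 := Iff.rfl
theorem orderOf_hom (x : LinC f) : orderOf x.hom = orderOf x := rfl

theorem irr_injective : Function.Injective (irr : LinC f → IrrCharacter N) :=
  fun _ _ h => IrrCharacter.ofLinear_injective h

@[simp] theorem irr_one : (1 : LinC f).irr = IrrCharacter.one N := IrrCharacter.ofLinear_one

theorem irr_eq_one_iff {x : LinC f} : x.irr = IrrCharacter.one N ↔ x = 1 :=
  IrrCharacter.ofLinear_eq_one_iff

@[simp] theorem charDegree_irr (x : LinC f) : charDegree x.irr.1 = 1 :=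
  IrrCharacter.charDegree_ofLinear _

theorem card_eq [Finite N] : Nat.card (LinC f) = (commutator N).index := card_linear

theorem card_eq_of_comm [Finite N] [IsMulCommutative N] : Nat.card (LinC f) = Nat.card N :=
  card_linear_of_comm fun a b => mul_comm' a b

variable [IsNormalEmb f]

noncomputable instance instAction : MulDistribMulAction G (LinC f) where
  smul g x := mk f (x.hom.comp ((conjAut f g)⁻¹ : MulAut N).toMonoidHom)
  one_smul x := ext' fun n => by
    change x.hom ((conjAut f 1)⁻¹ n) = _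
    simp
  mul_smul g h x := ext' fun n => by
    change x.hom ((conjAut f (g * h))⁻¹ n) = x.hom ((conjAut f h)⁻¹ ((conjAut f g)⁻¹ n))
    simp
  smul_one g := rfl
  smul_mul g x y := rfl

theorem hom_smul (g : G) (x : LinC f) :
    (g • x).hom = x.hom.comp ((conjAut f g)⁻¹ : MulAut N).toMonoidHom := rfl

theorem hom_smul_apply (g : G) (x : LinC f) (n : N) :
    (g • x).hom n = x.hom ((conjAut f g)⁻¹ n) := rfl

variable [Finite G] [Finite N]

theorem irr_smul (g : G) (x : LinC f) : (g • x).irr = conjAut f g • x.irr :=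
  (IrrCharacter.mulAut_smul_ofLinear_eq _ _).symm

theorem conjAut_smul_hom_smul (g : G) (x : LinC f) (θ : IrrCharacter N) :
    conjAut f g • x.hom • θ = (g • x).hom • conjAut f g • θ :=
  IrrCharacter.mulAut_smul_linear_smul _ _ _

theorem mem_inertia_iff {g : G} {x : LinC f} : g ∈ inertia f x.irr ↔ g • x = x := by
  rw [mem_inertia, ← irr_smul, irr_injective.eq_iff]

theorem stabilizer_eq (x : LinC f) : stabilizer G x = inertia f x.irr := by
  ext g
  rw [mem_stabilizer_iff, mem_inertia_iff]

theorem map_smul_eq (n : N) (x : LinC f) : f n • x = x :=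
  mem_inertia_iff.1 (map_mem_inertia f _ n)

theorem smul_eq_of_mem_centralizer {g : G} (hg : g ∈ centralizer (f.range : Set G))
    (x : LinC f) : g • x = x :=
  mem_inertia_iff.1 (centralizer_le_inertia f _ hg)

theorem exists_irr_eq [IsMulCommutative N] (θ : IrrCharacter N) : ∃ x : LinC f, x.irr = θ :=
  IrrCharacter.ofLinear_surjective_of_comm (fun a b => mul_comm' a b) θ

theorem forall_smul_eq_iff {A : Subgroup G} [A.Normal] [IsMulCommutative A] {g : G} :
    (∀ x : LinC A.subtype, g • x = x) ↔ g ∈ centralizer (A : Set G) := by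
  refine ⟨fun h => mem_centralizer_of_forall_inertia fun θ => ?_, fun h x =>
    smul_eq_of_mem_centralizer (by simpa using h) x⟩
  obtain ⟨x, rfl⟩ := exists_irr_eq (f := A.subtype) θ
  exact mem_inertia_iff.2 (h x)

end LinC

/-- A character vanishes at an element no conjugate of which fixes a character below it. -/
theorem LiesOver.eq_zero_of_forall_conj [Finite G] [Finite N] {f : N →* G} [IsNormalEmb f]
    {χ : IrrCharacter G} {θ : IrrCharacter N} (hχ : LiesOver f χ.1 θ.1) {x : G}
    (h : ∀ c : G, c * x * c⁻¹ ∉ inertia f θ) : χ x = 0 := by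
  obtain ⟨ψ, -, hψ⟩ := hχ.exists_inertia_ind_eq
  change χ.1 x = 0
  rw [← hψ]
  apply ind_apply_eq_zero
  rintro ⟨t, ht⟩ hconj
  obtain ⟨c, hc⟩ := isConj_iff.1 hconj
  exact h c (by rw [hc]; exact ht)

section Abstract

variable {V : Type v} [CommGroup V] [Finite V] [MulDistribMulAction G V]

/-- An element of the form `s • y / y` fixed by `s` is trivial in a coprime action. -/
theorem eq_one_of_smul_div_fixed {s : G} {n : ℕ} (hn : n.Coprime (Nat.card V))
    (hs : ∀ v : V, s ^ n • v = v) {y : V} (h : s • (s • y / y) = s • y / y) : s • y / y = 1 := by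
  have key : ∀ k : ℕ, s ^ k • y = (s • y / y) ^ k * y := by
    intro k
    induction k with
    | zero => simp
    | succ k ih =>
      rw [pow_succ', mul_smul, ih, smul_mul', smul_pow', h, pow_succ, mul_assoc, div_mul_cancel]
  have h1 : (s • y / y) ^ n = 1 := by
    have := key n
    rwa [hs, right_eq_mul] at this
  exact orderOf_eq_one_iff.1 (Nat.eq_one_of_dvd_coprimes hn (orderOf_dvd_of_pow_eq_one h1)
    (orderOf_dvd_natCard _))

/-- A subgroup inducing an abelian group of automorphisms of coprime order has a regular orbit. -/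
theorem exists_regular_of_comm [Finite G] {A : Subgroup G}
    (hc : ∀ a ∈ A, ∀ b ∈ A, ∀ v : V, a • b • v = b • a • v)
    (hn : ∀ a ∈ A, ∃ n : ℕ, n.Coprime (Nat.card V) ∧ ∀ v : V, a ^ n • v = v) :
    ∃ x : V, ∀ a ∈ A, a • x = x → ∀ v : V, a • v = v := by
  obtain ⟨x, hx⟩ := Finite.exists_min fun x : V => Nat.card (stabilizer G x ⊓ A : Subgroup G)
  refine ⟨x, fun s hs hsx => ?_⟩
  by_contra hne
  push Not at hne
  obtain ⟨y, hy⟩ := hne
  obtain ⟨n, h1, h2⟩ := hn s hs
  have hy' : s • y / y ≠ 1 := fun e => hy (div_eq_one.1 e)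
  have hlt : stabilizer G (x * (s • y / y)) ⊓ A < stabilizer G x ⊓ A := by
    refine lt_of_le_of_ne (fun a ha => ⟨?_, ha.2⟩) fun e => ?_
    · have h3 : a • (x * (s • y / y)) = x * (s • y / y) := ha.1
      have h4 : a • x / x = s • (y / a • y) / (y / a • y) := by
        rw [smul_mul', smul_div'] at h3
        rw [smul_div', hc s hs a ha.2, div_eq_iff_eq_mul, eq_mul_inv_of_mul_eq h3]
        simp only [div_eq_mul_inv, mul_inv_rev, inv_inv]
        simp only [mul_comm, mul_left_comm, mul_assoc]
      have h5 : a • x / x = 1 := by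
        rw [h4]
        refine eq_one_of_smul_div_fixed h1 h2 ?_
        rw [← h4, smul_div', hc s hs a ha.2, hsx]
      exact div_eq_one.1 h5
    · have h3 : s ∈ stabilizer G (x * (s • y / y)) ⊓ A := e ▸ ⟨hsx, hs⟩
      have h4 : s • (x * (s • y / y)) = x * (s • y / y) := h3.1
      rw [smul_mul', hsx, mul_right_inj] at h4
      exact hy' (eq_one_of_smul_div_fixed h1 h2 h4)
  exact (hx _).not_gt (card_lt_of_lt hlt)

end Abstract

/-- A normal subgroup inducing an abelian group of coprime order on an abelian normal subgroup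
has a regular orbit on its dual. -/
theorem exists_linC_regular [Finite G] {W A : Subgroup G} [W.Normal] [IsMulCommutative W]
    (hc : ⁅A, A⁆ ≤ centralizer (W : Set G))
    (hn : ∀ a ∈ A, ∃ n : ℕ, n.Coprime (Nat.card W) ∧ a ^ n ∈ centralizer (W : Set G)) :
    ∃ x : LinC W.subtype, ∀ a ∈ A, a • x = x → a ∈ centralizer (W : Set G) := by
  obtain ⟨x, hx⟩ := exists_regular_of_comm (V := LinC W.subtype) (A := A) (fun a ha b hb v => by
    have := LinC.forall_smul_eq_iff.2 (hc (commutator_mem_commutator ha hb)) (b • a • v)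
    rw [← this, ← mul_smul, ← mul_smul, ← mul_smul, commutatorElement_def]
    congr 1
    group) (fun a ha => by
    obtain ⟨n, h1, h2⟩ := hn a ha
    exact ⟨n, by rwa [LinC.card_eq_of_comm], LinC.forall_smul_eq_iff.2 h2⟩)
  exact ⟨x, fun a ha h => LinC.forall_smul_eq_iff.1 (hx a ha h)⟩

theorem exists_irr_vanish_of_comm [Finite G] {W A : Subgroup G} [W.Normal] [IsMulCommutative W]
    [hA : A.Normal] (hc : ⁅A, A⁆ ≤ centralizer (W : Set G))
    (hn : ∀ a ∈ A, ∃ n : ℕ, n.Coprime (Nat.card W) ∧ a ^ n ∈ centralizer (W : Set G)) :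
    ∃ χ : IrrCharacter G, ∀ (g : G) (k : ℕ), g ^ k ∈ A → g ^ k ∉ centralizer (W : Set G) →
      χ g = 0 := by
  obtain ⟨x, hx⟩ := exists_linC_regular hc hn
  obtain ⟨χ, hχ⟩ := x.irr.exists_liesOver_above (f := W.subtype) W.subtype_injective
  refine ⟨χ, fun g k h1 h2 => hχ.eq_zero_of_forall_conj fun c hc => h2 ?_⟩
  have h3 := hx _ (hA.conj_mem _ h1 c) (by
    rw [← conj_pow]
    exact LinC.mem_inertia_iff.1 (pow_mem hc k))
  have := (inferInstance : (centralizer (W : Set G)).Normal).conj_mem _ h3 c⁻¹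
  simpa [mul_assoc] using this

end Cfsg

set_option linter.all false in
theorem Cfsg.Rz.Char_LinAct_0 : True := by
  have := @_root_.Cfsg.LinC.mk.eq_def.{0, 0}
  have := @_root_.Cfsg.LinC.mk.eq_1.{0, 0}
  have := @_root_.Cfsg.LinC.mk.fun_cases
  have := @_root_.Cfsg.LinC.eq_def.{0, 0}
  have := @_root_.Cfsg.LinC.eq_1.{0, 0}
  have := @_root_.Cfsg.LinC.fun_cases
  have := @_root_.Cfsg.LinC.instCommGroup.eq_def.{0, 0}
  have := @_root_.Cfsg.LinC.instCommGroup.eq_1.{0, 0}
  have := @_root_.Cfsg.LinC.instCommGroup.fun_cases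
  have := @_root_.Cfsg.LinC.instAction.congr_simp.{0, 0}
  have := @_root_.Cfsg.LinC.instAction.eq_def.{0, 0}
  have := @_root_.Cfsg.LinC.instAction.eq_1.{0, 0}
  have := @_root_.Cfsg.LinC.instAction.fun_cases
  have := @_root_.Cfsg.LinC.irr.eq_def.{0, 0}
  have := @_root_.Cfsg.LinC.irr.eq_1.{0, 0}
  have := @_root_.Cfsg.LinC.irr.fun_cases
  have := @_root_.Cfsg.LinC.hom.eq_def.{0, 0}
  have := @_root_.Cfsg.LinC.hom.eq_1.{0, 0}
  have := @_root_.Cfsg.LinC.hom.fun_cases
  trivial
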