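import Cfsg.Agent.Char.OkWa
import Cfsg.Agent.Grp.Hall

/-!
# Characters of `p'`-degree when `K S` is normal for a normal `p'`-subgroup `K`
-/

set_option autoImplicit false
set_option linter.unusedSectionVars false

namespace Cfsg

universe u v w

variable {K R C R' Z : Type*} [Group K] [Finite K] [Group R] [Finite R] [Group C] [Finite C]
  [Group R'] [Finite R'] [Group Z] [Finite Z] {p m : ℕ} [hp : Fact p.Prime]

theorem LiesOver.apply_mul_eq_of_mem_center {j : C →* K} {χ : IrrCharacter K}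
    {ψ : IrrCharacter C} (h : LiesOver j χ.1 ψ.1) {t : C} (ht : j t ∈ Subgroup.center K)
    (ht' : t ∈ Subgroup.center C) : χ (j t) * ψ 1 = ψ t * χ 1 := by
  obtain ⟨l, hl⟩ := χ.exists_comp_eq_smul_of_range_le_center (j.comp (Subgroup.zpowers t).subtype)
    (by rw [MonoidHom.range_comp, Subgroup.range_subtype, MonoidHom.map_zpowers]; simpa)
  obtain ⟨l', hl'⟩ := ψ.exists_comp_eq_smul_of_range_le_center (Subgroup.zpowers t).subtype
    (by simpa)
  have h1 := LiesOver.eq_of_comp_eq_smul (θ := .ofLinear l) (c := χ 1) (funext hl)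
    (h.trans χ.isCharacter (IrrCharacter.isCharacter _)
      (liesOver_of_comp_eq_smul (θ := .ofLinear l') ψ.apply_one_ne_zero (funext hl')))
  rw [show χ (j t) = _ from hl ⟨t, Subgroup.mem_zpowers t⟩,
    show ψ t = _ from hl' ⟨t, Subgroup.mem_zpowers t⟩, IrrCharacter.ofLinear_inj.1 h1]
  ring

theorem IrrCharacter.apply_eq_of_mem_center_of_not_dvd {χ : IrrCharacter R}
    (h1 : ¬ p ∣ charDegree χ.1) (h2 : ¬ p ∣ detOrder χ.1) {z : R} (hz : z ∈ Subgroup.center R)
    {n : ℕ} (hn : z ^ p ^ n = 1) : χ z = χ 1 := by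
  obtain ⟨l, hl⟩ := χ.exists_comp_eq_smul_of_range_le_center (Subgroup.zpowers z).subtype
    (by simpa)
  have h3 : χ z = χ 1 * l ⟨z, Subgroup.mem_zpowers z⟩ := hl ⟨z, Subgroup.mem_zpowers z⟩
  have h4 := χ.isCharacter.detChar_of_mem_charCenter (χ.center_le_charCenter hz)
  rw [(not_dvd_detOrder_iff hp.out).1 h2 z n hn, show χ.1 z = _ from h3,
    mul_div_cancel_left₀ _ χ.apply_one_ne_zero, ← Units.val_pow_eq_pow_val, eq_comm,
    Units.val_eq_one] at h4
  have h5 : l ⟨z, Subgroup.mem_zpowers z⟩ ^ p ^ n = 1 := by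
    rw [← map_pow, show (⟨z, _⟩ : Subgroup.zpowers z) ^ p ^ n = 1 from Subtype.ext hn, map_one]
  rw [h3, (pow_eq_one_iff_of_coprime ((hp.out.coprime_iff_not_dvd.2 h1).pow_left n)).1 ⟨h5, h4⟩]
  simp

theorem IrrCharacter.detOrder_smul (σ : MulAut R) (χ : IrrCharacter R) :
    detOrder (σ • χ).1 = detOrder χ.1 :=
  χ.isCharacter.detOrder_comp_of_surjective σ.symm.toMonoidHom σ.symm.surjective

section

variable {b : K →* R} [hb : IsNormalEmb b] (hK : ¬ p ∣ Nat.card K) (hi : b.range.index = p ^ m)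
include hK hi

theorem exists_extension_not_dvd_detOrder {θ : IrrCharacter K} (hT : inertia b θ = ⊤) :
    ∃ η : IrrCharacter R, η.1 ∘ b = θ.1 ∧ ¬ p ∣ detOrder η.1 :=
  (exists_extension_of_coprime_card hT
    (hi ▸ (hp.out.coprime_iff_not_dvd.2 hK).symm.pow_right m)).imp fun _ h =>
    ⟨h.1, fun e => hK ((h.2 ▸ e).trans (detOrder_dvd_card _))⟩

theorem eq_of_comp_eq_of_not_dvd_detOrder {θ : IrrCharacter K} {η η' : IrrCharacter R}
    (h : η.1 ∘ b = θ.1) (h' : η'.1 ∘ b = θ.1) (h1 : ¬ p ∣ detOrder η.1)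
    (h2 : ¬ p ∣ detOrder η'.1) : η = η' :=
  (existsUnique_extension_of_coprime_card (inertia_eq_top_of_comp_eq η.isClassFunction h)
    (hi ▸ (hp.out.coprime_iff_not_dvd.2 hK).symm.pow_right m)).unique
    ⟨h, hi ▸ (hp.out.coprime_iff_not_dvd.2 h1).symm.pow_right m⟩
    ⟨h', hi ▸ (hp.out.coprime_iff_not_dvd.2 h2).symm.pow_right m⟩

omit hb hK hi in
theorem linear_smul_comp {μ : R →* ℂˣ} (hμ : ∀ x, μ (b x) = 1) (η : IrrCharacter R) :
    (μ • η).1 ∘ b = η.1 ∘ b := funext fun x => by simp [hμ]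

theorem linear_eq_of_not_dvd_detOrder {θ : IrrCharacter K} {η : IrrCharacter R}
    (h : η.1 ∘ b = θ.1) {μ μ' : R →* ℂˣ} (hμ : ∀ x, μ (b x) = 1) (hμ' : ∀ x, μ' (b x) = 1)
    (h1 : ¬ p ∣ detOrder (μ • η).1) (h2 : ¬ p ∣ detOrder (μ' • η).1) : μ = μ' :=
  IrrCharacter.ofLinear_inj.1 (gallagher_injective' (f := b) η.isCharacter (h ▸ θ.2)
    (by simp [hμ]) (by simp [hμ']) (congrArg Subtype.val (eq_of_comp_eq_of_not_dvd_detOrder hK hi
      ((linear_smul_comp hμ η).trans h) ((linear_smul_comp hμ' η).trans h) h1 h2)))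

theorem exists_linear_not_dvd_detOrder {η : IrrCharacter R} (h : ¬ p ∣ charDegree η.1) :
    ∃ (θ : IrrCharacter K) (μ : R →* ℂˣ), η.1 ∘ b = θ.1 ∧ (∀ x, μ (b x) = 1) ∧
      ¬ p ∣ detOrder (μ • η).1 := by
  have h1 := η.isIrr_comp_of_coprime (f := b)
    (hi ▸ (hp.out.coprime_iff_not_dvd.2 h).symm.pow_right m)
  obtain ⟨η', h2, h3⟩ := exists_extension_not_dvd_detOrder hK hi (θ := ⟨_, h1⟩)
    (inertia_eq_top_of_comp_eq η.isClassFunction rfl)
  obtain ⟨μ, h4, h5⟩ := exists_linear_of_comp_eq η.isCharacter η'.isCharacter h1 h2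
  exact ⟨⟨_, h1⟩, μ, rfl, h4, by rwa [IrrCharacter.linear_smul_val, ← h5]⟩

end

/-- The correspondence `θ̂ μ ↔ θ* × μ` between characters of `p'`-degree of `K S` and `C × S`. -/
def IsPCorr (p : ℕ) (b : K →* R) (k : R' →* R) (c : C →* R') (j : C →* K) (η : IrrCharacter R)
    (η' : IrrCharacter R') : Prop :=
  ∃ (μ : R →* ℂˣ) (θ : IrrCharacter K) (δ : IrrCharacter C), (∀ x, μ (b x) = 1) ∧
    ¬ p ∣ detOrder (μ • η).1 ∧ ¬ p ∣ detOrder (μ.comp k • η').1 ∧ η.1 ∘ b = θ.1 ∧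
    η'.1 ∘ c = δ.1 ∧ ¬ p ∣ ipNat (θ.1 ∘ j) δ.1

namespace IsPCorr

variable {b : K →* R} [hb : IsNormalEmb b] {k : R' →* R} {c : C →* R'} [hc : IsNormalEmb c]
  {j : C →* K} {η η₁ : IrrCharacter R} {η' η₁' : IrrCharacter R'}

theorem smul (h : IsPCorr p b k c j η η') {σ : MulAut R} {σ' : MulAut R'} {τ : MulAut K}
    {τ' : MulAut C} (h1 : ∀ x, k (σ' x) = σ (k x)) (h2 : ∀ x, b (τ x) = σ (b x))
    (h3 : ∀ x, c (τ' x) = σ' (c x)) (h4 : ∀ x, j (τ' x) = τ (j x)) :
    IsPCorr p b k c j (σ • η) (σ' • η') := by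
  obtain ⟨μ, θ, δ, h5, h6, h7, h8, h9, h10⟩ := h
  refine ⟨μ.comp σ.symm.toMonoidHom, τ • θ, τ' • δ, fun x => ?_, ?_, ?_, funext fun x => ?_,
    funext fun x => ?_, by rwa [ipNat_smul_smul h4]⟩
  · simp [show σ.symm (b x) = b (τ.symm x) by
      rw [MulEquiv.symm_apply_eq, ← h2, MulEquiv.apply_symm_apply], h5]
  · rwa [← IrrCharacter.linear_smul_smul, IrrCharacter.detOrder_smul]
  · rwa [show (μ.comp σ.symm.toMonoidHom).comp k = (μ.comp k).comp σ'.symm.toMonoidHom from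
      MonoidHom.ext fun x => congrArg μ (by
        simp [MulEquiv.symm_apply_eq, ← h1]),
      ← IrrCharacter.linear_smul_smul, IrrCharacter.detOrder_smul]
  · simp [← h8, show σ.symm (b x) = b (τ.symm x) by
      rw [MulEquiv.symm_apply_eq, ← h2, MulEquiv.apply_symm_apply]]
  · simp [← h9, show σ'.symm (c x) = c (τ'.symm x) by
      rw [MulEquiv.symm_apply_eq, ← h3, MulEquiv.apply_symm_apply]]

variable (hs : IsSupp b k c j) (hK : ¬ p ∣ Nat.card K) (hi : b.range.index = p ^ m)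
  (hg : IsGlaub p (fun θ => inertia b θ = ⊤) j)
include hs hK

theorem not_dvd_card : ¬ p ∣ Nat.card C :=
  fun e => hK (e.trans (Subgroup.card_dvd_of_injective j hs.inj_j))

theorem not_dvd (h : IsPCorr p b k c j η η') :
    ¬ p ∣ charDegree η.1 ∧ ¬ p ∣ charDegree η'.1 := by
  obtain ⟨μ, θ, δ, -, -, -, h1, h2, -⟩ := h
  rw [charDegree_eq_of_comp_eq h1, charDegree_eq_of_comp_eq h2]
  exact ⟨fun e => hK (e.trans θ.charDegree_dvd_card),
    fun e => not_dvd_card hs hK (e.trans δ.charDegree_dvd_card)⟩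

include hi

theorem liesOver_iff (h : IsPCorr p b k c j η η') {z : Z →* R'}
    (hz : (k.comp z).range ≤ Subgroup.center R) (ν : Z → ℂ) :
    LiesOver (k.comp z) η.1 ν ↔ LiesOver z η'.1 ν := by
  obtain ⟨h1, h2⟩ := h.not_dvd hs hK
  obtain ⟨μ, θ, δ, h3, h4, h5, h6, h7, h8⟩ := h
  have hz' : ∀ n, z n ∈ Subgroup.center R' := fun n => Subgroup.mem_center_iff.2 fun x =>
    hs.inj_w (by simpa using Subgroup.mem_center_iff.1 (hz ⟨n, rfl⟩) (k x))
  obtain ⟨l, hl⟩ := η.exists_comp_eq_smul_of_range_le_center _ hz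
  obtain ⟨l', hl'⟩ := η'.exists_comp_eq_smul_of_range_le_center z fun _ ⟨n, e⟩ => e ▸ hz' n
  have key : ∀ n, η (k (z n)) * η' 1 = η' (z n) * η 1 → l n = l' n := fun n e => by
    rw [show η (k (z n)) = _ from hl n, hl', mul_right_comm, mul_right_comm (η' 1),
      mul_comm (η' 1)] at e
    exact Units.ext (mul_left_cancel₀ (mul_ne_zero η.apply_one_ne_zero η'.apply_one_ne_zero) e)
  obtain rfl : l = l' := MonoidHom.ext fun n => by
    rw [← pPart_mul_pPrimePart p n, map_mul, map_mul, key, key]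
    · obtain ⟨d, hd⟩ := mem_of_coprime_orderOf_index (N := c.range) (g := z (pPrimePart p n)) (by
        rw [hs.index_eq, hi]
        exact (hp.out.coprime_iff_not_dvd.2 ((isPRegular_pPrimePart p n).map z)).symm.pow_right m)
      have := LiesOver.apply_mul_eq_of_mem_center (χ := θ) (ψ := δ) (t := d)
        ((liesOver_iff_ipNat_pos θ.isCharacter δ.isCharacter).2
          (Nat.pos_of_ne_zero fun e => h8 (e ▸ dvd_zero p)))
        (Subgroup.mem_center_iff.2 fun x => hb.1 (by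
          simpa [← hs.comm, hd] using Subgroup.mem_center_iff.1 (hz ⟨_, rfl⟩) (b x)))
        (Subgroup.mem_center_iff.2 fun x => hc.1 (by
          simpa [hd] using Subgroup.mem_center_iff.1 (hz' _) (c x)))
      simpa [← h6, ← h7, ← hs.comm, hd] using this
    · obtain ⟨r, hr⟩ := (isPElt_pPart p n).imp fun r hr => orderOf_dvd_iff_pow_eq_one.1 hr.dvd
      have e1 := IrrCharacter.apply_eq_of_mem_center_of_not_dvd (by simpa) h4 (hz ⟨_, rfl⟩)
        (n := r) (by rw [← map_pow, hr, map_one])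
      have e2 := IrrCharacter.apply_eq_of_mem_center_of_not_dvd (by simpa) h5 (hz' _)
        (n := r) (by rw [← map_pow, hr, map_one])
      simp only [IrrCharacter.linear_smul_apply, map_one, Units.val_one, one_mul,
        MonoidHom.comp_apply] at e1 e2
      rw [← e1, ← e2]; ring
  unfold LiesOver
  rw [show η.1 ∘ k.comp z = η 1 • fun n => (l n : ℂ) from funext hl,
    show η'.1 ∘ z = η' 1 • fun n => (l n : ℂ) from funext hl', ip_smul_left, ip_smul_left]
  simp [η.apply_one_ne_zero, η'.apply_one_ne_zero]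

include hg

theorem right_unique (h : IsPCorr p b k c j η η') (h' : IsPCorr p b k c j η η₁') : η' = η₁' := by
  obtain ⟨μ, θ, δ, h1, h2, h3, h4, h5, h6⟩ := h
  obtain ⟨μ', θ', δ', g1, g2, g3, g4, g5, g6⟩ := h'
  obtain rfl := linear_eq_of_not_dvd_detOrder hK hi h4 h1 g1 h2 g2
  obtain rfl : θ = θ' := Subtype.ext (h4.symm.trans g4)
  obtain rfl := hg.right_unique (inertia_eq_top_of_comp_eq η.isClassFunction h4) h6 g6
  have e : ∀ x, μ.comp k (c x) = 1 := fun x => by simp [hs.comm, h1]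
  exact MulAction.injective _ (eq_of_comp_eq_of_not_dvd_detOrder (not_dvd_card hs hK)
    (hs.index_eq.trans hi) ((linear_smul_comp e _).trans h5) ((linear_smul_comp e _).trans g5) h3 g3)

theorem left_unique (h : IsPCorr p b k c j η η') (h' : IsPCorr p b k c j η₁ η') : η = η₁ := by
  obtain ⟨μ, θ, δ, h1, h2, h3, h4, h5, h6⟩ := h
  obtain ⟨μ', θ', δ', g1, g2, g3, g4, g5, g6⟩ := h'
  have e := linear_eq_of_not_dvd_detOrder (not_dvd_card hs hK) (hs.index_eq.trans hi) h5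
    (fun x => by simp [hs.comm, h1]) (fun x => by simp [hs.comm, g1]) h3 g3
  obtain rfl : μ = μ' := MonoidHom.ext fun r => by
    obtain ⟨x, y, rfl⟩ := hs.mul r
    simpa [h1, g1] using DFunLike.congr_fun e y
  obtain rfl : δ = δ' := Subtype.ext (h5.symm.trans g5)
  obtain rfl := hg.left_unique (inertia_eq_top_of_comp_eq η.isClassFunction h4)
    (inertia_eq_top_of_comp_eq η₁.isClassFunction g4) h6 g6
  exact MulAction.injective _ (eq_of_comp_eq_of_not_dvd_detOrder hK hi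
    ((linear_smul_comp h1 _).trans h4) ((linear_smul_comp h1 _).trans g4) h2 g2)

theorem exists_right (hC : ∀ δ, inertia c δ = ⊤) (h : ¬ p ∣ charDegree η.1) :
    ∃ η', IsPCorr p b k c j η η' := by
  obtain ⟨θ, μ, h1, h2, h3⟩ := exists_linear_not_dvd_detOrder hK hi h
  obtain ⟨δ, h4⟩ := hg.exists_rel hp.out (inertia_eq_top_of_comp_eq η.isClassFunction h1)
  obtain ⟨η', h5, h6⟩ := exists_extension_not_dvd_detOrder (not_dvd_card hs hK)
    (hs.index_eq.trans hi) (hC δ)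
  exact ⟨(μ.comp k)⁻¹ • η', μ, θ, δ, h2, h3, (smul_inv_smul (μ.comp k) η').symm ▸ h6, h1,
    (linear_smul_comp (fun x => by simp [hs.comm, h2]) _).trans h5, h4⟩

theorem exists_left (h : ¬ p ∣ charDegree η'.1) : ∃ η, IsPCorr p b k c j η η' := by
  obtain ⟨δ, μ', h1, h2, h3⟩ := exists_linear_not_dvd_detOrder (not_dvd_card hs hK)
    (hs.index_eq.trans hi) h
  obtain ⟨θ, h4, h5⟩ := hg.exists_left δ
  obtain ⟨η, h6, h7⟩ := exists_extension_not_dvd_detOrder hK hi h4
  obtain ⟨μ, h8, h9⟩ : ∃ μ : R →* ℂˣ, (∀ x, μ (b x) = 1) ∧ μ.comp k = μ' := by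
    let π := (QuotientGroup.mk' b.range).comp k
    have hπ : Function.Surjective π := fun q => by
      obtain ⟨r, rfl⟩ := QuotientGroup.mk'_surjective _ q
      obtain ⟨x, y, rfl⟩ := hs.mul r
      exact ⟨y, by simp [π, (QuotientGroup.eq_one_iff (N := b.range) (b x)).2 ⟨x, rfl⟩]⟩
    refine ⟨(π.liftOfSurjective hπ ⟨μ', fun x hx => ?_⟩).comp (QuotientGroup.mk' _), fun x => by
      simp [(QuotientGroup.eq_one_iff (N := b.range) (b x)).2 ⟨x, rfl⟩],
      by rw [MonoidHom.comp_assoc]; exact MonoidHom.liftOfRightInverse_comp ..⟩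
    obtain ⟨d, rfl⟩ := hs.mem_range_iff.2 ((QuotientGroup.eq_one_iff _).1 hx)
    exact h2 d
  exact ⟨μ⁻¹ • η, μ, θ, δ, h8, (smul_inv_smul μ η).symm ▸ h7, by rwa [h9],
    (linear_smul_comp (fun x => by simp [h8]) _).trans h6, h1, h5⟩

end IsPCorr

variable {G H : Type*} [Group G] [Finite G] [Group H] [Finite H]

theorem IsSupp.card_liesOver_eq_comap {f : R →* G} [IsNormalEmb f] {u : H →* G} {a : K →* H}
    {b : K →* R} (h : IsSupp f u a b) {η : IrrCharacter R} {θ : IrrCharacter K}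
    (hθ : η.1 ∘ b = θ.1) {T : Subgroup G} (hT : inertia f η = T) (ha : ∀ x, a x ∈ T.comap u) :
    Nat.card {χ : IrrCharacter G // LiesOver f χ.1 η.1} =
      Nat.card {ψ : IrrCharacter (T.comap u) // LiesOver (a.codRestrict _ ha) ψ.1 θ.1} := by
  subst hT
  rw [← Nat.card_congr (cliffordEquiv (inertia f η).subtype_injective (j := toInertia f η)
    (fun _ => rfl) (Subgroup.range_subtype _).ge)]
  exact (h.comap _ (map_mem_inertia f η)).card_liesOver_eq (inertia_toInertia f η) hθ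

theorem LiesOver.of_inertia_eq_top {f : Z →* G} [IsNormalEmb f] {i : H →* G} {j : Z →* H}
    (hfac : ∀ n, i (j n) = f n) {ν : IrrCharacter Z} (hT : inertia f ν = ⊤) {χ : IrrCharacter G}
    (h : LiesOver f χ.1 ν.1) {η : IrrCharacter H} (h' : LiesOver i χ.1 η.1) :
    LiesOver j η.1 ν.1 := by
  obtain ⟨ν', h1⟩ := η.exists_liesOver_below j
  have h2 := h.mem_conjOrbit (h'.trans_of_eq hfac χ.isCharacter ν'.isCharacter h1)
  rw [conjOrbit_eq_singleton hT, Finset.mem_singleton] at h2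
  exact h2 ▸ h1

/-- The relative McKay count when `K S` is normal for a normal `p'`-subgroup `K`. -/
theorem card_pPrime_liesOver_eq_of_sup (hG : IsPSolvable p G) (S : Sylow p G) {K : Subgroup G}
    [K.Normal] (hK : ¬ p ∣ Nat.card K)
    (hKS : K ⊔ Subgroup.normalizer ((S : Subgroup G) : Set G) = ⊤) {i : H →* G}
    (hi : Function.Injective i) (hH : i.range = Subgroup.normalizer ((S : Subgroup G) : Set G))
    {z : Z →* G} [IsNormalEmb z] (hz : z.range ≤ Subgroup.center G) (hz' : z.range ≤ K ⊔ S)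
    {y : Z →* H} (hy : ∀ n, i (y n) = z n) (ν : IrrCharacter Z) :
    Nat.card {χ : IrrCharacter G // ¬ p ∣ charDegree χ.1 ∧ LiesOver z χ.1 ν.1} =
      Nat.card {ψ : IrrCharacter H // ¬ p ∣ charDegree ψ.1 ∧ LiesOver y ψ.1 ν.1} := by
  haveI := IsNormalEmb.of_factor hi hy
  have hSi : (S : Subgroup G) ≤ i.range := hH ▸ Subgroup.le_normalizer
  have hGH : ∀ g, ∃ k ∈ K, ∃ h, g = k * i h := fun g => by
    obtain ⟨k, hk, _, ⟨h, rfl⟩, e⟩ := Subgroup.mem_sup_of_normal_left.1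
      ((hH ▸ hKS).ge (Subgroup.mem_top g))
    exact ⟨k, hk, h, e.symm⟩
  let R := K ⊔ S
  haveI : R.Normal := Subgroup.normalizer_eq_top_iff.1 (eq_top_iff.2 (hKS.ge.trans (sup_le
    (le_sup_left.trans Subgroup.le_normalizer)
    (le_normalizer_sup Subgroup.le_normalizer_of_normal le_rfl))))
  have hR : ¬ p ∣ R.index := not_dvd_index_of_sylow_le S le_sup_right
  have hS' : ¬ p ∣ ((S : Subgroup G).comap i).index := fun e => S.not_dvd_index (e.trans (by
    rw [Subgroup.index_comap]; exact Subgroup.relIndex_dvd_index_of_le hSi))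
  obtain ⟨V, hV, ⟨n, hn⟩, hCV⟩ := (hG.of_injective i hi).exists_pComplement_ge (K := K.comap i)
    fun e => hK (e.trans (Subgroup.card_comap_dvd_of_injective K i hi))
  have hHV : ∀ h, ∃ s ∈ (S : Subgroup G).comap i, ∃ v ∈ V, s * v = h :=
    exists_mul_eq_of_coprime_index (hn ▸ (hp.out.coprime_iff_not_dvd.2 hS').symm.pow_right n)
  let U := K ⊔ V.map i
  have hU : ¬ p ∣ Nat.card U := isPiGroup_compl_singleton_iff.1 (IsPiGroup.sup_of_normal_left
    (isPiGroup_compl_singleton_iff.2 hK) ((isPiGroup_compl_singleton_iff.2 hV).map i))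
  obtain ⟨m, hm⟩ : ∃ m, K.relIndex R = p ^ m := by
    rw [Subgroup.relIndex_sup_left, ← card_map_mk'_eq_relIndex]
    exact IsPGroup.iff_card.1 (S.2.map _)
  have hUR : ∀ x ∈ U, x ∈ R → x ∈ K := fun x h1 h2 => le_of_not_dvd_card_of_index_eq_pow
    (H := U.subgroupOf R) (N := K.subgroupOf R) (fun e => hU (e.trans (card_subgroupOf U R ▸
      Subgroup.card_dvd_of_le inf_le_left))) hm (x := ⟨x, h2⟩) h1
  let b := Subgroup.inclusion (le_sup_left : K ≤ R)
  let c := Subgroup.inclusion (Subgroup.comap_mono le_sup_left : K.comap i ≤ R.comap i)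
  let b' := Subgroup.inclusion (le_sup_left : K ≤ U)
  let w := (i.comp V.subtype).codRestrict U fun x => Subgroup.mem_sup_right ⟨x, x.2, rfl⟩
  have hik : ∀ A : Subgroup G, Function.Injective (i.subgroupComap A) := fun A _ _ e =>
    Subtype.ext (hi (congrArg Subtype.val e))
  have h2 : IsSupp b (i.subgroupComap R) c (i.subgroupComap K) := ⟨hik R, hik K, fun _ => rfl,
    fun x k e => ⟨⟨x, show i x ∈ K from (show i x = k from congrArg Subtype.val e) ▸ k.2⟩,
      Subtype.ext (congrArg Subtype.val e :)⟩, fun r => by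
      obtain ⟨k, hk, s, hs, e⟩ := Subgroup.mem_sup_of_normal_left.1 r.2
      obtain ⟨h, rfl⟩ := hSi hs
      exact ⟨⟨k, hk⟩, ⟨h, Subgroup.mem_sup_right hs⟩, Subtype.ext e.symm⟩⟩
  have h3 : IsSupp R.subtype U.subtype b' b := ⟨U.subtype_injective, Subgroup.inclusion_injective _,
    fun _ => rfl, fun x r e => ⟨⟨r, hUR r (e ▸ x.2 : R.subtype r ∈ U) r.2⟩, rfl⟩, fun g => by
      obtain ⟨k, hk, h, rfl⟩ := hGH g
      obtain ⟨s, hs, v, hv, rfl⟩ := hHV h
      exact ⟨⟨k * i s, Subgroup.mul_mem_sup hk hs⟩, w ⟨v, hv⟩, by simp [w, mul_assoc]⟩⟩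
  have h4 : IsSupp (R.comap i).subtype V.subtype (Subgroup.inclusion hCV) c :=
    ⟨V.subtype_injective, Subgroup.inclusion_injective _, fun _ => rfl, fun x r e =>
      ⟨⟨r, hUR _ (e ▸ (w x).2 : i ((R.comap i).subtype r) ∈ U) r.2⟩, rfl⟩, fun h => by
      obtain ⟨s, hs, v, hv, rfl⟩ := hHV h
      exact ⟨⟨s, Subgroup.mem_sup_right hs⟩, ⟨v, hv⟩, rfl⟩⟩
  have h5 : IsSupp b' w (Subgroup.inclusion hCV) (i.subgroupComap K) := ⟨fun _ _ e =>
    Subtype.ext (hi (congrArg Subtype.val e)), hik K, fun _ => rfl, fun x k e =>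
      ⟨⟨x, show i x ∈ K from (show i x = k from congrArg Subtype.val e) ▸ k.2⟩,
        Subtype.ext (congrArg Subtype.val e :)⟩, fun u => by
      obtain ⟨k, hk, _, ⟨v, hv, rfl⟩, e⟩ := Subgroup.mem_sup_of_normal_left.1 u.2
      exact ⟨⟨k, hk⟩, ⟨v, hv⟩, Subtype.ext e.symm⟩⟩
  let φ := (conjAut K.subtype).comp (S : Subgroup G).subtype
  have hKN := inf_normalizer_eq_inf_centralizer (A := S) (N := K) Subgroup.le_normalizer_of_normal
    (inf_comm K _ ▸ inf_eq_bot_of_isPGroup_of_not_dvd S.2 hK)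
  have hC : ∀ k, k ∈ (i.subgroupComap K).range ↔ ∀ s, φ s k = k := fun k => by
    have e : k ∈ (i.subgroupComap K).range ↔ k.1 ∈ K ⊓ i.range :=
      ⟨fun ⟨x, e⟩ => ⟨k.2, x, congrArg Subtype.val e⟩, fun ⟨_, x, e⟩ =>
        ⟨⟨x, show i x ∈ K from e ▸ k.2⟩, Subtype.ext e⟩⟩
    rw [e, hH, hKN]
    simp [φ, conjAut_eq_iff, Subgroup.mem_centralizer_iff, eq_mul_inv_iff_mul_eq,
      eq_comm (b := k.1 * _)]
    rfl
  have hinv : ∀ θ, (∀ s, φ s • θ = θ) ↔ inertia b θ = ⊤ := fun θ => by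
    rw [inertia_of_factor (f := K.subtype) (i := R.subtype) fun _ => rfl, Subgroup.comap_subtype,
      Subgroup.subgroupOf_eq_top, sup_le_iff, and_iff_right (le_inertia_subtype K θ)]
    exact ⟨fun h s hs => h ⟨s, hs⟩, fun h s => h s.2⟩
  have hg := (isGlaub_of_pGroup hp.out φ (fun s => (S.2 s).imp fun k e => by
    rw [← map_pow, e, map_one]) hK (hik K) hC).congr hinv
  have hb : b.range.index = p ^ m := by rwa [Subgroup.inclusion_range]
  have hc : ∀ δ, inertia c δ = ⊤ := fun δ => eq_top_iff.2 fun r _ => by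
    obtain ⟨k, hk, s, hs, e⟩ := Subgroup.mem_sup_of_normal_left.1 r.2
    obtain ⟨h, rfl⟩ := hSi hs
    have h6 : i (r * h⁻¹) ∈ K := by simpa [← e] using hk
    rw [show r = c ⟨_, h6⟩ * ⟨h, Subgroup.mem_sup_right hs⟩ from Subtype.ext (by simp [c])]
    refine Subgroup.mul_mem _ (map_mem_inertia c δ _) (centralizer_le_inertia c δ ?_)
    rintro _ ⟨d, rfl⟩
    exact Subtype.ext (hi (by simpa [c] using ((hKN.le ⟨d.2, hH.le ⟨d, rfl⟩⟩).2 _ hs).symm))
  have hco : ∀ (A : Subgroup G) x, (i.subgroupComap A x : G) = i x := fun _ _ => rfl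
  have hE : ∀ h η η', IsPCorr p b (i.subgroupComap R) c (i.subgroupComap K) η η' →
      IsPCorr p b (i.subgroupComap R) c (i.subgroupComap K) (conjAut R.subtype (i h) • η)
        (conjAut (R.comap i).subtype h • η') := fun h η η' e =>
    e.smul (τ := conjAut K.subtype (i h)) (τ' := conjAut (K.comap i).subtype h)
      (fun x => Subtype.ext (by
        simp [conjAut_subtype, hco])) (fun x => Subtype.ext (by
        simp [conjAut_subtype, b])) (fun x => Subtype.ext (by simp [conjAut_subtype, c]))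
      fun x => Subtype.ext (by
        simp [conjAut_subtype, hco])
  let zR := z.codRestrict R fun n => hz' ⟨n, rfl⟩
  let yR := y.codRestrict (R.comap i) fun n => show i (y n) ∈ R from hy n ▸ hz' ⟨n, rfl⟩
  have hzy : (i.subgroupComap R).comp yR = zR := MonoidHom.ext fun n => Subtype.ext (hy n)
  have hZ : ∀ η η', IsPCorr p b (i.subgroupComap R) c (i.subgroupComap K) η η' →
      (LiesOver zR η.1 ν.1 ↔ LiesOver yR η'.1 ν.1) := fun η η' e => hzy ▸ e.liesOver_iff h2 hK hb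
    (by rw [hzy]; rintro _ ⟨n, rfl⟩
        exact Subgroup.mem_center_iff.2 fun x => Subtype.ext
          (Subgroup.mem_center_iff.1 (hz ⟨n, rfl⟩) x)) _
  have hT := inertia_eq_top_of_range_le_center hz ν
  refine card_eq_card_of_conjOrbit R.subtype (R.comap i).subtype (fun η η' =>
    IsPCorr p b (i.subgroupComap R) c (i.subgroupComap K) η η' ∧ LiesOver zR η.1 ν.1)
    (fun χ hχ => ?_) (fun ψ hψ => ?_) (fun η η' ζ ζ' e e' => ⟨fun h => ?_, fun h => ?_⟩)
    fun η η' ⟨e, e'⟩ => ?_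
  · obtain ⟨η, h6, h7⟩ := IrrCharacter.exists_liesOver_below_not_dvd R.subtype hχ.1
    obtain ⟨η', h8⟩ := IsPCorr.exists_right h2 hK hb hg hc h7
    exact ⟨η, η', ⟨h8, hχ.2.of_inertia_eq_top (fun _ => rfl) hT h6⟩, h6⟩
  · obtain ⟨η', h6, h7⟩ := IrrCharacter.exists_liesOver_below_not_dvd (R.comap i).subtype hψ.1
    obtain ⟨η, h8⟩ := IsPCorr.exists_left h2 hK hb hg h7
    exact ⟨η, η', ⟨h8, (hZ _ _ h8).2 (hψ.2.of_inertia_eq_top (fun _ => rfl)
      (by rw [inertia_of_factor hy, hT, Subgroup.comap_top]) h6)⟩, h6⟩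
  · obtain ⟨g, rfl⟩ := mem_conjOrbit.1 h
    obtain ⟨k, hk, x, rfl⟩ := hGH g
    rw [map_mul, mul_smul, mem_inertia.1 (le_inertia_subtype R _ (Subgroup.mem_sup_left hk))] at e'
    exact mem_conjOrbit.2 ⟨x, (hE x _ _ e.1).right_unique h2 hK hb hg e'.1⟩
  · obtain ⟨x, rfl⟩ := mem_conjOrbit.1 h
    exact mem_conjOrbit.2 ⟨i x, (hE x _ _ e.1).left_unique h2 hK hb hg e'.1⟩
  obtain ⟨h6, h7⟩ := e.not_dvd h2 hK
  have h8 : inertia (R.comap i).subtype η' = (inertia R.subtype η).comap i :=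
    Subgroup.ext fun h => ⟨fun e1 => (hE h _ _ e).left_unique h2 hK hb hg (by rwa [e1]),
      fun e1 => (hE h _ _ e).right_unique h2 hK hb hg (by rwa [e1])⟩
  rw [Nat.card_congr (Equiv.subtypeEquivRight fun χ => and_iff_right_of_imp fun h =>
      ⟨fun d => (hp.out.dvd_mul.1 (d.trans h.charDegree_dvd_mul_index)).elim h6
        (by rwa [R.range_subtype]), h.trans_of_eq (fun _ => rfl) χ.isCharacter ν.isCharacter e'⟩),
    Nat.card_congr (Equiv.subtypeEquivRight fun χ => and_iff_right_of_imp fun h =>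
      ⟨fun d => (hp.out.dvd_mul.1 (d.trans h.charDegree_dvd_mul_index)).elim h7 (by
        rw [Subgroup.range_subtype]
        exact fun d => hS' (d.trans (Subgroup.index_dvd_of_le (Subgroup.comap_mono le_sup_right)))),
        h.trans_of_eq (fun _ => rfl) χ.isCharacter ν.isCharacter ((hZ _ _ e).1 e')⟩)]
  obtain ⟨-, θ, δ, -, -, -, e1, e2, e3⟩ := e
  have h9 : ∀ x, b' x ∈ (inertia R.subtype η).comap U.subtype := fun x =>
    map_mem_inertia R.subtype η (b x)
  rw [h3.card_liesOver_eq_comap e1 rfl h9,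
    h4.card_liesOver_eq_comap e2 h8 fun x => h9 (i.subgroupComap K x)]
  refine (h5.comap _ h9).card_liesOver_eq_of_glaub S.2
    (fun d => hU (d.trans (Subgroup.card_subgroup_dvd_card _))) (fun x s => ?_) hC
    ((hinv θ).2 (inertia_eq_top_of_comp_eq η.isClassFunction e1)) e3 (eq_top_iff.2 fun x _ => ?_)
  · rw [conjAut_of_factor (f := K.subtype) (i := U.subtype.comp (Subgroup.subtype _)) fun _ => rfl]
    refine ⟨⟨_, conj_mem_of_mem_normalizer (Subgroup.inv_mem _ (hH.le ⟨x.1, rfl⟩)) s.2⟩, ?_⟩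
    show φ s * conjAut K.subtype (i x.1) = conjAut K.subtype (i x.1) * _
    simp [φ, mul_assoc]
  · refine mem_inertia_iff_forall.2 fun k k' e => ?_
    rw [← show η (b k) = θ k from congrFun e1 k, ← show η (b k') = θ k' from congrFun e1 k']
    exact mem_inertia_iff_forall.1 (show x.1.1 ∈ inertia R.subtype η from x.2) _ _
      (congrArg (fun u => u.1.1) e :)

end Cfsg

set_option linter.all false in
theorem Cfsg.Rz.Char_PCorr_0 : True := by
  have := @_root_.Cfsg.IsPCorr.congr_simp.{0, 0, 0, 0}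
  have := @_root_.Cfsg.IsPCorr.eq_def.{0, 0, 0, 0}
  have := @_root_.Cfsg.IsPCorr.eq_1.{0, 0, 0, 0}
  have := @_root_.Cfsg.IsPCorr.fun_cases
  trivial
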