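import Cfsg.Agent.Char.RankOneAb
import Cfsg.Agent.Char.FrobeniusGroup
import Cfsg.Agent.Char.Degrees

/-!
# Character degrees of a rank one group with the local structure of a Suzuki group
-/

set_option autoImplicit false
set_option linter.unusedSectionVars false

namespace Cfsg

open Subgroup Finset

universe u v w

namespace SzArith

theorem eq_of_sq_add_sq (k : ℕ) : ∀ x y : ℕ, x ^ 2 + y ^ 2 = 2 * (2 ^ k) ^ 2 → x = 2 ^ k := by
  induction k with
  | zero =>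
    intro x y h
    have hx : x ≤ 1 := by nlinarith
    have hy : y ≤ 1 := by nlinarith
    interval_cases x <;> interval_cases y <;> simp_all
  | succ k ih =>
    intro x y h
    have h4 : x ^ 2 + y ^ 2 = 8 * (2 ^ k) ^ 2 := by rw [h]; ring
    rw [pow_succ 2 k]
    clear h
    generalize (2 ^ k : ℕ) = c at *
    obtain ⟨a, rfl | rfl⟩ := Nat.even_or_odd' x <;> obtain ⟨b, rfl | rfl⟩ := Nat.even_or_odd' y
    · rw [ih a b (by nlinarith), mul_comm]
    all_goals ring_nf at h4; omega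

theorem split {m : ℤ} {i : ℕ} (h0 : 0 < m) (h : m < 2 ^ i) :
    ∃ g n t : ℤ, 0 < g ∧ 0 < t ∧ Odd n ∧ 0 < n ∧ m = g * n ∧ 2 ^ i = g * (2 * t) := by
  lift m to ℕ using h0.le
  obtain ⟨j, n, hn, rfl⟩ := Nat.exists_eq_two_pow_mul_odd (n := m) (by omega)
  have h1 : 0 < n := hn.pos
  have h2 : 2 ^ j < 2 ^ i := lt_of_le_of_lt (Nat.le_mul_of_pos_right _ h1) (by exact_mod_cast h)
  obtain ⟨l, rfl⟩ := Nat.exists_eq_add_of_lt ((Nat.pow_lt_pow_iff_right one_lt_two).1 h2)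
  exact ⟨2 ^ j, n, 2 ^ l, by positivity, by positivity, by exact_mod_cast hn, by exact_mod_cast h1,
    by push_cast; ring, by ring⟩

theorem le_of_odd {D E : ℤ} {N : ℕ} (hD : Odd D) (h : D ∣ 2 ^ N * E) (hE : 0 < E) : D ≤ E :=
  Int.le_of_dvd hE ((IsCoprime.pow_right (Int.isCoprime_two_right.2 hD)).dvd_of_dvd_mul_left h)

theorem le_one {k : ℕ} {c q m e : ℤ} (hk : 1 ≤ k) (hc : c = 2 ^ k) (hq : q = 2 * c ^ 2)
    (he : e ^ 2 = 1) (hm : m ≤ c) (hd : m * (q + 1) - c * (e + e) ∣ q ^ 2 * (q ^ 2 + 1)) :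
    m ≤ 1 := by
  by_contra h1
  have hc2 : 2 ≤ c := hc ▸ by simpa using pow_le_pow_right₀ (one_le_two (α := ℤ)) hk
  obtain ⟨g, n, t, hg, ht, hn, hn0, rfl, h2⟩ := split (m := m) (i := k + 1) (by omega)
    (by rw [pow_succ, ← hc]; omega)
  have h3 : c = g * t := by rw [pow_succ, ← hc] at h2; linarith
  have h4 : n * (q + 1) - 2 * (t * e) ∣ 2 ^ (6 * k + 4) * ((g * n) ^ 2 - 1) := by
    have h5 : n * (q + 1) - 2 * (t * e) ∣ g * n * (q + 1) - c * (e + e) := ⟨g, by rw [h3]; ring⟩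
    have h6 := (h5.mul_right (q ^ 2 * (g * n * (q + 1) + c * (e + e)))).sub
      ((h5.trans hd).mul_left ((g * n) ^ 2))
    refine h6.trans (dvd_of_eq ?_)
    rw [show (2 : ℤ) ^ (6 * k + 4) = 16 * c ^ 6 by rw [hc]; ring, hq]
    linear_combination (-16 * c ^ 6) * he
  have h5 := le_of_odd (Odd.sub_even (hn.mul (by rw [hq]; exact odd_two_mul_add_one _))
    (even_two_mul _)) h4 (by nlinarith)
  have h6 : e ≤ 1 := by nlinarith
  have h7 : t ≤ c := by rw [h3]; nlinarith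
  nlinarith

theorem eq_zero {k : ℕ} {c q m e : ℤ} (hc : c = 2 ^ k) (hq : q = 2 * c ^ 2)
    (he : e ^ 2 = 1) (h0 : 0 ≤ m) (hm : m < c) (hd : m * (q + 1) - c * e ∣ q ^ 2 * (q ^ 2 + 1)) :
    m = 0 := by
  by_contra h1
  obtain ⟨g, n, t, hg, ht, hn, hn0, rfl, h3⟩ := split (m := m) (i := k) (by omega) (hc ▸ hm)
  rw [← hc] at h3
  have h4 : n * (q + 1) - 2 * (t * e) ∣ 2 ^ (6 * k + 2) * (4 * (g * n) ^ 2 - 1) := by
    have h5 : n * (q + 1) - 2 * (t * e) ∣ g * n * (q + 1) - c * e := ⟨g, by rw [h3]; ring⟩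
    have h6 := (h5.mul_right (q ^ 2 * (g * n * (q + 1) + c * e))).sub
      ((h5.trans hd).mul_left ((g * n) ^ 2))
    refine h6.trans (dvd_of_eq ?_)
    rw [show (2 : ℤ) ^ (6 * k + 2) = 4 * c ^ 6 by rw [hc]; ring, hq]
    linear_combination (-4 * c ^ 6) * he
  have h5 := le_of_odd (Odd.sub_even (hn.mul (by rw [hq]; exact odd_two_mul_add_one _))
    (even_two_mul _)) h4 (by have := sq_pos_of_ne_zero h1; omega)
  have h6 : e ≤ 1 := by nlinarith
  have h7 : t * e ≤ t := by nlinarith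
  obtain rfl | h8 : n = 1 ∨ 3 ≤ n := by obtain ⟨l, rfl⟩ := hn; omega
  · subst h3 hq
    nlinarith [mul_pos hg ht, mul_pos hg hg, mul_pos ht ht]
  · have h9 : 2 * t ≤ c := by rw [h3]; nlinarith
    have h10 : (g * n) ^ 2 < c ^ 2 := by nlinarith
    nlinarith

theorem sq_eq_one_iff_of_ne_zero' {e : ℤ} : e ^ 2 = 1 ↔ e = 1 ∨ e = -1 := sq_eq_one_iff

set_option maxHeartbeats 800000 in
theorem main {ι : Type*} (C : Finset ι) (m x y : ι → ℤ) {k : ℕ} {c q : ℤ} (hk : 1 ≤ k)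
    (hc : c = 2 ^ k) (hq : q = 2 * c ^ 2) (hC : c ^ 2 + 2 ≤ C.card) (h0 : ∀ i, 0 ≤ m i)
    (hmm : ∑ i ∈ C, m i ^ 2 = c ^ 2) (hx : ∑ i ∈ C, x i ^ 2 = c ^ 2 + 1)
    (hy : ∑ i ∈ C, y i ^ 2 = c ^ 2 + 1) (hxy : ∑ i ∈ C, (x i - y i) ^ 2 = 2)
    (hmx : ∑ i ∈ C, m i * x i = c) (hmy : ∑ i ∈ C, m i * y i = c) (D : ι → ℤ)
    (hD : ∀ i, D i = m i * (q + 1) - c * (x i + y i)) (hD0 : ∀ i, 0 ≤ D i)
    (hd : ∀ i ∈ C, D i ∣ q ^ 2 * (q ^ 2 + 1)) :
    (∀ i ∈ C, D i = c ∨ D i = q + 1 + 2 * c ∨ D i = q + 1 - 2 * c) ∧ (∃ i ∈ C, D i = c) ∧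
      (∃ i ∈ C, D i = q + 1 + 2 * c) ∧ ∃ i ∈ C, D i = q + 1 - 2 * c := by
  classical
  have hc2 : 2 ≤ c := hc ▸ by simpa using pow_le_pow_right₀ (one_le_two (α := ℤ)) hk
  have h1 : ∀ i ∈ C, 0 ≤ x i ^ 2 + y i ^ 2 + (x i - y i) ^ 2 - 2 := fun i hi => by
    by_cases e : x i = y i
    · have : x i ≠ 0 := fun e' => by
        have h2 := hd i hi
        rw [hD, ← e, e', add_zero, mul_zero, sub_zero] at h2
        have h3 : q + 1 ∣ 2 := by
          have := ((dvd_mul_left _ _).trans h2).sub (dvd_mul_right (q + 1) (q ^ 3 - q ^ 2 + 2 * q - 2))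
          exact this.trans (dvd_of_eq (by ring))
        have := Int.le_of_dvd two_pos h3
        nlinarith
      have := sq_pos_of_ne_zero this
      rw [← e]; nlinarith
    · have h2 := sq_pos_of_ne_zero (sub_ne_zero.2 e)
      have h3 : 0 < x i ^ 2 + y i ^ 2 := by nlinarith
      omega
  have h2 : ∑ i ∈ C, (x i ^ 2 + y i ^ 2 + (x i - y i) ^ 2 - 2) = 2 * (c ^ 2 + 2) - 2 * C.card := by
    simp only [sum_sub_distrib, sum_add_distrib, hx, hy, hxy, sum_const, nsmul_eq_mul]; ring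
  have h3 := sum_nonneg h1
  have hC' : (C.card : ℤ) = c ^ 2 + 2 := by omega
  have h4 := (sum_eq_zero_iff_of_nonneg h1).1 (by omega)
  have h5 : ∀ i ∈ C, m i ^ 2 ≤ c ^ 2 := fun i hi =>
    hmm ▸ single_le_sum (f := fun i => m i ^ 2) (fun _ _ => sq_nonneg _) hi
  have h6 : ∀ i ∈ C, (x i = y i ∧ x i ^ 2 = 1 ∧ m i ≤ 1) ∨
      ((x i - y i) ^ 2 = 1 ∧ (x i + y i) ^ 2 = 1 ∧ m i = 0) := fun i hi => by
    have h7 := h4 i hi
    have h8 : m i ≤ c := by nlinarith [h5 i hi, h0 i]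
    by_cases e : x i = y i
    · have h9 : x i ^ 2 = 1 := by rw [← e] at h7; nlinarith
      exact .inl ⟨e, h9, le_one hk hc hq h9 h8 (by simpa only [hD, ← e] using hd i hi)⟩
    · have h9 := sq_pos_of_ne_zero (sub_ne_zero.2 e)
      have h10 : 0 < x i ^ 2 + y i ^ 2 := by nlinarith
      have h11 : (x i + y i) ^ 2 = 1 := by nlinarith
      refine .inr ⟨by omega, h11, eq_zero hc hq h11 (h0 i) (h8.lt_of_ne fun e' => e ?_)
        (hD i ▸ hd i hi)⟩
      have h12 : ∀ j ∈ C, j ≠ i → m j = 0 := fun j hj hji => by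
        have := add_le_sum (f := fun i => m i ^ 2) (fun _ _ => sq_nonneg _) hi hj hji.symm
        simp only [hmm, e'] at this
        nlinarith
      rw [sum_eq_single_of_mem i hi fun j hj hji => by rw [h12 j hj hji, zero_mul], e'] at hmx hmy
      nlinarith
  have h7 := (sum_eq_zero_iff_of_nonneg (s := C) (f := fun i => 1 - (x i - y i) ^ 2 - m i ^ 2)
    fun i hi => by rcases h6 i hi with ⟨a, -, b⟩ | ⟨a, -, b⟩ <;> nlinarith [h0 i]).1 (by
      simp only [sum_sub_distrib, hxy, hmm, sum_const, nsmul_eq_mul, hC']; ring)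
  have h8 : ∀ i ∈ C, (D i = c ∧ m i = 0) ∨ (x i = y i ∧ m i = 1 ∧
      ((D i = q + 1 + 2 * c ∧ x i = -1) ∨ (D i = q + 1 - 2 * c ∧ x i = 1))) := fun i hi => by
    have h9 := h7 i hi
    rcases h6 i hi with ⟨a, b, -⟩ | ⟨-, a, b⟩
    · have h10 : m i = 1 := by rw [a] at h9; nlinarith [h0 i]
      refine .inr ⟨a, h10, ?_⟩
      rw [hD, ← a, h10]
      rcases sq_eq_one_iff_of_ne_zero'.1 b with e | e <;> rw [e]
      · exact .inr ⟨by ring, rfl⟩
      · exact .inl ⟨by ring, rfl⟩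
    · have h10 := hD0 i
      rw [hD, b] at h10 ⊢
      rcases sq_eq_one_iff_of_ne_zero'.1 a with e | e <;> rw [e] at h10 ⊢
      · omega
      · exact .inl ⟨by ring, rfl⟩
  refine ⟨fun i hi => by rcases h8 i hi with h | ⟨-, -, h | h⟩ <;> simp [h.1], ?_, ?_, ?_⟩ <;>
    by_contra! h
  · rw [sum_eq_zero fun i hi => by
      rcases h8 i hi with e | e
      exacts [absurd e.1 (h i hi), by rw [e.1]; ring]] at hxy
    omega
  · rw [sum_congr rfl (g := fun i => m i ^ 2) fun i hi => by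
      rcases h8 i hi with e | ⟨-, e, e' | e'⟩
      exacts [by rw [e.2]; ring, absurd e'.1 (h i hi), by rw [e, e'.2]; ring], hmm] at hmx
    nlinarith
  · have := sum_nonpos (s := C) (f := fun i => m i * x i) fun i hi => by
      rcases h8 i hi with e | ⟨-, e, e' | e'⟩
      exacts [by rw [e.2]; omega, by rw [e, e'.2]; omega, absurd e'.1 (h i hi)]
    omega

theorem sum_sq_sub {ι : Type*} (s : Finset ι) (c : ℤ) (x y : ι → ℤ) :
    ∑ i ∈ s, (c * x i - y i) ^ 2 =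
      c ^ 2 * ∑ i ∈ s, x i * x i - 2 * c * ∑ i ∈ s, x i * y i + ∑ i ∈ s, y i * y i := by
  simp only [mul_sum, ← sum_sub_distrib, ← sum_add_distrib]
  exact sum_congr rfl fun _ _ => by ring

theorem sum_sq_sub' {ι : Type*} (s : Finset ι) (z x y : ι → ℤ) :
    ∑ i ∈ s, (z i - x i - (z i - y i)) ^ 2 =
      ∑ i ∈ s, x i * x i - 2 * ∑ i ∈ s, x i * y i + ∑ i ∈ s, y i * y i := by
  simp only [mul_sum, ← sum_sub_distrib, ← sum_add_distrib]
  exact sum_congr rfl fun _ _ => by ring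

end SzArith

variable {G : Type u} [Group G] [Finite G] {U : Type v} [Group U] [Finite U]

namespace RankOne

variable {f : U →* G} {B : Subgroup G} {w : G} (h : RankOne f B w)

theorem ipNat_regChar (ψ : IrrCharacter U) : ipNat (regChar U) ψ.1 = charDegree ψ.1 :=
  ipNat_eq_of_ip_eq (by rw [ip_regChar_left, ψ.apply_one, map_natCast])

theorem mult_eq_of_ps (hps : ∀ θ : B →* ℂˣ, h.IsPS θ → θ ≠ 1 →
      ∃ t t' : B, (t' : G) = w⁻¹ * t * w ∧ θ t' ≠ θ t) {χ : IrrCharacter G}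
    (h1 : χ ≠ IrrCharacter.one G) (h2 : mult f χ (IrrCharacter.one U) ≠ 0) {ψ : IrrCharacter U}
    (hψ : ψ ≠ IrrCharacter.one U) : mult f χ ψ = charDegree ψ.1 := by
  obtain ⟨θ, hθ, h3⟩ := h.exists_isPS h2
  rw [← ipNat_ind_left _ _ χ.isClassFunction] at h3
  by_cases e : θ = 1
  · subst e
    obtain ⟨σ, hσ⟩ := h.exists_steinberg
    have h4 : mult f σ (IrrCharacter.one U) ≠ 0 := by
      rw [mult, hσ, ipNat_regChar, IrrCharacter.charDegree_one]; exact one_ne_zero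
    have h5 := h.ind_one_eq h4 (charDegree_eq_of_apply_one (by
      simpa using congrFun hσ 1))
    rw [show (fun b => ((1 : B →* ℂˣ) b : ℂ)) = fun _ => 1 from rfl, h5,
      σ.isCharacter.ipNat_add_left (IrrCharacter.isCharacter _) χ.isCharacter,
      IrrCharacter.ipNat_of_ne h1.symm, add_zero] at h3
    obtain rfl : σ = χ := by_contra fun e => h3 (IrrCharacter.ipNat_of_ne e)
    rw [mult, hσ, ipNat_regChar]
  · obtain ⟨t, t', ht, hne⟩ := hps θ hθ e
    have e' : ind B.subtype (fun b => (θ b : ℂ)) = χ.1 := by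
      by_contra e
      exact h3 (IrrCharacter.ipNat_of_ne (χ := ⟨_, h.isIrr_ind ht hne⟩) (ψ := χ)
        fun e' => e (congrArg Subtype.val e'))
    rw [mult, ← e', h.ind_comp (isCharacter_linear θ).isClassFunction, hθ.comp, map_one, Units.val_one,
      one_smul, (IrrCharacter.isCharacter _).ipNat_add_left regChar_isCharacter ψ.isCharacter,
      IrrCharacter.ipNat_of_ne hψ.symm, zero_add, ipNat_regChar]

theorem one_notMem_conjOrbit' {ψ : IrrCharacter U} (hψ : ψ ≠ IrrCharacter.one U) :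
    IrrCharacter.one U ∉ conjOrbit h.j ψ := fun hm => by
  have := self_mem_conjOrbit h.j ψ
  rw [← conjOrbit_eq_of_mem hm, conjOrbit_eq_singleton (inertia_one _)] at this
  exact hψ (Finset.mem_singleton.1 this)

theorem disjoint_conjOrbit {ψ ψ' : IrrCharacter U} (hψ : ψ' ∉ conjOrbit h.j ψ) :
    Disjoint (conjOrbit h.j ψ) (conjOrbit h.j ψ') :=
  disjoint_left.2 fun _ a b => hψ (by
    rw [← conjOrbit_eq_of_mem a, conjOrbit_eq_of_mem b]; exact self_mem_conjOrbit _ _)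

/-- Three regular orbits. -/
theorem exists_three {s : ℕ} (hs : 0 < s)
    (ho : ∀ ψ, ψ ≠ IrrCharacter.one U → (conjOrbit h.j ψ).card = s)
    (hk : Nat.card (ConjClasses U) = 3 * s + 1) {ψ : IrrCharacter U} (hψ : ψ ≠ IrrCharacter.one U) :
    ∃ φ φ' : IrrCharacter U, φ ≠ IrrCharacter.one U ∧ φ' ≠ IrrCharacter.one U ∧
      φ ∉ conjOrbit h.j ψ ∧ φ' ∉ conjOrbit h.j ψ ∧ φ' ∉ conjOrbit h.j φ ∧
      ∀ F : IrrCharacter U → ℕ, (∀ η η', η' ∈ conjOrbit h.j η → F η' = F η) →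
        ∑ η, F η = F (IrrCharacter.one U) + s * (F ψ + F φ + F φ') := by
  classical
  rw [← card_irr_eq_card_conjClasses, Nat.card_eq_fintype_card, ← Finset.card_univ] at hk
  obtain ⟨φ, -, h1⟩ := exists_mem_notMem_of_card_lt_card
    (s := insert (IrrCharacter.one U) (conjOrbit h.j ψ)) (t := univ)
    ((card_insert_le _ _).trans_lt (by rw [ho ψ hψ]; omega))
  simp only [mem_insert, not_or] at h1
  obtain ⟨φ', -, h2⟩ := exists_mem_notMem_of_card_lt_card
    (s := insert (IrrCharacter.one U) (conjOrbit h.j ψ ∪ conjOrbit h.j φ)) (t := univ)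
    ((card_insert_le _ _).trans_lt ((Nat.add_le_add_right (card_union_le _ _) 1).trans_lt
      (by rw [ho ψ hψ, ho φ h1.1]; omega)))
  simp only [mem_insert, mem_union, not_or] at h2
  refine ⟨φ, φ', h1.1, h2.1, h1.2, h2.2.1, h2.2.2, fun F hF => ?_⟩
  have d1 := h.disjoint_conjOrbit h1.2
  have d2 := disjoint_union_left.2 ⟨h.disjoint_conjOrbit h2.2.1, h.disjoint_conjOrbit h2.2.2⟩
  have d3 : IrrCharacter.one U ∉ conjOrbit h.j ψ ∪ conjOrbit h.j φ ∪ conjOrbit h.j φ' := by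
    simp [h.one_notMem_conjOrbit', hψ, h1.1, h2.1]
  have e := eq_univ_of_card (insert (IrrCharacter.one U)
    (conjOrbit h.j ψ ∪ conjOrbit h.j φ ∪ conjOrbit h.j φ')) (by
      rw [card_insert_of_notMem d3, card_union_of_disjoint d2, card_union_of_disjoint d1,
        ho ψ hψ, ho φ h1.1, ho φ' h2.1, ← Finset.card_univ, hk]; ring)
  have key : ∀ η, η ≠ IrrCharacter.one U → ∑ η' ∈ conjOrbit h.j η, F η' = s * F η := fun η hη => by
    rw [sum_congr rfl (hF η), sum_const, ho η hη, smul_eq_mul]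
  rw [← e, sum_insert d3, sum_union d2, sum_union d1, key ψ hψ, key φ h1.1, key φ' h2.1]
  ring

/-- The local structure of the Suzuki group over the field with `2 c ^ 2` elements. -/
structure IsSz (k s : ℕ) : Prop where
  one_le : 1 ≤ k
  s_eq : s + 1 = 2 * (2 ^ k) ^ 2
  cardU : Nat.card U = (s + 1) ^ 2
  index : h.j.range.index = s
  frob : ∀ n : U, n ≠ 1 → centralizer ({h.j n} : Set B) ≤ h.j.range
  kU : Nat.card (ConjClasses U) = 3 * s + 1
  lin : ∃ ψ : IrrCharacter U, ψ ≠ IrrCharacter.one U ∧ charDegree ψ.1 = 1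
  ps : ∀ θ : B →* ℂˣ, h.IsPS θ → θ ≠ 1 → ∃ t t' : B, (t' : G) = w⁻¹ * t * w ∧ θ t' ≠ θ t
  kG : s + 4 ≤ Nat.card (ConjClasses G)

variable {h} in
set_option maxHeartbeats 800000 in
theorem IsSz.degrees {k s : ℕ} (z : h.IsSz k s) :
    (∀ d ∈ charDegrees G, d = 1 ∨ d = (s + 1) ^ 2 ∨ d = (s + 1) ^ 2 + 1 ∨ d = s * 2 ^ k ∨
      d = s * (s + 2 + 2 * 2 ^ k) ∨ d = s * (s + 2 - 2 * 2 ^ k)) ∧
    (s + 1) ^ 2 ∈ charDegrees G ∧ (s + 1) ^ 2 + 1 ∈ charDegrees G ∧ s * 2 ^ k ∈ charDegrees G ∧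
      s * (s + 2 + 2 * 2 ^ k) ∈ charDegrees G ∧ s * (s + 2 - 2 * 2 ^ k) ∈ charDegrees G := by
  classical
  have hc2 : 2 ≤ 2 ^ k := by simpa using pow_le_pow_right₀ (one_le_two (α := ℕ)) z.one_le
  have hs := z.s_eq
  obtain ⟨c, hc⟩ : ∃ c : ℕ, c = 2 ^ k := ⟨_, rfl⟩
  rw [← hc] at hs hc2 ⊢
  have hs0 : 0 < s := by nlinarith
  have hI : ∀ ψ, ψ ≠ IrrCharacter.one U → inertia h.j ψ = h.j.range := fun _ =>
    frobenius_inertia_eq z.frob
  have ho : ∀ ψ, ψ ≠ IrrCharacter.one U → (conjOrbit h.j ψ).card = s := fun ψ hψ => by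
    rw [card_conjOrbit, hI ψ hψ, z.index]
  obtain ⟨ψ, hψ, dψ⟩ := z.lin
  obtain ⟨φ, φ', hφ, hφ', n1, n2, n3, hsum⟩ := h.exists_three hs0 ho z.kU hψ
  have h1 := hsum (fun η => charDegree η.1 ^ 2) fun η η' e => by
    simp only [charDegree_of_mem_conjOrbit e]
  simp only [sum_charDegree_sq, z.cardU, IrrCharacter.charDegree_one, dψ] at h1
  have h2 : charDegree φ.1 ^ 2 + charDegree φ'.1 ^ 2 = 2 * c ^ 2 :=
    Nat.eq_of_mul_eq_mul_left hs0 (by rw [← hs]; nlinarith)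
  have dφ : charDegree φ.1 = c := hc ▸ SzArith.eq_of_sq_add_sq k _ _ (hc ▸ h2)
  have dφ' : charDegree φ'.1 = c :=
    hc ▸ SzArith.eq_of_sq_add_sq k _ _ (hc ▸ (add_comm _ _).trans h2)
  have hdeg : ∀ χ : IrrCharacter G, charDegree χ.1 = mult f χ (IrrCharacter.one U) +
      s * (mult f χ ψ + c * (mult f χ φ + mult f χ φ')) := fun χ => by
    rw [charDegree_eq_sum_mult f, hsum _ fun η η' e => by
      simp only [charDegree_of_mem_conjOrbit e, h.mult_of_mem_conjOrbit χ e]]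
    simp only [IrrCharacter.charDegree_one, dψ, dφ, dφ']
    ring
  have S1 : ∀ η, η ≠ IrrCharacter.one U → ∑ χ : IrrCharacter G, (mult f χ η : ℤ) * mult f χ η =
      1 + s * charDegree η.1 * charDegree η.1 := fun η hη => by
    have := h.sum_mult_mul_mult η η
    rw [ipNat_eq_of_ip_eq (ip_ind_ind_self h.j η), hI η hη, relIndex_self, z.index] at this
    exact_mod_cast this
  have S2 : ∀ η η', η' ∉ conjOrbit h.j η → ∑ χ : IrrCharacter G, (mult f χ η : ℤ) * mult f χ η' =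
      s * charDegree η.1 * charDegree η'.1 := fun η η' hη => by
    have := h.sum_mult_mul_mult η η'
    rw [ipNat_eq_of_ip_eq (n := 0) (by rw [ip_ind_ind_of_notMem hη, Nat.cast_zero]), zero_add,
      z.index] at this
    exact_mod_cast this
  have S3 : ∑ χ : IrrCharacter G, (mult f χ (IrrCharacter.one U) : ℤ) *
      mult f χ (IrrCharacter.one U) = s + s := by
    have := h.sum_mult_mul_mult (IrrCharacter.one U) (IrrCharacter.one U)
    rw [ipNat_eq_of_ip_eq (ip_ind_ind_self h.j _), inertia_one, relIndex_top_right, z.index,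
      IrrCharacter.charDegree_one, mul_one, mul_one] at this
    exact_mod_cast this
  have S4 := S2 ψ _ (h.one_notMem_conjOrbit' hψ)
  have S5 := S1 ψ hψ
  have S6 := S1 φ hφ
  have S7 := S1 φ' hφ'
  have S8 := S2 _ _ n1
  have S9 := S2 _ _ n2
  have S10 := S2 _ _ n3
  simp only [IrrCharacter.charDegree_one, dψ, dφ, dφ', Nat.cast_one, mul_one] at S4 S5 S6 S7 S8 S9 S10
  set a : IrrCharacter G → ℕ := fun χ => mult f χ (IrrCharacter.one U) with ha
  set C := univ.filter fun χ => a χ = 0 with hC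
  set P := (univ.filter fun χ => ¬ a χ = 0).erase (IrrCharacter.one G) with hP
  have a1 : a (IrrCharacter.one G) = 1 := mult_one_one f
  have split : ∀ F : IrrCharacter G → ℤ,
      ∑ χ, F χ = F (IrrCharacter.one G) + ∑ χ ∈ P, F χ + ∑ χ ∈ C, F χ := fun F => by
    rw [add_sum_erase _ _ (by simp [a1]), add_comm, sum_filter_add_sum_filter_not]
  have hPm : ∀ χ ∈ P, mult f χ ψ = 1 ∧ mult f χ φ = c ∧ mult f χ φ' = c ∧
      (a χ = 1 ∨ a χ = 2) := fun χ hχ => by
    simp only [hP, mem_erase, mem_filter, mem_univ, true_and] at hχ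
    have := h.mult_one_le χ
    exact ⟨dψ ▸ h.mult_eq_of_ps z.ps hχ.1 hχ.2 hψ, dφ ▸ h.mult_eq_of_ps z.ps hχ.1 hχ.2 hφ,
      dφ' ▸ h.mult_eq_of_ps z.ps hχ.1 hχ.2 hφ', by simp only [ha] at hχ ⊢; omega⟩
  have hCa : ∀ χ ∈ C, a χ = 0 := fun χ hχ => (mem_filter.1 hχ).2
  have m1 := mult_one_of_ne f hψ
  have m2 := mult_one_of_ne f hφ
  have m3 := mult_one_of_ne f hφ'
  have T : ∀ F : IrrCharacter G → ℤ, F (IrrCharacter.one G) = 0 → (∀ χ ∈ P, F χ = 0) →
      ∑ χ ∈ C, F χ = ∑ χ, F χ := fun F e1 e2 => by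
    rw [split, e1, sum_eq_zero e2, zero_add, zero_add]
  have hs' : (s : ℤ) = 2 * c ^ 2 - 1 := by
    rw [eq_sub_iff_add_eq]; exact_mod_cast hs
  have N1 : ∑ χ ∈ P, (a χ : ℤ) = s := by
    rw [split, m1, sum_eq_zero (s := C) fun χ hχ => by
      rw [show mult f χ (IrrCharacter.one U) = 0 from hCa χ hχ]; simp,
      sum_congr rfl (g := fun χ => (a χ : ℤ)) fun χ hχ => by rw [(hPm χ hχ).1]; simp [ha]] at S4
    simpa using S4
  have N2 : (P.card : ℤ) = c ^ 2 := by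
    rw [split, sum_eq_zero (s := C) fun χ hχ => by
      rw [show mult f χ (IrrCharacter.one U) = 0 from hCa χ hχ]; simp,
      sum_congr rfl (g := fun χ => 3 * (a χ : ℤ) - 2) fun χ hχ => by
        change (a χ : ℤ) * a χ = _
        rcases (hPm χ hχ).2.2.2 with e | e <;> rw [e] <;> norm_num,
      sum_sub_distrib, ← mul_sum, N1, mult_one_one] at S3
    simp only [sum_const, nsmul_eq_mul] at S3
    push_cast at S3
    linarith
  have N3 : (c : ℤ) ^ 2 + 2 ≤ C.card := by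
    have h3 := split fun _ => 1
    have h4 := z.kG
    rw [← card_irr_eq_card_conjClasses, Nat.card_eq_fintype_card] at h4
    simp only [sum_const, nsmul_eq_mul, mul_one, N2, Finset.card_univ] at h3
    omega
  have hG := h.card_eq
  rw [z.index, z.cardU] at hG
  obtain ⟨r1, ⟨χ1, c1, r2⟩, ⟨χ2, c2, r3⟩, ⟨χ3, c3, r4⟩⟩ := SzArith.main C (fun χ => mult f χ ψ)
    (fun χ => c * mult f χ ψ - mult f χ φ) (fun χ => c * mult f χ ψ - mult f χ φ') (q := s + 1)
    z.one_le (by exact_mod_cast hc) (by exact_mod_cast hs) N3 (fun _ => by positivity)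
    (by
      rw [split, m1, sum_congr rfl (g := fun _ => 1) fun χ hχ => by rw [(hPm χ hχ).1]; simp] at S5
      simp only [sum_const, nsmul_eq_mul, N2, ← sq] at S5
      push_cast at S5
      linarith)
    (by
      rw [T _ (by simp [m1, m2]) fun χ hχ => by simp [hPm χ hχ], SzArith.sum_sq_sub, S5, S6, S8]
      ring)
    (by
      rw [T _ (by simp [m1, m3]) fun χ hχ => by simp [hPm χ hχ], SzArith.sum_sq_sub, S5, S7, S9]
      ring)
    (by
      rw [T _ (by simp [m2, m3]) fun χ hχ => by simp [hPm χ hχ], SzArith.sum_sq_sub', S6, S7, S10]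
      ring)
    (by
      rw [T _ (by simp [m1]) fun χ hχ => by simp [hPm χ hχ]]
      simp only [mul_sub, sum_sub_distrib, mul_left_comm _ (c : ℤ), ← mul_sum, S5, S8]
      ring)
    (by
      rw [T _ (by simp [m1]) fun χ hχ => by simp [hPm χ hχ]]
      simp only [mul_sub, sum_sub_distrib, mul_left_comm _ (c : ℤ), ← mul_sum, S5, S9]
      ring)
    (fun χ => (mult f χ ψ + c * (mult f χ φ + mult f χ φ') : ℕ))
    (fun χ => by push_cast; rw [hs']; ring) (fun _ => by positivity) fun χ hχ => by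
      have h3 := χ.charDegree_dvd_card
      rw [hdeg, show mult f χ (IrrCharacter.one U) = 0 from hCa χ hχ, zero_add, hG, mul_comm _ s,
        Nat.mul_dvd_mul_iff_left hs0, mul_comm (_ + 1)] at h3
      exact_mod_cast h3
  have hCd : ∀ χ ∈ C, charDegree χ.1 = s * (mult f χ ψ + c * (mult f χ φ + mult f χ φ')) :=
    fun χ hχ => by rw [hdeg, show mult f χ (IrrCharacter.one U) = 0 from hCa χ hχ, zero_add]
  have hPd : ∀ χ ∈ P, charDegree χ.1 + 1 = a χ + (s + 1) ^ 2 := fun χ hχ => by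
    rw [hdeg, (hPm χ hχ).1, (hPm χ hχ).2.1, (hPm χ hχ).2.2.1]
    simp only [ha]
    nlinarith
  have hle : 2 * c ≤ s + 2 := by nlinarith
  refine ⟨?_, ?_, ?_, ⟨χ1, by rw [hCd _ c1]; congr 1; omega⟩, ⟨χ2, by rw [hCd _ c2]; congr 1; omega⟩,
    ⟨χ3, by rw [hCd _ c3]; congr 1; omega⟩⟩
  · rintro _ ⟨χ, rfl⟩
    by_cases e1 : χ = IrrCharacter.one G
    · exact .inl (e1 ▸ IrrCharacter.charDegree_one)
    by_cases e2 : a χ = 0
    · have e3 : χ ∈ C := by simp [hC, e2]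
      rw [hCd χ e3]
      rcases r1 χ e3 with e | e | e
      · exact .inr (.inr (.inr (.inl (by congr 1; omega))))
      · exact .inr (.inr (.inr (.inr (.inl (by congr 1; omega)))))
      · exact .inr (.inr (.inr (.inr (.inr (by congr 1; omega)))))
    · have e3 : χ ∈ P := by simp [hP, e1, e2]
      have := hPd χ e3
      have := (hPm χ e3).2.2.2
      omega
  · obtain ⟨σ, hσ⟩ := h.exists_steinberg
    exact ⟨σ, charDegree_eq_of_apply_one (by simpa [z.cardU] using congrFun hσ 1)⟩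
  · by_contra e
    rw [sum_congr rfl (g := fun _ => 1) fun χ hχ => by
      rcases (hPm χ hχ).2.2.2 with e' | e'
      · simp [e']
      · exact absurd ⟨χ, by have := hPd χ hχ; omega⟩ e] at N1
    simp only [sum_const, nsmul_eq_mul, N2, hs'] at N1
    have : (2 : ℤ) ≤ c := by exact_mod_cast hc2
    nlinarith

end RankOne

end Cfsg

set_option linter.all false in
theorem Cfsg.Rz.Char_RankOneSz_0 : True := by
  have := @_root_.Cfsg.RankOne.IsSz.mk.congr_simp.{0, 0}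
  have := @_root_.Cfsg.RankOne.IsSz.congr_simp.{0, 0}
  trivial
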