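import Cfsg.Agent.Char.Sixty
import Cfsg.Agent.Char.Blichfeldt
import Cfsg.Agent.Mod.Brauer
import Mathlib.LinearAlgebra.Matrix.Charpoly.FiniteField

/-!
# Linear groups: elements with close or with distinct eigenvalues; Brauer lift of `F_p`-modules
-/

set_option autoImplicit false
set_option linter.unusedSectionVars false

namespace Cfsg

open scoped ComplexConjugate Matrix commutatorElement
open Subgroup

universe u

variable {G : Type u} [Group G] [Finite G]

open scoped Matrix.Norms.L2Operator in
/-- If all eigenvalues of `s` are less than sixty degrees apart, `s` commutes with its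
conjugates. -/
theorem IsCharacter.commute_conj_of_close {χ : G → ℂ} (hχ : IsCharacter G χ)
    (hf : ∀ g : G, χ g = χ 1 → g = 1) {s : G}
    {ι : Type*} [Fintype ι] {ε : ι → ℂ} (hε : ∀ i, ε i ^ orderOf s = 1)
    (hχε : ∀ k : ℕ, χ (s ^ k) = ∑ i, ε i ^ k) (h : ∀ i j, ‖ε i - ε j‖ < 1) (g : G) :
    Commute s (g⁻¹ * s * g) := by
  classical
  obtain ⟨X, hu, hX⟩ := hχ.exists_unitary
  have hun : ∀ g, X g ∈ unitary (Matrix (Fin (charDegree χ)) (Fin (charDegree χ)) ℂ) := fun g =>
    ⟨by rw [Matrix.star_eq_conjTranspose, hu, matRep_inv_mul],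
      by rw [Matrix.star_eq_conjTranspose, hu, matRep_mul_inv]⟩
  have h1 : ∀ g, ‖X g‖ ≤ 1 := fun g => by
    rcases subsingleton_or_nontrivial (Matrix (Fin (charDegree χ)) (Fin (charDegree χ)) ℂ) with
      h | h
    · rw [Subsingleton.elim (X g) 0, norm_zero]; norm_num
    · exact (CStarRing.norm_of_mem_unitary (hun g)).le
  have ho := (orderOf_pos s).ne'
  obtain ⟨b, δ, hδ, hb⟩ := rep_exists_eigenbasis (repOfMatrix X) s
  have hδε : ∀ j, ∃ i, ε i = δ j := by
    have e := roots_card_eq_of_power_sums ho hε hδ fun k => by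
      rw [← hχε, ← hX, ← trace_eq_sum_of_eigenbasis b (T := repOfMatrix X (s ^ k))
        (ε := fun i => δ i ^ k)]
      · rw [repOfMatrix_apply, Matrix.trace_toLin'_eq]
      · intro i
        rw [map_pow]
        exact pow_apply_of_apply_eq_smul (hb i) k
    intro j
    have : δ j ∈ (Finset.univ.val.map ε : Multiset ℂ) := by
      rw [e]; exact Multiset.mem_map_of_mem _ (Finset.mem_univ_val j)
    obtain ⟨i, -, hi⟩ := Multiset.mem_map.1 this
    exact ⟨i, hi⟩
  have hinj : Function.Injective X := (injective_iff_map_eq_one X).2 fun g hg =>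
    hf g (by rw [← hX, ← hX, hg, map_one])
  apply hinj
  rw [map_mul X s, map_mul X _ s]
  apply Matrix.toLin'.injective
  refine b.ext fun j => ?_
  set α := δ j with hαj
  have hα : α ^ orderOf s = 1 := hδ j
  have hα0 : α ≠ 0 := fun h => by simp [h, ho] at hα
  let u := α⁻¹ • X s
  have hXu : X s = α • u := by simp [u, smul_smul, hα0]
  have huo : u ^ orderOf s = 1 := by
    simp only [u]
    rw [smul_pow, ← map_pow, pow_orderOf_eq_one, map_one, inv_pow, hα, inv_one, one_smul]
  let π := (orderOf s : ℂ)⁻¹ • ∑ k ∈ Finset.range (orderOf s), u ^ k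
  have hfix : ∀ M, u * M = M → π * M = M := fun M hM => by
    have : ∀ k : ℕ, u ^ k * M = M := fun k => by
      induction k with
      | zero => simp
      | succ k ih => rw [pow_succ, mul_assoc, hM, ih]
    simp only [π, smul_mul_assoc, Finset.sum_mul, this, Finset.sum_const, Finset.card_range]
    rw [← Nat.cast_smul_eq_nsmul ℂ, smul_smul, inv_mul_cancel₀ (by exact_mod_cast ho), one_smul]
  have huπ : u * π = π := by
    simp only [π, mul_smul_comm, Finset.mul_sum, ← pow_succ']
    congr 1
    have := Finset.sum_range_succ' (fun k => u ^ k) (orderOf s)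
    rw [Finset.sum_range_succ, huo, pow_zero] at this
    exact (add_right_cancel this).symm
  have hππ : π * π = π := hfix π huπ
  have hαn : conj α * α = 1 := by
    rw [mul_comm, Complex.mul_conj, Complex.normSq_eq_norm_sq,
      Complex.norm_eq_one_of_pow_eq_one hα ho]
    simp
  have hsu : Star.star u * u = 1 := by
    simp only [u, star_smul, smul_mul_assoc, mul_smul_comm, smul_smul, (hun s).1]
    rw [star_inv₀, ← mul_inv, mul_comm, Complex.star_def, hαn, inv_one, one_smul]
  have hsπ : Star.star π * π = π := by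
    have e1 : Star.star u * π = π := by
      conv_lhs => rw [← huπ, ← mul_assoc, hsu, one_mul]
    have : ∀ k : ℕ, Star.star u ^ k * π = π := fun k => by
      induction k with
      | zero => simp
      | succ k ih => rw [pow_succ, mul_assoc, e1, ih]
    conv_lhs => enter [1]; simp only [π]
    simp only [star_smul, star_sum, star_pow, smul_mul_assoc, Finset.sum_mul, this,
      Finset.sum_const, Finset.card_range]
    rw [← Nat.cast_smul_eq_nsmul ℂ, smul_smul, star_inv₀, star_natCast,
      inv_mul_cancel₀ (by exact_mod_cast ho), one_smul]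
  have hproj : IsStarProjection π := ⟨hππ, by
    have := congrArg Star.star hsπ
    rw [star_mul, star_star, hsπ] at this
    exact this.symm⟩
  have hXπ : X s * π = α • π := by rw [hXu, smul_mul_assoc, huπ]
  have hcomm : X (g⁻¹ * s * g) * π = π * X (g⁻¹ * s * g) := by
    refine sixty_abstract (φ := X) hu h1 (c := α • 1) (fun x => by simp) ?_ hproj
      (by simp [hXπ]) (fun a ha => ?_) g
    · exact l2_norm_sub_lt_of_eigen (r := 1) _ (hun _).1 b δ hb α one_pos fun j' => by
        obtain ⟨i, hi⟩ := hδε j'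
        obtain ⟨i', hi'⟩ := hδε j
        rw [← hi, hαj, ← hi']
        exact h i i'
    · have : Commute a u := by
        simp only [u]
        exact (show Commute a (X s) from ha).smul_right _
      simp only [π]
      exact ((Commute.sum_right _ _ _ fun k _ => this.pow_right k).smul_right _).eq
  have hbj : X s *ᵥ b j = α • b j := hb j
  have hπb : π *ᵥ b j = b j := by
    have h2 : u *ᵥ b j = b j := by
      simp only [u]
      rw [Matrix.smul_mulVec, hbj, smul_smul, inv_mul_cancel₀ hα0, one_smul]
    have : ∀ k : ℕ, (u ^ k) *ᵥ b j = b j := fun k => by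
      induction k with
      | zero => simp
      | succ k ih => rw [pow_succ, ← Matrix.mulVec_mulVec, h2, ih]
    simp only [π, Matrix.smul_mulVec, Matrix.sum_mulVec, this, Finset.sum_const, Finset.card_range]
    rw [← Nat.cast_smul_eq_nsmul ℂ, smul_smul, inv_mul_cancel₀ (by exact_mod_cast ho), one_smul]
  rw [Matrix.toLin'_apply, Matrix.toLin'_apply, ← Matrix.mulVec_mulVec, ← Matrix.mulVec_mulVec,
    hbj, Matrix.mulVec_smul]
  conv_lhs => rw [← hπb, Matrix.mulVec_mulVec, Matrix.mulVec_mulVec, mul_assoc, hcomm,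
    ← mul_assoc, hXπ, smul_mul_assoc, ← hcomm, Matrix.smul_mulVec, ← Matrix.mulVec_mulVec, hπb]

/-- The centralizer of an element with distinct eigenvalues is abelian. -/
theorem IsCharacter.comm_centralizer_of_injective {χ : G → ℂ} (hχ : IsCharacter G χ)
    (hf : ∀ g : G, χ g = χ 1 → g = 1) {s : G}
    {ι : Type*} [Fintype ι] {ε : ι → ℂ} (hε : ∀ i, ε i ^ orderOf s = 1)
    (hχε : ∀ k : ℕ, χ (s ^ k) = ∑ i, ε i ^ k) (h : Function.Injective ε) :
    IsMulCommutative (centralizer ({s} : Set G)) := by
  classical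
  obtain ⟨n, ρ, rfl⟩ := hχ
  obtain ⟨b, δ, hδ, hb⟩ := rep_exists_eigenbasis ρ s
  have e := roots_card_eq_of_power_sums (orderOf_pos s).ne' hε hδ fun k => by
    rw [← hχε, ← trace_eq_sum_of_eigenbasis b (T := ρ (s ^ k)) (ε := fun i => δ i ^ k)]
    · rfl
    · intro i
      rw [map_pow]
      exact pow_apply_of_apply_eq_smul (hb i) k
  have hδi : Function.Injective δ := by
    have h1 : (Finset.univ.val.map δ : Multiset ℂ).Nodup :=
      e ▸ Multiset.Nodup.map h Finset.univ.nodup
    intro i j hij
    exact (Multiset.nodup_map_iff_inj_on Finset.univ.nodup).mp h1 i (Finset.mem_univ_val i) j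
      (Finset.mem_univ_val j) hij
  have key : ∀ a : G, a * s = s * a → ∀ j, ρ a (b j) = b.repr (ρ a (b j)) j • b j := by
    intro a ha j
    have h1 : ρ s (ρ a (b j)) = δ j • ρ a (b j) := by
      rw [← Module.End.mul_apply, ← map_mul, ← ha, map_mul, Module.End.mul_apply, hb, map_smul]
    conv_lhs => rw [← b.sum_repr (ρ a (b j))]
    refine Finset.sum_eq_single j (fun i _ hij => ?_) (fun h => absurd (Finset.mem_univ j) h)
    have h2 := congrArg (fun v => b.repr v i) h1
    conv_lhs at h2 => rw [← b.sum_repr (ρ a (b j))]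
    simp only [map_sum, map_smul, hb, smul_smul, Module.Basis.repr_self, Finsupp.coe_finsetSum,
      Finsupp.coe_smul, Finset.sum_apply, Pi.smul_apply, smul_eq_mul, Finsupp.single_apply,
      mul_ite, mul_one, mul_zero, Finset.sum_ite_eq', Finset.mem_univ, if_true] at h2
    have h3 : b.repr (ρ a (b j)) i * (δ i - δ j) = 0 := by linear_combination h2
    rw [(mul_eq_zero.mp h3).resolve_right (sub_ne_zero.mpr (hδi.ne hij)), zero_smul]
  refine isMulCommutative_iff_forall.mpr fun x hx y hy => ?_
  rw [mem_centralizer_singleton_iff] at hx hy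
  have h1 : ρ (x * y) = ρ (y * x) := b.ext fun j => by
    rw [map_mul, map_mul, Module.End.mul_apply, Module.End.mul_apply, key y hy j, map_smul,
      key x hx j, map_smul, key y hy j]
    simp only [smul_smul, map_smul, Module.Basis.repr_self, Finsupp.smul_single, smul_eq_mul,
      mul_one, one_mul, Finsupp.single_eq_same, mul_comm]
  rw [← mul_inv_eq_one]
  apply hf
  rw [← rep_eq_one_iff_character, map_mul, h1, ← map_mul, mul_inv_cancel, map_one]

/-- An element with distinct eigenvalues has at most `n!` conjugates commuting with it. -/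
theorem IsCharacter.card_conj_le {χ : G → ℂ} (hχ : IsCharacter G χ)
    (hf : ∀ g : G, χ g = χ 1 → g = 1) {s : G}
    {ι : Type*} [Fintype ι] {ε : ι → ℂ} (hε : ∀ i, ε i ^ orderOf s = 1)
    (hχε : ∀ k : ℕ, χ (s ^ k) = ∑ i, ε i ^ k) (h : Function.Injective ε) :
    Nat.card {z : G // IsConj s z ∧ z ∈ centralizer ({s} : Set G)} ≤ (Fintype.card ι).factorial := by
  classical
  have := hχ.comm_centralizer_of_injective hf hε hχε h
  set C := centralizer ({s} : Set G)
  obtain ⟨f, hf1, -⟩ := (hχ.comp C.subtype).exists_eq_sum_monoidHom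
  have key : ∀ z : {z : G // IsConj s z ∧ z ∈ C}, (Finset.univ.val.map ε : Multiset ℂ) =
      Finset.univ.val.map fun i => (f i ⟨z, z.2.2⟩ : ℂ) := fun z => by
    obtain ⟨c, hc⟩ := isConj_iff.mp z.2.1
    refine roots_card_eq_of_power_sums (orderOf_pos s).ne' hε (fun i => ?_) fun k => ?_
    · rw [← Units.val_pow_eq_pow_val, ← map_pow, show (⟨z, z.2.2⟩ : C) ^ orderOf s = 1 from
        Subtype.ext (by simp [← hc, conj_pow]), map_one, Units.val_one]
    · rw [← hχε, ← hχ.isClassFunction _ c, ← conj_pow, hc]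
      exact (hf1 (⟨z, z.2.2⟩ ^ k)).trans (Finset.sum_congr rfl fun i _ => by
        rw [map_pow, Units.val_pow_eq_pow_val])
  have h1 : ∀ (z : {z : G // IsConj s z ∧ z ∈ C}) (i), ∃ j, ε j = f i ⟨z, z.2.2⟩ := fun z i => by
    have : ((f i ⟨z, z.2.2⟩ : ℂˣ) : ℂ) ∈ (Finset.univ.val.map ε : Multiset ℂ) := by
      rw [key z]; exact Multiset.mem_map_of_mem _ (Finset.mem_univ_val i)
    obtain ⟨j, -, hj⟩ := Multiset.mem_map.1 this
    exact ⟨j, hj⟩
  choose σ hσ using h1
  have h2 : ∀ z, Function.Injective (σ z) := fun z i j hij => by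
    have h1 := key z ▸ Multiset.Nodup.map h Finset.univ.nodup
    exact (Multiset.nodup_map_iff_inj_on Finset.univ.nodup).mp h1 i (Finset.mem_univ_val i) j
      (Finset.mem_univ_val j) (by rw [← hσ, ← hσ, hij])
  have h3 : Fintype.card (Fin (charDegree (χ ∘ C.subtype))) = Fintype.card ι := by
    have := congrArg Multiset.card (key ⟨s, IsConj.refl s, mem_centralizer_singleton_iff.mpr rfl⟩)
    rw [Multiset.card_map, Multiset.card_map] at this
    exact this.symm
  have h4 : Function.Injective fun z => (⟨σ z, h2 z⟩ : _ ↪ ι) := fun z w hzw => by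
    have h5 : σ z = σ w := congrArg Function.Embedding.toFun hzw
    apply Subtype.ext
    rw [← mul_inv_eq_one]
    apply hf
    have h6 := hf1 (⟨z, z.2.2⟩ * (⟨w, w.2.2⟩ : C)⁻¹)
    have h7 := hf1 1
    simp only [Function.comp_apply, map_one] at h6 h7
    refine h6.trans ((Finset.sum_congr rfl fun i _ => ?_).trans h7.symm)
    rw [map_mul, map_inv, show f i ⟨z, z.2.2⟩ = f i ⟨w, w.2.2⟩ from
      Units.ext (by rw [← hσ, ← hσ, h5]), mul_inv_cancel]
  have := Nat.card_le_card_of_injective _ h4
  rwa [Nat.card_eq_fintype_card (α := _ ↪ ι), Fintype.card_embedding_eq, h3,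
    Nat.descFactorial_self] at this

/-- Brauer lift of a faithful `F_p`-representation of a `p'`-group. -/
theorem exists_lift_zmod {p : ℕ} [hp : Fact p.Prime] (hG : ¬ p ∣ Nat.card G) {n : ℕ}
    (R : G →* Matrix (Fin n) (Fin n) (ZMod p)) (hR : Function.Injective R) :
    ∃ χ : G → ℂ, IsCharacter G χ ∧ charDegree χ = n ∧ (∀ g, χ g = χ 1 → g = 1) ∧
      ∀ g, χ (g ^ p) = χ g := by
  obtain ⟨M, hM⟩ := exists_isPModular hp.out
  have := hM.charP
  let f : ZMod p →+* ResK M := ZMod.castHom (dvd_refl p) _
  let ρ := matRep (matMap R f)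
  have hreg : ∀ g : G, IsPRegular p g := fun g h => hG (h.trans (orderOf_dvd_natCard g))
  have h1 : brauerChar p M ρ 1 = n := by rw [brauerChar_one hM]; simp
  refine ⟨brauerChar p M ρ, (isBrauerChar_iff_of_not_dvd hM hG).mp (isBrauerChar_of_rep ρ),
    by simp [charDegree, h1], fun g hg => ?_, fun g => ?_⟩
  · obtain ⟨b, x, hx, hb⟩ := exists_eigenbasis_of_pow_eq_one (ρ g) (m := orderOf g)
      (hM.natCast_ne_zero (hreg g)) (by rw [← map_pow, pow_orderOf_eq_one, map_one])
    rw [h1, brauerChar_of_reg _ (hreg g), rootLift_charpoly_of_eigenbasis b _ x hb] at hg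
    have h2 := eq_one_of_re_sum_eq_card (ε := fun i => teich p M (x i)) (fun i =>
      Complex.norm_eq_one_of_pow_eq_one (teich_pow_eq_one hM (hreg g) (hx i))
        (orderOf_pos g).ne') (by rw [hg]; simp)
    have h3 : ρ g = 1 := b.ext fun i => by
      rw [hb, ← red_teich hM (hreg g) (hx i), h2, red_one, one_smul, Module.End.one_apply]
    apply hR
    rw [map_one]
    apply Matrix.map_injective f.injective
    apply Matrix.toLin'.injective
    simpa [ρ, matRep_apply, matMap_apply, Module.End.one_eq_id] using h3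
  · rw [brauerChar_of_reg _ (hreg _), brauerChar_of_reg _ (hreg _)]
    simp only [ρ, matRep_apply, matMap_apply, Matrix.charpoly_toLin', Matrix.charpoly_map]
    rw [map_pow, ZMod.charpoly_pow_card]

end Cfsg
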