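import Cfsg.Agent.Char.MinNonab
import Cfsg.Agent.Char.Extend
import Cfsg.Prelude.Def_DegreeGraph

/-!
# The common-divisor graph on the relative degree set `cd(G | N)`
-/

set_option autoImplicit false
set_option linter.unusedSectionVars false

namespace Cfsg

open scoped ComplexConjugate commutatorElement Classical
open Subgroup

universe u v

variable {G : Type u} [Group G] [Finite G] {N : Type v} [Group N] [Finite N]

theorem IrrCharacter.mulAut_smul_ofLinear_eq (σ : MulAut N) (lam : N →* ℂˣ) :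
    σ • IrrCharacter.ofLinear lam =
      IrrCharacter.ofLinear (lam.comp (σ⁻¹ : MulAut N).toMonoidHom) := by
  rw [← IrrCharacter.linear_smul_one, IrrCharacter.mulAut_smul_linear_smul, IrrCharacter.smul_one,
    IrrCharacter.linear_smul_one]

theorem detHom_mulAut_smul (σ : MulAut N) (θ : IrrCharacter N) :
    detHom (σ • θ).1 = (detHom θ.1).comp (σ⁻¹ : MulAut N).toMonoidHom := by
  ext n
  have h : (σ • θ).1 = θ.1 ∘ (σ⁻¹ : MulAut N).toMonoidHom := by
    funext x; exact IrrCharacter.mulAut_smul_apply σ θ x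
  rw [coe_detHom, h, θ.isCharacter.detChar_comp]
  simp

theorem detHom_linear_smul (lam : N →* ℂˣ) (θ : IrrCharacter N) :
    detHom (lam • θ).1 = lam ^ charDegree θ.1 * detHom θ.1 := by
  ext n
  rw [coe_detHom, IrrCharacter.linear_smul_val,
    θ.isCharacter.detChar_linear_mul (isCharacter_linear lam) (by simp)]
  simp

theorem detHom_ofLinear (lam : N →* ℂˣ) : detHom (IrrCharacter.ofLinear lam).1 = lam := by
  ext n
  rw [coe_detHom, IrrCharacter.ofLinear_val, detChar_monoidHom]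

theorem orderOf_comp_mulAut_dvd (lam : N →* ℂˣ) (σ : MulAut N) :
    orderOf (lam.comp σ.toMonoidHom) ∣ orderOf lam := by
  refine orderOf_dvd_of_pow_eq_one (MonoidHom.ext fun n => ?_)
  exact DFunLike.congr_fun (pow_orderOf_eq_one lam) (σ n)

theorem one_lt_orderOf_of_finite {A : Type*} [Group A] [Finite A] {x : A} (h : x ≠ 1) :
    1 < orderOf x :=
  lt_of_le_of_ne (orderOf_pos x) fun e => h (orderOf_eq_one_iff.1 e.symm)

theorem exists_eq_mul_coprime_pow (n o : ℕ) (ho : o ≠ 0) :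
    ∃ k o₁ o₂, o = o₁ * o₂ ∧ o₁ ∣ n ^ k ∧ o₂.Coprime n := by
  induction o using Nat.strong_induction_on with
  | _ o ih =>
    by_cases h : o.Coprime n
    · exact ⟨0, 1, o, (one_mul o).symm, one_dvd _, h⟩
    · obtain ⟨r, hr, ⟨o', rfl⟩, hn⟩ := Nat.Prime.not_coprime_iff_dvd.1 h
      have ho' : o' ≠ 0 := by rintro rfl; simp at ho
      obtain ⟨k, o₁, o₂, rfl, h1, h2⟩ := ih o'
        (lt_mul_of_one_lt_left (Nat.pos_of_ne_zero ho') hr.one_lt) ho'
      exact ⟨k + 1, r * o₁, o₂, by ring, by rw [pow_succ']; exact mul_dvd_mul hn h1, h2⟩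

theorem exists_root_part_of_coprime {A : Type*} [CommGroup A] [Finite A] (δ : A) {d n : ℕ}
    (h : d.Coprime n) : ∃ ν : A, (∃ k, orderOf ν ∣ n ^ k) ∧ (orderOf (ν⁻¹ ^ d * δ)).Coprime n := by
  obtain ⟨k, o₁, o₂, ho, h1, h2⟩ := exists_eq_mul_coprime_pow n (orderOf δ) (orderOf_pos δ).ne'
  have hc : (o₂ * d).Coprime o₁ :=
    Nat.Coprime.coprime_dvd_right h1 ((Nat.Coprime.mul_left h2 h).pow_right k)
  obtain ⟨c, -, hc⟩ := Nat.exists_mul_mod_eq_of_coprime 1 hc
    (by rintro rfl; exact (orderOf_pos δ).ne' (by simpa using ho))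
  refine ⟨δ ^ (o₂ * c), ⟨k, ?_⟩, ?_⟩
  · refine (orderOf_dvd_of_pow_eq_one ?_).trans h1
    rw [← pow_mul, ← orderOf_dvd_iff_pow_eq_one, ho]
    exact ⟨c, by ring⟩
  · refine Nat.Coprime.coprime_dvd_left (orderOf_dvd_of_pow_eq_one (n := o₂) ?_) h2
    rw [mul_pow, inv_pow, inv_pow, inv_mul_eq_one, ← pow_mul, ← pow_mul,
      pow_eq_pow_iff_modEq, ho]
    have : o₂ * c * (d * o₂) = (o₂ * d * c) * o₂ := by ring
    rw [this]
    conv_rhs => rw [← one_mul o₂]
    exact Nat.ModEq.mul_right' o₂ hc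

theorem eq_of_pow_mul_eq_of_coprime {A : Type*} [CommGroup A] {x x' δ δ' : A} {d : ℕ}
    (h : x' ^ d * δ' = x ^ d * δ) (hx : orderOf x' ∣ orderOf x) (hδ : orderOf δ' ∣ orderOf δ)
    (h1 : (orderOf x).Coprime d) (h2 : (orderOf x).Coprime (orderOf δ)) : x' = x := by
  have hd := congrArg (· ^ orderOf δ) h
  simp only [mul_pow, orderOf_dvd_iff_pow_eq_one.1 hδ, pow_orderOf_eq_one, mul_one,
    ← pow_mul] at hd
  have a1 : (x' * x⁻¹) ^ (d * orderOf δ) = 1 := by
    rw [mul_pow, hd, inv_pow, mul_inv_cancel]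
  have a2 : (x' * x⁻¹) ^ orderOf x = 1 := by
    rw [mul_pow, orderOf_dvd_iff_pow_eq_one.1 hx, inv_pow, pow_orderOf_eq_one, inv_one, one_mul]
  have a3 := Nat.eq_one_of_dvd_coprimes (Nat.Coprime.mul_right h1 h2)
    (orderOf_dvd_of_pow_eq_one a2) (orderOf_dvd_of_pow_eq_one a1)
  exact mul_inv_eq_one.1 (orderOf_eq_one_iff.1 a3)

/-- Splitting off the `n`-part of the determinant. -/
theorem IrrCharacter.exists_linear_smul_eq_of_coprime (θ : IrrCharacter N) {n : ℕ}
    (h : (charDegree θ.1).Coprime n) :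
    ∃ (ν : N →* ℂˣ) (θ₀ : IrrCharacter N), ν • θ₀ = θ ∧ (∃ k, orderOf ν ∣ n ^ k) ∧
      (orderOf (detHom θ₀.1)).Coprime n := by
  obtain ⟨ν, h1, h2⟩ := exists_root_part_of_coprime (detHom θ.1) h
  refine ⟨ν, ν⁻¹ • θ, smul_inv_smul ν θ, h1, ?_⟩
  rw [detHom_linear_smul]
  exact h2

theorem inertia_linear_smul (f : N →* G) [IsNormalEmb f] {lam : N →* ℂˣ} {θ : IrrCharacter N}
    (h1 : (orderOf lam).Coprime (charDegree θ.1))
    (h2 : (orderOf lam).Coprime (orderOf (detHom θ.1))) :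
    inertia f (lam • θ) = inertia f θ ⊓ inertia f (IrrCharacter.ofLinear lam) := by
  ext g
  rw [mem_inf, mem_inertia, mem_inertia, mem_inertia, IrrCharacter.mulAut_smul_linear_smul,
    IrrCharacter.mulAut_smul_ofLinear_eq, IrrCharacter.ofLinear_inj]
  refine ⟨fun h => ?_, fun h => by rw [h.1, h.2]⟩
  have hd := congrArg (fun ψ : IrrCharacter N => detHom ψ.1) h
  simp only [detHom_linear_smul, detHom_mulAut_smul, IrrCharacter.charDegree_smul] at hd
  have e := eq_of_pow_mul_eq_of_coprime (A := N →* ℂˣ) hd (orderOf_comp_mulAut_dvd _ _)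
    (orderOf_comp_mulAut_dvd _ _) h1 h2
  rw [e] at h
  exact ⟨MulAction.injective lam h, e⟩

/-- The determinant argument: an invariant linear factor of order prime to the determinantal
order of the other factor has order dividing the degree. -/
theorem orderOf_dvd_charDegree_of_inertia_eq_top {f : N →* G} [IsNormalEmb f]
    (hf : f.range ≤ commutator G) {lam : N →* ℂˣ} {θ : IrrCharacter N}
    (hI : inertia f (IrrCharacter.ofLinear lam) = ⊤)
    (h2 : (orderOf lam).Coprime (orderOf (detHom θ.1))) {χ : IrrCharacter G}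
    (hχ : LiesOver f χ.1 (lam • θ).1) : orderOf lam ∣ charDegree χ.1 := by
  refine h2.dvd_of_dvd_mul_left (orderOf_dvd_of_pow_eq_one (MonoidHom.ext fun n => ?_))
  set o := orderOf (detHom θ.1)
  have h3 : ∀ θ' ∈ conjOrbit f (lam • θ),
      detChar θ'.1 n ^ o = (lam n : ℂ) ^ (o * charDegree θ.1) := by
    intro θ' hθ'
    obtain ⟨g, rfl⟩ := mem_conjOrbit.1 hθ'
    have e := inertia_eq_top_iff.1 hI g
    rw [IrrCharacter.mulAut_smul_ofLinear_eq, IrrCharacter.ofLinear_inj] at e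
    rw [IrrCharacter.mulAut_smul_linear_smul, e, ← coe_detHom, detHom_linear_smul,
      detHom_mulAut_smul, IrrCharacter.charDegree_smul]
    have := congrArg Units.val (DFunLike.congr_fun (pow_orderOf_eq_one (detHom θ.1))
      ((conjAut f g)⁻¹ n))
    change (((detHom θ.1 ((conjAut f g)⁻¹ n)) ^ o : ℂˣ) : ℂ) = 1 at this
    change ((lam n ^ charDegree θ.1 * detHom θ.1 ((conjAut f g)⁻¹ n) : ℂˣ) : ℂ) ^ o = _
    rw [Units.val_mul, mul_pow, ← Units.val_pow_eq_pow_val (detHom θ.1 _), this, mul_one,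
      Units.val_pow_eq_pow_val, ← pow_mul, mul_comm]
  have h4 : detChar (χ.1 ∘ f) n = 1 := by
    rw [χ.isCharacter.detChar_comp, Function.comp_apply, ← coe_detHom,
      linear_apply_of_mem_commutator _ (hf ⟨n, rfl⟩), Units.val_one]
  rw [hχ.comp_eq_smul_sum_conjOrbit,
    (IsCharacter.sum fun (θ' : IrrCharacter N) _ => θ'.isCharacter).detChar_nsmul,
    detChar_sum fun (θ' : IrrCharacter N) _ => θ'.isCharacter] at h4
  have h5 := congrArg (· ^ o) h4
  simp only [Pi.pow_apply, Finset.prod_apply, one_pow] at h5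
  rw [← pow_mul, mul_comm, pow_mul, ← Finset.prod_pow, Finset.prod_congr rfl h3, Finset.prod_const,
    card_conjOrbit, ← pow_mul, ← pow_mul] at h5
  refine Units.ext ?_
  change ((lam n ^ (o * charDegree χ.1) : ℂˣ) : ℂ) = 1
  rw [Units.val_pow_eq_pow_val, ← h5, hχ.charDegree_eq, IrrCharacter.charDegree_linear_smul]
  congr 1
  ring

theorem exists_one_lt_dvd_of_linear {f : N →* G} [IsNormalEmb f] (hf : f.range ≤ commutator G)
    {lam : N →* ℂˣ} (hl : lam ≠ 1) : ∃ s, 1 < s ∧ ∀ θ : IrrCharacter N,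
      (orderOf lam).Coprime (charDegree θ.1) → (orderOf lam).Coprime (orderOf (detHom θ.1)) →
      ∀ χ : IrrCharacter G, LiesOver f χ.1 (lam • θ).1 → s ∣ charDegree χ.1 := by
  by_cases hI : inertia f (IrrCharacter.ofLinear lam) = ⊤
  · exact ⟨orderOf lam, one_lt_orderOf_of_finite hl, fun θ _ h2 χ hχ =>
      orderOf_dvd_charDegree_of_inertia_eq_top hf hI h2 hχ⟩
  · refine ⟨(inertia f (IrrCharacter.ofLinear lam)).index, one_lt_index_of_ne_top hI,
      fun θ h1 h2 χ hχ => (index_dvd_of_le ?_).trans hχ.index_inertia_dvd⟩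
    rw [inertia_linear_smul f h1 h2]
    exact inf_le_right

theorem exists_one_lt_dvd_of_ne_one {f : N →* G} [IsNormalEmb f] (hf : f.range ≤ commutator G)
    {θ : IrrCharacter N} (hθ : θ ≠ IrrCharacter.one N) : ∃ s, 1 < s ∧ ∀ lam : N →* ℂˣ,
      (orderOf lam).Coprime (orderOf (detHom θ.1)) →
      ∀ χ : IrrCharacter G, LiesOver f χ.1 (lam • θ).1 → s ∣ charDegree χ.1 := by
  by_cases h1 : charDegree θ.1 = 1
  · obtain ⟨μ, rfl⟩ := IrrCharacter.exists_ofLinear_eq_of_charDegree h1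
    obtain ⟨s, hs, h⟩ := exists_one_lt_dvd_of_linear hf
      (mt IrrCharacter.ofLinear_eq_one_iff.2 hθ)
    refine ⟨s, hs, fun lam h2 χ hχ => h (IrrCharacter.ofLinear lam) (by simp) ?_ χ ?_⟩
    · rw [detHom_ofLinear] at h2 ⊢
      exact h2.symm
    · rw [IrrCharacter.linear_smul_ofLinear] at hχ ⊢
      rwa [show μ * lam = lam * μ from mul_comm μ lam]
  · refine ⟨charDegree θ.1, lt_of_le_of_ne θ.charDegree_pos (Ne.symm h1), fun lam _ χ hχ => ?_⟩
    simpa using hχ.charDegree_dvd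

/-- Products of linear characters lying in orbits of coprime sizes. -/
theorem inertia_eq_top_of_coprime_index (f : N →* G) [IsNormalEmb f] {lam μ : N →* ℂˣ}
    (h1 : (inertia f (IrrCharacter.ofLinear μ)).index.Coprime
      (inertia f (IrrCharacter.ofLinear lam)).index)
    (h3 : (inertia f (IrrCharacter.ofLinear μ)).index.Coprime
      (inertia f (IrrCharacter.ofLinear (μ * lam))).index)
    (ho : (orderOf μ).Coprime (inertia f (IrrCharacter.ofLinear lam)).index) :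
    inertia f (IrrCharacter.ofLinear μ) = ⊤ := by
  set θ := IrrCharacter.ofLinear lam with hθ
  have key : ∀ k ∈ inertia f (IrrCharacter.ofLinear μ),
      conjAut f k • (μ • θ) = μ • conjAut f k • θ := by
    intro k hk
    rw [mem_inertia, IrrCharacter.mulAut_smul_ofLinear_eq, IrrCharacter.ofLinear_inj] at hk
    rw [IrrCharacter.mulAut_smul_linear_smul, hk]
  rw [← IrrCharacter.linear_smul_ofLinear, ← hθ] at h3
  have hO : conjOrbit f (μ • θ) = (conjOrbit f θ).image (μ • ·) := by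
    ext ψ
    rw [Finset.mem_image, mem_conjOrbit]
    constructor
    · rintro ⟨g, rfl⟩
      obtain ⟨k, hk, x, hx, rfl⟩ := exists_mul_eq_of_coprime_index h3 g
      rw [map_mul, mul_smul, mem_inertia.1 hx, key k hk]
      exact ⟨_, conjAut_smul_mem_conjOrbit f k θ, rfl⟩
    · rintro ⟨_, hψ, rfl⟩
      obtain ⟨g, rfl⟩ := mem_conjOrbit.1 hψ
      obtain ⟨k, hk, x, hx, rfl⟩ := exists_mul_eq_of_coprime_index h1 g
      rw [map_mul, mul_smul, mem_inertia.1 hx]
      exact ⟨k, key k hk⟩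
  have inv : ∀ (ψ : IrrCharacter N) (g : G) (n : N), ∏ θ' ∈ conjOrbit f ψ,
      θ' ((conjAut f g)⁻¹ n) = ∏ θ' ∈ conjOrbit f ψ, θ' n := by
    intro ψ g n
    refine Finset.prod_nbij' (conjAut f g • ·) ((conjAut f g)⁻¹ • ·) ?_ ?_ ?_ ?_ ?_
    · intro θ' h
      obtain ⟨x, rfl⟩ := mem_conjOrbit.1 h
      rw [← mul_smul, ← map_mul]
      exact conjAut_smul_mem_conjOrbit f _ ψ
    · intro θ' h
      obtain ⟨x, rfl⟩ := mem_conjOrbit.1 h
      rw [← mul_smul, ← map_inv, ← map_mul]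
      exact conjAut_smul_mem_conjOrbit f _ ψ
    · intro θ' _; simp
    · intro θ' _; simp
    · intro θ' _; simp
  have hne : ∀ n, ∏ θ' ∈ conjOrbit f θ, θ' n ≠ 0 := by
    intro n
    refine Finset.prod_ne_zero_iff.2 fun θ' h => ?_
    obtain ⟨x, rfl⟩ := mem_conjOrbit.1 h
    simp [hθ]
  have hP : ∀ n, ∏ θ' ∈ conjOrbit f (μ • θ), θ' n =
      (μ n : ℂ) ^ (inertia f θ).index * ∏ θ' ∈ conjOrbit f θ, θ' n := by
    intro n
    rw [hO, Finset.prod_image fun a _ b _ h => MulAction.injective μ h]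
    simp only [IrrCharacter.linear_smul_apply]
    rw [Finset.prod_mul_distrib, Finset.prod_const, card_conjOrbit]
  rw [inertia_eq_top_iff]
  intro g
  rw [IrrCharacter.mulAut_smul_ofLinear_eq, IrrCharacter.ofLinear_inj]
  refine eq_of_pow_mul_eq_of_coprime (A := N →* ℂˣ) (δ := 1) (δ' := 1) (MonoidHom.ext fun n => ?_)
    (orderOf_comp_mulAut_dvd _ _) dvd_rfl ho (by simp)
  have := inv (μ • θ) g n
  rw [hP, hP, inv θ g n, mul_left_inj' (hne n)] at this
  refine Units.ext ?_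
  change ((μ ((conjAut f g)⁻¹ n) ^ (inertia f θ).index * 1 : ℂˣ) : ℂ) =
    ((μ n ^ (inertia f θ).index * 1 : ℂˣ) : ℂ)
  simpa using this

section Graph

variable {L : Subgroup G} [L.Normal]

theorem mem_relCharDegrees_of_liesOver {χ : IrrCharacter G} {θ : IrrCharacter L}
    (hθ : θ ≠ IrrCharacter.one L) (h : LiesOver L.subtype χ.1 θ.1) :
    charDegree χ.1 ∈ relCharDegrees L := by
  refine ⟨χ, ?_, rfl⟩
  by_contra hne
  push Not at hne
  have h1 : LiesOver L.subtype χ.1 (IrrCharacter.one L).1 :=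
    (IrrCharacter.liesOver_one_iff L.subtype χ).2 fun x => hne x x.2
  have := h1.mem_conjOrbit h
  rw [conjOrbit_eq_singleton (inertia_one _), Finset.mem_singleton] at this
  exact hθ this

theorem exists_liesOver_of_mem_relCharDegrees {d : ℕ} (h : d ∈ relCharDegrees L) :
    ∃ (χ : IrrCharacter G) (θ : IrrCharacter L), θ ≠ IrrCharacter.one L ∧
      LiesOver L.subtype χ.1 θ.1 ∧ charDegree χ.1 = d := by
  obtain ⟨χ, ⟨x, hx, hne⟩, rfl⟩ := h
  obtain ⟨θ, hθ⟩ := χ.exists_liesOver_below L.subtype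
  refine ⟨χ, θ, ?_, hθ, rfl⟩
  rintro rfl
  exact hne ((IrrCharacter.liesOver_one_iff L.subtype χ).1 hθ ⟨x, hx⟩)

theorem exists_mem_relCharDegrees {θ : IrrCharacter L} (hθ : θ ≠ IrrCharacter.one L) :
    ∃ χ : IrrCharacter G, LiesOver L.subtype χ.1 θ.1 ∧ charDegree χ.1 ∈ relCharDegrees L := by
  obtain ⟨χ, hχ⟩ := θ.exists_liesOver_above (f := L.subtype) Subtype.val_injective
  exact ⟨χ, hχ, mem_relCharDegrees_of_liesOver hθ hχ⟩

theorem commonDivisor_adj_of_dvd {V : Set ℕ} {a b : V} (hab : a ≠ b) (ha0 : a.1 ≠ 0) {s : ℕ}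
    (hs : 1 < s) (ha : s ∣ a.1) (hb : s ∣ b.1) : (commonDivisorGraph.induce V).Adj a b :=
  ⟨fun e => hab (Subtype.ext e), hs.trans_le (Nat.le_of_dvd
    (Nat.gcd_pos_of_pos_left _ (Nat.pos_of_ne_zero ha0)) (Nat.dvd_gcd ha hb))⟩

theorem ne_zero_of_mem_relCharDegrees {d : ℕ} (h : d ∈ relCharDegrees L) : d ≠ 0 := by
  obtain ⟨χ, -, rfl⟩ := h
  exact χ.charDegree_pos.ne'

theorem rel_reachable_of_dvd {a b : relCharDegrees L} {s : ℕ}
    (hs : 1 < s) (ha : s ∣ a.1) (hb : s ∣ b.1) :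
    (commonDivisorGraph.induce (relCharDegrees L)).Reachable a b := by
  by_cases hab : a = b
  · rw [hab]
  · exact (commonDivisor_adj_of_dvd hab (ne_zero_of_mem_relCharDegrees a.2) hs ha hb).reachable

theorem rel_reachable_of_not_coprime {a b : relCharDegrees L} (h : ¬ a.1.Coprime b.1) :
    (commonDivisorGraph.induce (relCharDegrees L)).Reachable a b := by
  obtain ⟨r, hr, h1, h2⟩ := Nat.Prime.not_coprime_iff_dvd.1 h
  exact rel_reachable_of_dvd hr.one_lt h1 h2

theorem relIndex_commutator_eq_card_linear (L : Subgroup G) :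
    ⁅L, L⁆.relIndex L = Nat.card (L →* ℂˣ) := by
  rw [card_linear, relIndex, ← map_subtype_commutator, subgroupOf,
    comap_map_eq_self_of_injective L.subtype_injective]

theorem linear_smul_ne_one_of_coprime {lam : N →* ℂˣ} (hl : lam ≠ 1) {θ : IrrCharacter N}
    (h : (orderOf lam).Coprime (orderOf (detHom θ.1))) : lam • θ ≠ IrrCharacter.one N := by
  intro e
  have e' : θ = IrrCharacter.ofLinear lam⁻¹ := by
    rw [← IrrCharacter.linear_smul_one, ← e]
    exact (inv_smul_smul lam θ).symm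
  rw [e', detHom_ofLinear, show orderOf lam⁻¹ = orderOf lam from orderOf_inv lam,
    Nat.coprime_self] at h
  exact hl (orderOf_eq_one_iff.1 h)

/-- Two vertices lying over nontrivial linear characters, of degrees prime to the orders. -/
theorem exists_common_of_linear (hL : L ≤ commutator G) {lam μ : L →* ℂˣ} (hl : lam ≠ 1)
    (hμ : μ ≠ 1) {χ ψ : IrrCharacter G}
    (hχ : LiesOver L.subtype χ.1 (IrrCharacter.ofLinear lam).1)
    (hψ : LiesOver L.subtype ψ.1 (IrrCharacter.ofLinear μ).1)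
    (hc : (charDegree χ.1).Coprime (charDegree ψ.1))
    (h1 : (orderOf lam).Coprime (charDegree χ.1 * charDegree ψ.1))
    (h2 : (orderOf μ).Coprime (charDegree χ.1 * charDegree ψ.1)) :
    ∃ d ∈ relCharDegrees L, ¬ (charDegree χ.1).Coprime d ∧ ¬ (charDegree ψ.1).Coprime d := by
  have hf : L.subtype.range ≤ commutator G := by rwa [range_subtype]
  have top : ∀ {ν : L →* ℂˣ} {ξ : IrrCharacter G}, ν ≠ 1 →
      LiesOver L.subtype ξ.1 (IrrCharacter.ofLinear ν).1 →
      (orderOf ν).Coprime (charDegree ξ.1) → inertia L.subtype (IrrCharacter.ofLinear ν) ≠ ⊤ := by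
    intro ν ξ hν hξ h hI
    have := orderOf_dvd_charDegree_of_inertia_eq_top hf hI (θ := IrrCharacter.one L)
      (by rw [← IrrCharacter.ofLinear_one, detHom_ofLinear]; simp) (χ := ξ) (by simpa using hξ)
    exact hν (orderOf_eq_one_iff.1 (Nat.Coprime.eq_one_of_dvd h this))
  have t1 := hχ.index_inertia_dvd
  have t2 := hψ.index_inertia_dvd
  have c12 := Nat.Coprime.coprime_dvd_left t1 (Nat.Coprime.coprime_dvd_right t2 hc)
  have n1 : ¬ (inertia L.subtype (IrrCharacter.ofLinear lam)).index.Coprime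
      (inertia L.subtype (IrrCharacter.ofLinear (lam * μ))).index := fun h =>
    top hl hχ (Nat.Coprime.coprime_mul_right_right h1) (inertia_eq_top_of_coprime_index _ c12 h
      (Nat.Coprime.coprime_dvd_right (t2.mul_left _) h1))
  have n2 : ¬ (inertia L.subtype (IrrCharacter.ofLinear μ)).index.Coprime
      (inertia L.subtype (IrrCharacter.ofLinear (lam * μ))).index := fun h =>
    top hμ hψ (Nat.Coprime.coprime_mul_left_right h2) (inertia_eq_top_of_coprime_index _ c12.symm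
      (by rwa [show μ * lam = lam * μ from mul_comm μ lam])
      (Nat.Coprime.coprime_dvd_right (t1.mul_right _) h2))
  have hne : IrrCharacter.ofLinear (lam * μ) ≠ IrrCharacter.one L := by
    intro e
    rw [e, inertia_one, index_top] at n1
    exact n1 (Nat.coprime_one_right _)
  obtain ⟨ξ, hξ, hd⟩ := exists_mem_relCharDegrees hne
  have t3 := hξ.index_inertia_dvd
  exact ⟨_, hd, fun h => n1 (Nat.Coprime.coprime_dvd_left t1 (Nat.Coprime.coprime_dvd_right t3 h)),
    fun h => n2 (Nat.Coprime.coprime_dvd_left t2 (Nat.Coprime.coprime_dvd_right t3 h))⟩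

/-- A vertex prime to `p` lies over a nontrivial linear character of `p`-power order, or is joined
to all vertices over all such characters. -/
theorem rel_not_dvd_cases (hL : L ≤ commutator G) {p : ℕ} (hp : p.Prime)
    (a : relCharDegrees L) (ha : ¬ p ∣ a.1) :
    (∃ (lam : L →* ℂˣ) (χ : IrrCharacter G), lam ≠ 1 ∧ (∃ k, orderOf lam ∣ p ^ k) ∧
      LiesOver L.subtype χ.1 (IrrCharacter.ofLinear lam).1 ∧ charDegree χ.1 = a.1) ∨
    ∀ lam : L →* ℂˣ, lam ≠ 1 → (∃ k, orderOf lam ∣ p ^ k) → ∀ (χ : IrrCharacter G)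
      (b : relCharDegrees L), LiesOver L.subtype χ.1 (IrrCharacter.ofLinear lam).1 →
      charDegree χ.1 = b.1 → (commonDivisorGraph.induce (relCharDegrees L)).Reachable a b := by
  have hf : L.subtype.range ≤ commutator G := by rwa [range_subtype]
  obtain ⟨χ, θ, hθ, hχ, hd⟩ := exists_liesOver_of_mem_relCharDegrees a.2
  have hc : (charDegree θ.1).Coprime p := ((Nat.Prime.coprime_iff_not_dvd hp).2 fun h =>
    ha (hd ▸ h.trans hχ.charDegree_dvd)).symm
  obtain ⟨ν, θ₀, rfl, ⟨k, hk⟩, h0⟩ := θ.exists_linear_smul_eq_of_coprime hc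
  by_cases e : θ₀ = IrrCharacter.one L
  · subst e
    rw [IrrCharacter.linear_smul_one] at hθ hχ
    exact Or.inl ⟨ν, χ, mt IrrCharacter.ofLinear_eq_one_iff.2 hθ, ⟨k, hk⟩, hχ, hd⟩
  refine Or.inr fun lam hl ⟨j, hj⟩ ψ b hψ hb => ?_
  rw [IrrCharacter.charDegree_linear_smul] at hc
  have c1 := Nat.Coprime.coprime_dvd_left hj (h0.symm.pow_left j)
  have c2 := Nat.Coprime.coprime_dvd_left hj (hc.symm.pow_left j)
  obtain ⟨s, hs, h⟩ := exists_one_lt_dvd_of_ne_one hf e
  obtain ⟨s', hs', h'⟩ := exists_one_lt_dvd_of_linear hf hl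
  obtain ⟨ξ, hξ, hx⟩ := exists_mem_relCharDegrees (linear_smul_ne_one_of_coprime hl c1)
  refine (rel_reachable_of_dvd (b := ⟨_, hx⟩) hs
    (hd ▸ h ν (Nat.Coprime.coprime_dvd_left hk (h0.symm.pow_left k)) χ hχ) (h lam c1 ξ hξ)).trans
    (rel_reachable_of_dvd hs' (h' θ₀ c2 c1 ξ hξ) (hb ▸ h' (IrrCharacter.one L) (by simp) ?_ ψ
      (by simpa using hψ)))
  rw [← IrrCharacter.ofLinear_one, detHom_ofLinear]
  simp

theorem exists_linear_orderOf_eq_prime {p : ℕ} (hp : p.Prime) (h : p ∣ ⁅L, L⁆.relIndex L) :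
    ∃ lam : L →* ℂˣ, lam ≠ 1 ∧ ∃ k, orderOf lam ∣ p ^ k := by
  haveI := Fact.mk hp
  rw [relIndex_commutator_eq_card_linear] at h
  obtain ⟨lam, hl⟩ := exists_prime_orderOf_dvd_card' p h
  refine ⟨lam, ?_, 1, by rw [hl, pow_one]⟩
  rintro rfl
  exact hp.ne_one (hl.symm.trans orderOf_one)

/-- A vertex prime to `p` is joined to a vertex over a nontrivial linear character of `p`-power
order. -/
theorem rel_exists_reachable_linear (hL : L ≤ commutator G) {p : ℕ} (hp : p.Prime)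
    (hpm : p ∣ ⁅L, L⁆.relIndex L) (a : relCharDegrees L) (ha : ¬ p ∣ a.1) :
    ∃ (lam : L →* ℂˣ) (χ : IrrCharacter G) (b : relCharDegrees L), lam ≠ 1 ∧
      (∃ k, orderOf lam ∣ p ^ k) ∧ LiesOver L.subtype χ.1 (IrrCharacter.ofLinear lam).1 ∧
      charDegree χ.1 = b.1 ∧ (commonDivisorGraph.induce (relCharDegrees L)).Reachable a b := by
  rcases rel_not_dvd_cases hL hp a ha with ⟨lam, χ, h1, h2, h3, h4⟩ | h
  · exact ⟨lam, χ, a, h1, h2, h3, h4, .refl _⟩
  · obtain ⟨lam, h1, h2⟩ := exists_linear_orderOf_eq_prime hp hpm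
    obtain ⟨χ, hχ, hd⟩ := exists_mem_relCharDegrees (mt IrrCharacter.ofLinear_eq_one_iff.1 h1)
    exact ⟨lam, χ, ⟨_, hd⟩, h1, h2, hχ, rfl, h lam h1 h2 χ _ hχ rfl⟩

theorem rel_reachable_of_not_dvd (hL : L ≤ commutator G) {p : ℕ} (hp : p.Prime)
    (hpm : p ∣ ⁅L, L⁆.relIndex L) {a b : relCharDegrees L} (ha : ¬ p ∣ a.1) (hb : ¬ p ∣ b.1) :
    (commonDivisorGraph.induce (relCharDegrees L)).Reachable a b := by
  rcases rel_not_dvd_cases hL hp a ha with ⟨lam, χ, h1, ⟨k, h2⟩, h3, h4⟩ | h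
  · rcases rel_not_dvd_cases hL hp b hb with ⟨μ, ψ, h1', ⟨j, h2'⟩, h3', h4'⟩ | h'
    · by_cases hc : a.1.Coprime b.1
      · have hab : p.Coprime (charDegree χ.1 * charDegree ψ.1) := by
          rw [h4, h4']
          exact Nat.Coprime.mul_right ((Nat.Prime.coprime_iff_not_dvd hp).2 ha)
            ((Nat.Prime.coprime_iff_not_dvd hp).2 hb)
        obtain ⟨d, hd, c1, c2⟩ := exists_common_of_linear hL h1 h1' h3 h3' (by rwa [h4, h4'])
          (Nat.Coprime.coprime_dvd_left h2 (hab.pow_left k))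
          (Nat.Coprime.coprime_dvd_left h2' (hab.pow_left j))
        rw [h4] at c1
        rw [h4'] at c2
        exact (rel_reachable_of_not_coprime (b := ⟨d, hd⟩) c1).trans
          (rel_reachable_of_not_coprime (b := ⟨d, hd⟩) c2).symm
      · exact rel_reachable_of_not_coprime hc
    · exact (h' lam h1 ⟨k, h2⟩ χ a h3 h4).symm
  · obtain ⟨μ, ψ, c, h1, h2, h3, h4, h5⟩ := rel_exists_reachable_linear hL hp hpm b hb
    exact (h μ h1 h2 ψ c h3 h4).trans h5.symm

theorem rel_reachable_of_not_dvd_of_ne (hL : L ≤ commutator G) {p q : ℕ} (hp : p.Prime)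
    (hq : q.Prime) (hpq : p ≠ q) (hpm : p ∣ ⁅L, L⁆.relIndex L) (hqm : q ∣ ⁅L, L⁆.relIndex L)
    {a b : relCharDegrees L} (ha : ¬ p ∣ a.1) (hb : ¬ q ∣ b.1) :
    (commonDivisorGraph.induce (relCharDegrees L)).Reachable a b := by
  have hf : L.subtype.range ≤ commutator G := by rwa [range_subtype]
  obtain ⟨lam, χ, a', h1, ⟨k, h2⟩, h3, h4, h5⟩ := rel_exists_reachable_linear hL hp hpm a ha
  obtain ⟨μ, ψ, b', h1', ⟨j, h2'⟩, h3', h4', h5'⟩ := rel_exists_reachable_linear hL hq hqm b hb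
  have c : (orderOf lam).Coprime (orderOf μ) := Nat.Coprime.coprime_dvd_left h2
    (Nat.Coprime.coprime_dvd_right h2' (((Nat.coprime_primes hp hq).2 hpq).pow k j))
  have o : ∀ ν : L →* ℂˣ, (orderOf ν).Coprime (orderOf (detHom (IrrCharacter.one L).1)) := by
    intro ν
    rw [← IrrCharacter.ofLinear_one, detHom_ofLinear]
    simp
  obtain ⟨s, hs, h⟩ := exists_one_lt_dvd_of_linear hf h1
  obtain ⟨s', hs', h'⟩ := exists_one_lt_dvd_of_linear hf h1'
  obtain ⟨ξ, hξ, hx⟩ := exists_mem_relCharDegrees (linear_smul_ne_one_of_coprime h1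
    (θ := IrrCharacter.ofLinear μ) (by rwa [detHom_ofLinear]))
  refine h5.trans ((rel_reachable_of_dvd (b := ⟨_, hx⟩) hs
    (h4 ▸ h _ (by simp) (o _) χ (by simpa using h3))
    (h _ (by simp) (by rwa [detHom_ofLinear]) ξ hξ)).trans
    ((rel_reachable_of_dvd hs' (h' (IrrCharacter.ofLinear lam) (by simp)
      (by rw [detHom_ofLinear]; exact c.symm) ξ ?_)
      (h4' ▸ h' _ (by simp) (o _) ψ (by simpa using h3'))).trans h5'.symm))
  rw [IrrCharacter.linear_smul_ofLinear] at hξ ⊢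
  rwa [show μ * lam = lam * μ from mul_comm μ lam]

theorem rel_dichotomy (hL : L ≤ commutator G) {a b : relCharDegrees L}
    (h : ¬ (commonDivisorGraph.induce (relCharDegrees L)).Reachable a b) :
    (a.1.Coprime (⁅L, L⁆.relIndex L) ∧ ∀ r : ℕ, r.Prime → r ∣ ⁅L, L⁆.relIndex L → r ∣ b.1) ∨
    (b.1.Coprime (⁅L, L⁆.relIndex L) ∧ ∀ r : ℕ, r.Prime → r ∣ ⁅L, L⁆.relIndex L → r ∣ a.1) := by
  have key : ∀ {a b : relCharDegrees L},
      ¬ (commonDivisorGraph.induce (relCharDegrees L)).Reachable a b →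
      (∀ r : ℕ, r.Prime → r ∣ ⁅L, L⁆.relIndex L → r ∣ b.1) →
      a.1.Coprime (⁅L, L⁆.relIndex L) := by
    intro a b h hb
    by_contra hc
    obtain ⟨r, hr, h1, h2⟩ := Nat.Prime.not_coprime_iff_dvd.1 hc
    exact h (rel_reachable_of_dvd hr.one_lt h1 (hb r hr h2))
  by_cases hb : ∀ r : ℕ, r.Prime → r ∣ ⁅L, L⁆.relIndex L → r ∣ b.1
  · exact Or.inl ⟨key h hb, hb⟩
  push Not at hb
  obtain ⟨q, hq, hqm, hb⟩ := hb
  have ha : ∀ r : ℕ, r.Prime → r ∣ ⁅L, L⁆.relIndex L → r ∣ a.1 := by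
    intro p hp hpm
    by_contra ha
    by_cases e : p = q
    · subst e
      exact h (rel_reachable_of_not_dvd hL hp hpm ha hb)
    · exact h (rel_reachable_of_not_dvd_of_ne hL hp hq e hpm hqm ha hb)
  exact Or.inr ⟨key (fun h' => h h'.symm) ha, ha⟩

end Graph

end Cfsg
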