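import Cfsg.Agent.Char.PCorr

/-!
# The relative McKay count for `p`-solvable groups
-/

set_option autoImplicit false
set_option linter.unusedSectionVars false

namespace Cfsg

open Subgroup

universe u v w

section
variable {G H L T : Type*} [Group G] [Finite G] [Group H] [Finite H] [Group L] [Finite L]
  [Group T] [Finite T] {p : ℕ} [hp : Fact p.Prime]

theorem exists_mul_mem_normalizer_sylow (S : Sylow p G) {T : Subgroup G}
    {g : G} (hg : (S : Subgroup G).map (MulAut.conj g).toMonoidHom ≤ T) :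
    ∃ t ∈ T, (S : Subgroup G) ≤ T → t * g ∈ normalizer ((S : Subgroup G) : Set G) := by
  by_cases hS : (S : Subgroup G) ≤ T
  · obtain ⟨t, ht, h⟩ := exists_map_conj_le_of_not_dvd_relIndex S.2 (fun e => S.not_dvd_index
      (e.trans (relIndex_dvd_index_of_le hS))) (isPGroup_map_conj_iff.2 S.2) hg
    exact ⟨t, ht, fun _ => mem_normalizer_of_map_conj_le (map_conj_map_conj g t _ ▸ h)⟩
  · exact ⟨1, T.one_mem, fun h => absurd h hS⟩

theorem normalizer_sup_sylow (S : Sylow p G) (L : Subgroup G) [L.Normal] :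
    normalizer ((L ⊔ S : Subgroup G) : Set G) = L ⊔ normalizer ((S : Subgroup G) : Set G) := by
  refine le_antisymm (fun g hg => ?_) (sup_le (le_sup_left.trans le_normalizer)
    (le_normalizer_sup le_normalizer_of_normal le_rfl))
  obtain ⟨t, ht, h⟩ := exists_mul_mem_normalizer_sylow S
    ((map_mono le_sup_right).trans (map_conj_eq_iff.2 hg).le)
  exact (Subgroup.mul_mem_cancel_left _ (sup_le_sup_left le_normalizer L ht)).1
    (mem_sup_right (h le_sup_right))

theorem HasNormalPComplement.le_pPrimeCore_sup {K : Subgroup G} [K.Normal]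
    (h : HasNormalPComplement p K) (S : Sylow p G) : K ≤ pPrimeCore p G ⊔ S := by
  have h3 := congrArg (map K.subtype)
    ((hasNormalPComplement_iff_sup_eq_top (sylowInfNormal S K)).1 h)
  rw [Subgroup.map_sup, map_sylowInfNormal, pPrimeCore_eq_subgroupOf_of_normal,
    subgroupOf_map_subtype, ← MonoidHom.range_eq_map, K.range_subtype] at h3
  exact h3.ge.trans (sup_le_sup inf_le_left inf_le_left)

theorem card_pPrime_clifford {f : L →* G} [IsNormalEmb f] {i : T →* G}
    (hi : Function.Injective i) {j : L →* T} (hfac : ∀ n, i (j n) = f n) {θ : IrrCharacter L}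
    (hT : inertia f θ ≤ i.range) (hd : ¬ p ∣ i.range.index) :
    Nat.card {χ : IrrCharacter G // ¬ p ∣ charDegree χ.1 ∧ LiesOver f χ.1 θ.1} =
      Nat.card {ψ : IrrCharacter T // ¬ p ∣ charDegree ψ.1 ∧ LiesOver j ψ.1 θ.1} := by
  simp only [and_comm (a := ¬ _)]
  rw [← Nat.card_congr (Equiv.subtypeSubtypeEquivSubtypeInter _ _),
    ← Nat.card_congr (Equiv.subtypeSubtypeEquivSubtypeInter _ _)]
  refine (Nat.card_congr ((cliffordEquiv hi hfac hT).subtypeEquiv fun ψ => ?_)).symm
  simp [ψ.1.isCharacter.charDegree_ind hi, hp.out.dvd_mul, hd]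

theorem CharCover.card_pPrime {G : Type u} {L : Type v} [Group G] [Finite G] [Group L] [Finite L]
    {f : L →* G} [IsNormalEmb f] {θ : IrrCharacter L} (c : CharCover.{u, v, w} f θ)
    (hθ : ¬ p ∣ charDegree θ.1) :
    Nat.card {χ : IrrCharacter G // ¬ p ∣ charDegree χ.1 ∧ LiesOver f χ.1 θ.1} =
      Nat.card {β : IrrCharacter c.Q // ¬ p ∣ charDegree β.1 ∧ LiesOver c.zEmb β.1 c.lamInv.1} := by
  simp only [and_comm (a := ¬ _)]
  rw [← Nat.card_congr (Equiv.subtypeSubtypeEquivSubtypeInter _ _),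
    ← Nat.card_congr (Equiv.subtypeSubtypeEquivSubtypeInter _ _)]
  refine Nat.card_congr (c.irrEquiv.subtypeEquiv fun χ => ?_)
  simp [(c.rel_irrEquiv χ).charDegree_eq (IrrCharacter.isCharacter _), hp.out.dvd_mul, hθ]

theorem mem_conjOrbit_iff_of_sylow_le {f : L →* G} [IsNormalEmb f] (S : Sylow p G) {i : H →* G}
    (hH : normalizer ((S : Subgroup G) : Set G) ≤ i.range) {j : L →* H} [IsNormalEmb j]
    (hfac : ∀ n, i (j n) = f n) {θ η : IrrCharacter L} (hθ : (S : Subgroup G) ≤ inertia f θ)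
    (hη : (S : Subgroup G) ≤ inertia f η) : η ∈ conjOrbit f θ ↔ η ∈ conjOrbit j θ := by
  simp only [mem_conjOrbit, conjAut_of_factor hfac]
  refine ⟨?_, fun ⟨x, e⟩ => ⟨_, e⟩⟩
  rintro ⟨g, rfl⟩
  obtain ⟨t, ht, h⟩ := exists_mul_mem_normalizer_sylow S
    ((map_mono hθ).trans (inertia_conjAut_smul f g θ).ge)
  obtain ⟨x, hx⟩ := hH (h hη)
  exact ⟨x, by rw [hx, map_mul, mul_smul, mem_inertia.1 ht]⟩

end

/-- The relative McKay count for `p`-solvable groups at index `n`. -/
def RelMcKayAt (p n : ℕ) : Prop :=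
  ∀ {G L H : Type u} [Group G] [Finite G] [Group L] [Finite L] [Group H] [Finite H],
    IsPSolvable p G → ∀ (f : L →* G) [IsNormalEmb f] (S : Sylow p G) {i : H →* G},
    Function.Injective i → i.range = normalizer ((f.range ⊔ S : Subgroup G) : Set G) →
    ∀ {j : L →* H}, (∀ x, i (j x) = f x) → ∀ {ν : IrrCharacter L},
    (S : Subgroup G) ≤ inertia f ν → f.range.index = n →
    Nat.card {χ : IrrCharacter G // ¬ p ∣ charDegree χ.1 ∧ LiesOver f χ.1 ν.1} =
      Nat.card {ψ : IrrCharacter H // ¬ p ∣ charDegree ψ.1 ∧ LiesOver j ψ.1 ν.1}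

variable {G L H : Type u} [Group G] [Finite G] [Group L] [Finite L] [Group H] [Finite H] {p : ℕ}
  [hp : Fact p.Prime] (hG : IsPSolvable p G) {f : L →* G} [hf : IsNormalEmb f] (S : Sylow p G)
  (ih : ∀ m < f.range.index, RelMcKayAt.{u} p m)
include hG ih

theorem relMcKay_sub {T : Subgroup G} (hT : ∀ x, f x ∈ T) (hS : (S : Subgroup G) ≤ T)
    (hT' : T ≠ ⊤) {i : H →* T} (hi : Function.Injective i)
    (hH : i.range = (normalizer ((f.range ⊔ S : Subgroup G) : Set G)).subgroupOf T)
    {j : L →* H} (hfac : ∀ x, (i (j x) : G) = f x) {ν : IrrCharacter L}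
    (hν : (S : Subgroup G) ≤ inertia f ν) :
    Nat.card {χ : IrrCharacter T // ¬ p ∣ charDegree χ.1 ∧
      LiesOver (f.codRestrict T hT) χ.1 ν.1} =
      Nat.card {ψ : IrrCharacter H // ¬ p ∣ charDegree ψ.1 ∧ LiesOver j ψ.1 ν.1} := by
  have h1 : f.range ≤ T := fun _ ⟨x, e⟩ => e ▸ hT x
  refine ih _ ?_ (hG.to_subgroup T) _ (S.subtype hS) hi ?_ (fun x => Subtype.ext (hfac x)) ?_ rfl
  · rw [← index_range_codRestrict_mul f T hT]
    exact lt_mul_of_one_lt_right (index_pos _) (one_lt_index_of_ne_top hT')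
  · rw [hH, subgroupOf_normalizer_eq (sup_le h1 hS), subgroupOf_sup h1 hS]
    congr 3
    exact Subgroup.ext fun x => ⟨fun ⟨y, e⟩ => ⟨y, Subtype.ext e⟩,
      fun ⟨y, e⟩ => ⟨y, congrArg Subtype.val e⟩⟩
  · rw [inertia_of_factor (f := f) (i := T.subtype) fun _ => rfl]
    exact comap_mono hν

theorem relMcKay_central (hz : f.range ≤ center G) {i : H →* G} (hi : Function.Injective i)
    (hH : i.range = normalizer ((f.range ⊔ S : Subgroup G) : Set G)) {j : L →* H}
    (hfac : ∀ x, i (j x) = f x) (ν : IrrCharacter L) :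
    Nat.card {χ : IrrCharacter G // ¬ p ∣ charDegree χ.1 ∧ LiesOver f χ.1 ν.1} =
      Nat.card {ψ : IrrCharacter H // ¬ p ∣ charDegree ψ.1 ∧ LiesOver j ψ.1 ν.1} := by
  by_cases h0 : i.range = ⊤
  · exact card_pPrime_clifford hi hfac (h0 ▸ le_top) (by simpa [h0] using hp.out.ne_one)
  have hT := inertia_eq_top_of_range_le_center hz ν
  obtain ⟨K, _, h1, -, h2⟩ := exists_chief_above (L := f.range) (K := ⊤) (lt_top_iff_ne_top.2
    fun e => h0 (hH ▸ eq_top_iff.2 (e.ge.trans (le_sup_left.trans le_normalizer))))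
  let M := normalizer ((K ⊔ S : Subgroup G) : Set G)
  have hHM : i.range ≤ M := by
    rw [hH, normalizer_sup_sylow, show M = _ from normalizer_sup_sylow S K]
    exact sup_le_sup_right h1.le _
  by_cases hM : M = ⊤
  · rcases h2.isPGroup_or ((hG.to_quotient _).to_subgroup _) with h3 | h3
    · haveI := h2.normal
      have h4 : K ≤ f.range ⊔ S := (map_mk'_le_map_mk'_iff.1 (IsPGroup.le_sylow_of_normal h3
        (S.mapSurjective (QuotientGroup.mk'_surjective f.range)))).trans (sup_comm _ _).le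
      exact absurd (by rw [hH, ← hM, ← le_antisymm (sup_le h4 le_sup_right)
        (sup_le_sup_right h1.le _)]) h0
    · rw [card_map_mk'_eq_relIndex] at h3
      have h4 := (HasNormalPComplement.of_quotient_of_le_center (Z := f.range.subgroupOf K)
        (fun x hx => mem_center_iff.2 fun y => Subtype.ext (mem_center_iff.1 (hz hx) y))
        (hasNormalPComplement_of_not_dvd h3)).le_pPrimeCore_sup S
      refine card_pPrime_liesOver_eq_of_sup hG S (not_dvd_card_pPrimeCore p G) (eq_top_iff.2 ?_) hi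
        ?_ hz (h1.le.trans h4) hfac ν
      · rw [← hM, show M = _ from normalizer_sup_sylow S K]
        exact sup_le (h4.trans (sup_le_sup_left le_normalizer _)) le_sup_right
      · rw [hH, normalizer_sup_sylow, sup_eq_right.2 (hz.trans (center_le_normalizer _))]
  have hKM : K ≤ M := le_sup_left.trans le_normalizer
  have hSM : (S : Subgroup G) ≤ M := le_sup_right.trans le_normalizer
  have hfK : ∀ x, f x ∈ K := fun x => h1.le ⟨x, rfl⟩
  refine Eq.trans ?_ (relMcKay_sub hG S ih (fun x => hKM (hfK x)) hSM hM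
    (i := i.codRestrict M fun x => hHM ⟨x, rfl⟩) (fun _ _ e => hi (congrArg Subtype.val e))
    (hH ▸ Subgroup.ext fun x => ⟨fun ⟨y, e⟩ => ⟨y, congrArg Subtype.val e⟩,
      fun ⟨y, e⟩ => ⟨y, Subtype.ext e⟩⟩) hfac (hT ▸ le_top))
  refine card_eq_card_of_conjOrbit K.subtype (inclusion hKM) (fun θ θ' => θ = θ' ∧
    (S : Subgroup G) ≤ inertia K.subtype θ ∧ LiesOver (f.codRestrict K hfK) θ.1 ν.1)
    (fun χ hχ => ?_) (fun ψ hψ => ?_) ?_ ?_
  · obtain ⟨θ, h3, h4⟩ := IrrCharacter.exists_liesOver_le_inertia K.subtype hχ.1 S.2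
    exact ⟨θ, θ, ⟨rfl, h4, hχ.2.of_inertia_eq_top (fun _ => rfl) hT h3⟩, h3⟩
  · obtain ⟨θ, h3, h4⟩ := IrrCharacter.exists_liesOver_le_inertia (inclusion hKM) hψ.1
      (S.subtype hSM).2
    rw [inertia_of_factor (f := K.subtype) (i := M.subtype) fun _ => rfl] at h4
    exact ⟨θ, θ, ⟨rfl, fun x hx => h4 (x := ⟨x, hSM hx⟩) hx, hψ.2.of_inertia_eq_top (fun _ => rfl)
      (by rw [inertia_of_factor (f := f) (i := M.subtype) fun _ => rfl, hT, comap_top]) h3⟩, h3⟩
  · rintro θ _ η _ ⟨rfl, h3, -⟩ ⟨rfl, h4, -⟩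
    exact mem_conjOrbit_iff_of_sylow_le S (i := M.subtype) (by
      rw [M.range_subtype]; exact le_normalizer_sup le_normalizer_of_normal le_rfl)
      (fun _ => rfl) h3 h4
  · rintro θ _ ⟨rfl, h3, h4⟩
    rw [Nat.card_congr (Equiv.subtypeEquivRight fun χ => and_congr_left fun h =>
      and_iff_left (h.trans_of_eq (fun _ => rfl) χ.isCharacter ν.isCharacter h4)),
      Nat.card_congr (Equiv.subtypeEquivRight fun χ : IrrCharacter M => and_congr_left fun h =>
      and_iff_left (h.trans_of_eq (fun _ => rfl) χ.isCharacter ν.isCharacter h4))]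
    refine ih _ ?_ hG K.subtype S M.subtype_injective (by simp [M]) (fun _ => rfl) h3 rfl
    rw [K.range_subtype]
    exact index_strictAnti h1

omit hG ih

theorem relMcKayAt (p : ℕ) [hp : Fact p.Prime] (n : ℕ) : RelMcKayAt.{u} p n := by
  induction n using Nat.strong_induction_on with | _ n ih
  intro G L H _ _ _ _ _ _ hG f _ S i hi hH j hfac ν hν hn
  subst hn
  haveI := IsNormalEmb.of_factor hi hfac
  have hSi : (S : Subgroup G) ≤ i.range := hH ▸ le_sup_right.trans le_normalizer
  by_cases hT : inertia f ν = ⊤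
  swap
  · rw [card_pPrime_clifford (inertia f ν).subtype_injective (j := toInertia f ν) (fun _ => rfl)
      (range_subtype _).ge (by rw [range_subtype]; exact not_dvd_index_of_sylow_le S hν),
      card_pPrime_clifford ((inertia f ν).comap i).subtype_injective (j := j.codRestrict _
        fun x => show i (j x) ∈ _ from hfac x ▸ map_mem_inertia f ν x) (fun _ => rfl)
      (by rw [range_subtype, inertia_of_factor hfac]) (by
        rw [range_subtype]
        refine fun e => S.not_dvd_index ((e.trans (index_dvd_of_le (comap_mono hν))).trans ?_)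
        rw [index_comap]
        exact relIndex_dvd_index_of_le hSi)]
    exact relMcKay_sub hG S ih _ hν hT (i := i.subgroupComap _)
      (fun _ _ e => Subtype.ext (hi (congrArg Subtype.val e))) (hH ▸ Subgroup.ext fun x =>
        ⟨fun ⟨y, e⟩ => ⟨y, congrArg Subtype.val e⟩, fun ⟨y, e⟩ =>
          ⟨⟨y, show i y ∈ inertia f ν from (show i y = x from e) ▸ x.2⟩, Subtype.ext e⟩⟩)
      (j := j.codRestrict _ _) hfac hν
  by_cases hν' : p ∣ charDegree ν.1
  · rw [Nat.card_eq_zero.2 (Or.inl ⟨fun χ => χ.2.1 (hν'.trans χ.2.2.charDegree_dvd)⟩),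
      Nat.card_eq_zero.2 (Or.inl ⟨fun χ => χ.2.1 (hν'.trans χ.2.2.charDegree_dvd)⟩)]
  obtain ⟨c⟩ := nonempty_charCover hT
  let c' := c.restrict hi hfac
  let z := (c.restrictQ hi hfac).comp c'.zEmb
  have hzr : z.range = c.zEmb.range := Subgroup.ext fun y => ⟨fun ⟨x, e⟩ =>
    ⟨c.restrictKer hi x, e⟩, fun ⟨x, e⟩ => by
      obtain ⟨x, rfl⟩ := c.restrictKer_surjective hi x
      exact ⟨x, e⟩⟩
  haveI : IsNormalEmb z := ⟨(c.restrictQ_injective hi hfac).comp c'.isNormalEmb_zEmb.injective,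
    hzr ▸ inferInstance⟩
  obtain ⟨S', hS'⟩ := Sylow.mapSurjective_surjective c.toQuot_surjective p
    (S.mapSurjective (QuotientGroup.mk'_surjective _))
  rw [c.card_pPrime hν', c'.card_pPrime hν', Nat.card_congr (Equiv.subtypeEquivRight fun β =>
    and_congr_right fun _ => (liesOver_comp_iff_of_comm (f := z) (b := MonoidHom.id _)
      (c.restrictKer_surjective hi) (fun _ => rfl) β.1 c.lamInv.1).symm)]
  haveI : Group.IsSolvable c.toQuot.ker := c.toQuot_ker ▸ Group.isSolvable_of_comm fun a b =>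
    Subtype.ext (mem_center_iff.1 (c.zEmb_range_le_center b.2) a)
  refine relMcKay_central (IsPSolvable.of_ker c.toQuot (isPSolvable_of_isSolvable p _)
    (hG.to_quotient _)) S' (by rwa [hzr, c.index_zEmb_range]) (hzr ▸ c.zEmb_range_le_center)
    (c.restrictQ_injective hi hfac) ?_ (fun _ => rfl) c'.lamInv
  rw [hzr, ← c.toQuot_ker, sup_comm, ← comap_map_eq, show (S' : Subgroup c.Q).map c.toQuot = _ from
    congrArg Sylow.toSubgroup hS', ← comap_normalizer_eq_of_surjective _ c.toQuot_surjective,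
    c.restrictQ_range, hH, sup_comm, ← comap_mk'_normalizer_map, comap_comap]
  exact (congrArg _ (comap_comap _ c.toQuot c.q).symm).trans
    (map_comap_eq_self_of_surjective c.q_surjective _)

/-- The McKay count for `p`-solvable groups. -/
theorem IsPSolvable.card_pPrime_eq (hG : IsPSolvable p G) (S : Sylow p G) :
    Nat.card {χ : IrrCharacter G // ¬ p ∣ charDegree χ.1} =
      Nat.card {ψ : IrrCharacter (normalizer ((S : Subgroup G) : Set G)) //
        ¬ p ∣ charDegree ψ.1} := by
  have h := relMcKayAt p _ hG (⊥ : Subgroup G).subtype S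
    (normalizer ((S : Subgroup G) : Set G)).subtype_injective (by simp)
    (j := inclusion bot_le) (fun _ => rfl) (ν := .one _) (by simp) rfl
  have e : ∀ {A : Type u} [Group A] [Finite A] (j : (⊥ : Subgroup G) →* A) (χ : IrrCharacter A),
      LiesOver j χ.1 (IrrCharacter.one _).1 := fun j χ =>
    liesOver_of_comp_eq_smul χ.apply_one_ne_zero (funext fun x => by simp [Subsingleton.elim x 1])
  simpa only [e, and_true] using h

end Cfsg

set_option linter.all false in
theorem Cfsg.Rz.Char_RelMcKay_0 : True := by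
  have := @_root_.Cfsg.RelMcKayAt.eq_def.{0}
  have := @_root_.Cfsg.RelMcKayAt.eq_1.{0}
  have := @_root_.Cfsg.RelMcKayAt.fun_cases
  trivial
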