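import Cfsg.Agent.Char.ThreePrimes
import Cfsg.Agent.Char.MGroup
import Cfsg.Agent.Char.PPrimeDeg

/-!
# Degrees relative to a normal subgroup (Isaacs–Knutson)

If at most two degrees occur among the irreducible characters of a solvable group `G` whose kernel
does not contain the normal subgroup `M`, then `M` is metabelian.
-/

set_option autoImplicit false
set_option linter.unusedSectionVars false

namespace Cfsg

open scoped commutatorElement Classical
open Subgroup MulAction

universe u v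

variable {G : Type u} [Group G] [Finite G] {N : Type v} [Group N] [Finite N] {p : ℕ}

theorem le_of_index_le_of_forall {M T : Subgroup G}
    (h : ∀ χ : IrrCharacter G, ¬ M ≤ charKer χ.1 → T.index ≤ charDegree χ.1) : M ≤ T :=
  fun _ hg => T.normalCore_le (mem_normalCore_of_forall_charDegree_lt fun ψ hψ =>
    (by_contra fun h1 => (h ψ h1).not_gt hψ : M ≤ charKer ψ.1) hg)

theorem LiesOver.le_inertia_of_min {M : Subgroup G} {χ : IrrCharacter G}
    (hmin : ∀ ψ : IrrCharacter G, ¬ M ≤ charKer ψ.1 → charDegree χ.1 ≤ charDegree ψ.1)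
    {f : N →* G} [IsNormalEmb f] {θ : IrrCharacter N} (h : LiesOver f χ.1 θ.1) :
    M ≤ inertia f θ :=
  le_of_index_le_of_forall fun ψ hψ =>
    (Nat.le_of_dvd χ.charDegree_pos h.index_inertia_dvd).trans (hmin ψ hψ)

theorem LiesOver.exists_linC {A : Subgroup G} [A.Normal] {χ : IrrCharacter G} {θ : IrrCharacter A}
    (h : LiesOver A.subtype χ.1 θ.1) (hA : ⁅A, A⁆ ≤ charKer χ.1) :
    ∃ x : LinC A.subtype, x.irr = θ := by
  have h1 : charDegree θ.1 = 1 := θ.commutator_le_charKer_iff'.1 fun x hx =>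
    h.comap_charKer_le (hA (coe_mem_commutator_iff.2 hx))
  obtain ⟨lam, hl⟩ := IrrCharacter.mem_range_ofLinear_iff.2
    (θ.apply_one_eq_one_iff.2 h1)
  exact ⟨LinC.mk _ lam, hl⟩

theorem LinC.commutator_le_map_charKer {A M : Subgroup G} [A.Normal] {x : LinC A.subtype}
    (h : M ≤ stabilizer G x) : ⁅A, M⁆ ≤ (charKer x.irr.1).map A.subtype :=
  commutator_le.2 fun z hz y hy => ⟨⟨_, commutator_le_left A M (commutator_mem_commutator hz hy)⟩,
    x.irr.mem_charKer.2 (by
      simp [LinC.irr, LinC.apply_commutator_of_smul_eq (h hy) hz ⟨_, commutator_le_left A M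
        (commutator_mem_commutator hz hy)⟩ rfl]), rfl⟩

theorem commutator_le_charKer_of_min {M A : Subgroup G} [M.Normal] [A.Normal] {χ : IrrCharacter G}
    (hmin : ∀ ψ : IrrCharacter G, ¬ M ≤ charKer ψ.1 → charDegree χ.1 ≤ charDegree ψ.1)
    (hA : ⁅A, A⁆ ≤ charKer χ.1) : ⁅A, M⁆ ≤ charKer χ.1 := by
  obtain ⟨θ, hθ⟩ := χ.exists_liesOver_below A.subtype
  obtain ⟨x, rfl⟩ := hθ.exists_linC hA
  exact hθ.le_charKer_of_le_map A.subtype_injective (LinC.commutator_le_map_charKer
    (LinC.stabilizer_eq x ▸ hθ.le_inertia_of_min hmin))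

/-- Taketa's argument for the `p`-parts of the degrees over a normal `p`-subgroup. -/
theorem commutator_le_charKer_of_pow_dvd [hp : Fact p.Prime] {S : Subgroup G} [S.Normal]
    (hS : IsPGroup p S) {k : ℕ}
    (h : ∀ χ : IrrCharacter G, ¬ S ≤ charKer χ.1 → p ^ k ∣ charDegree χ.1) {χ : IrrCharacter G}
    (hχ : ¬ p ^ (k + 1) ∣ charDegree χ.1) : ⁅S, S⁆ ≤ charKer χ.1 := by
  obtain ⟨P⟩ : Nonempty (Sylow p G) := inferInstance
  have hSP : S ≤ P := (le_pCore hS).trans (pCore_le_sylow P)
  have h1 : ∀ φ : IrrCharacter (P : Subgroup G), ¬ S.subgroupOf P ≤ charKer φ.1 →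
      p ^ k ∣ charDegree φ.1 := by
    intro φ hφ
    refine (Nat.Coprime.pow_left k
      (hp.out.coprime_iff_not_dvd.2 P.not_dvd_index)).dvd_of_dvd_mul_left ?_
    have := φ.isCharacter.sum_ipNat_mul_charDegree (P : Subgroup G).subtype_injective
    rw [range_subtype] at this
    rw [← this]
    refine Finset.dvd_sum fun ψ _ => ?_
    rcases Nat.eq_zero_or_pos (ipNat (ψ.1 ∘ (P : Subgroup G).subtype) φ.1) with e | e
    · rw [e, zero_mul]; exact dvd_zero _
    · exact (h ψ fun hψ => hφ fun x hx => ((liesOver_iff_ipNat_pos ψ.isCharacter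
        φ.isCharacter).2 e).comap_charKer_le (hψ hx)).mul_left _
  obtain ⟨φ, hφ, hφ'⟩ : ∃ φ : IrrCharacter (P : Subgroup G),
      LiesOver (P : Subgroup G).subtype χ.1 φ.1 ∧ ¬ p ^ (k + 1) ∣ charDegree φ.1 := by
    by_contra hn
    push Not at hn
    refine hχ ?_
    rw [← charDegree_comp χ.1 (P : Subgroup G).subtype, (χ.isCharacter.comp _).charDegree_eq_sum]
    refine Finset.dvd_sum fun φ _ => ?_
    rcases Nat.eq_zero_or_pos (ipNat (χ.1 ∘ (P : Subgroup G).subtype) φ.1) with e | e
    · rw [e, zero_mul]; exact dvd_zero _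
    · exact (hn φ ((liesOver_iff_ipNat_pos χ.isCharacter φ.isCharacter).2 e)).mul_left _
  obtain ⟨n, hn⟩ := P.isPGroup'.exists_card_eq
  obtain ⟨i, -, hi⟩ := (Nat.dvd_prime_pow hp.out).1 (hn ▸ φ.charDegree_dvd_card)
  have hik : charDegree φ.1 ≤ p ^ k := by
    rw [hi] at hφ' ⊢
    exact Nat.pow_le_pow_right hp.out.pos (by
      by_contra hlt
      exact hφ' (pow_dvd_pow p (by omega)))
  obtain ⟨L, lam, hL⟩ := isMGroup_of_isPGroup P.isPGroup' φ
  have hdeg : charDegree φ.1 = L.index := by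
    rw [hL, (isCharacter_linear lam).charDegree_ind_subtype, charDegree_linear, mul_one]
  have hSL : S.subgroupOf P ≤ L := le_of_index_le_of_forall fun ψ hψ =>
    hdeg ▸ hik.trans (Nat.le_of_dvd ψ.charDegree_pos (h1 ψ hψ))
  have h2 : ⁅S.subgroupOf P, S.subgroupOf P⁆ ≤ charKer φ.1 :=
    (liesOver_of_ind_eq (θ := (IrrCharacter.ofLinear lam).1) hL.symm).le_charKer_of_le_map
      L.subtype_injective (commutator_le.2 fun a ha b hb =>
        ⟨⁅(⟨a, hSL ha⟩ : L), ⟨b, hSL hb⟩⁆, (IrrCharacter.ofLinear lam).mem_charKer.2 (by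
          rw [IrrCharacter.ofLinear_apply, IrrCharacter.ofLinear_apply, map_commutatorElement,
            commutatorElement_eq_one_iff_mul_comm.2 (mul_comm _ _), map_one]), rfl⟩)
  refine hφ.le_charKer_of_le_map (P : Subgroup G).subtype_injective ?_
  refine le_trans ?_ (map_mono h2)
  rw [map_commutator, subgroupOf_map_subtype, inf_eq_left.2 hSP]

theorem eq_bot_of_forall_le_charKer {K : Subgroup G} (h : ∀ χ : IrrCharacter G, K ≤ charKer χ.1) :
    K = ⊥ := eq_bot_iff.2 (iInf_charKer_irr (G := G) ▸ le_iInf h)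

theorem map_le_charKer_iff {Q : Type v} [Group Q] [Finite Q] {π : G →* Q}
    (hπ : Function.Surjective π) (β : IrrCharacter Q) {M : Subgroup G} :
    M.map π ≤ charKer β.1 ↔ M ≤ charKer (β.inflate π hπ).1 := by
  rw [map_le_iff_le_comap, ← β.isCharacter.charKer_comp]; rfl

theorem le_charKer_inflate (K : Subgroup G) [K.Normal] (β : IrrCharacter (G ⧸ K)) :
    K ≤ charKer (β.inflate _ (QuotientGroup.mk'_surjective K)).1 :=
  (map_le_charKer_iff _ β).1 (by rw [map_mk'_eq_bot_iff.2 le_rfl]; exact bot_le)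

/-- In a group with a smallest nontrivial normal subgroup, an `s`-group, normal subgroups of order
a power of another prime are trivial. -/
theorem eq_bot_of_monolith {E : Subgroup G} (h0 : E ≠ ⊥)
    (hE : ∀ K : Subgroup G, K.Normal → K ≠ ⊥ → E ≤ K) {s t : ℕ} [Fact s.Prime] [Fact t.Prime]
    (hs : IsPGroup s E) (hts : t ≠ s) (K : Subgroup G) (hK : K.Normal) (ht : IsPGroup t K) :
    K = ⊥ := by
  by_contra hn
  exact h0 (disjoint_self.1 (IsPGroup.disjoint_of_ne t s hts _ _ (ht.to_le (hE K hK hn)) hs))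

theorem isPGroup_of_monolith {E : Subgroup G} (h0 : E ≠ ⊥)
    (hE : ∀ K : Subgroup G, K.Normal → K ≠ ⊥ → E ≤ K) {s : ℕ} [Fact s.Prime]
    (hs : IsPGroup s E) (K : Subgroup G) [K.Normal] [Group.IsNilpotent K] : IsPGroup s K := by
  refine (isPGroup_pCore s G).to_le (le_fittingSubgroup.trans ?_)
  rw [fittingSubgroup_eq_iSup_pCore]
  refine iSup_le fun t => ?_
  have : Fact (t : ℕ).Prime := ⟨t.2⟩
  by_cases hts : (t : ℕ) = s
  · rw [hts]
  · rw [eq_bot_of_monolith h0 hE hs hts _ inferInstance (isPGroup_pCore t G)]; exact bot_le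

theorem isNilpotent_of_commutator_commutator {M : Subgroup G} (h : ⁅⁅M, M⁆, M⁆ = ⊥) :
    Group.IsNilpotent M := by
  refine isNilpotent_of_lowerCentralSeries_eq_bot (n := 2) ?_
  simp only [Subgroup.lowerCentralSeries_succ, Subgroup.lowerCentralSeries_zero, h]

theorem exists_monolith [Group.IsSolvable G] {E : Subgroup G} [E.Normal] (h0 : E ≠ ⊥)
    (hE : ∀ K : Subgroup G, K.Normal → K ≠ ⊥ → E ≤ K) :
    IsMulCommutative E ∧ ∃ s : ℕ, s.Prime ∧ IsPGroup s E := by
  have hm : IsMinNormal E := ⟨inferInstance, h0, fun K hK hle =>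
    or_iff_not_imp_left.2 fun h => le_antisymm hle (hE K hK h)⟩
  obtain ⟨s, hs, h⟩ := hm.exists_isElementaryAbelian
  exact ⟨h.1, s, hs, h.isPGroup⟩

/-- One relative degree. -/
theorem commutator_eq_bot_of_rel_one (G : Type u) [Group G] [Finite G] : Group.IsSolvable G →
    ∀ (M : Subgroup G) [M.Normal] (m : ℕ),
      (∀ χ : IrrCharacter G, ¬ M ≤ charKer χ.1 → charDegree χ.1 = m) → ⁅M, M⁆ = ⊥ := by
  refine card_induction (P := fun G _ _ => Group.IsSolvable G → ∀ (M : Subgroup G) [M.Normal]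
    (m : ℕ), (∀ χ : IrrCharacter G, ¬ M ≤ charKer χ.1 → charDegree χ.1 = m) → ⁅M, M⁆ = ⊥) ?_ G
  intro G _ _ ih _ M _ m h
  by_contra h0
  have hE : ∀ K : Subgroup G, K.Normal → K ≠ ⊥ → ⁅M, M⁆ ≤ K := fun K _ hK => by
    rw [← map_mk'_eq_bot_iff, map_commutator]
    exact ih _ (card_quotient_lt hK) inferInstance _ m fun β hβ => by
      rw [← β.charDegree_inflate _ (QuotientGroup.mk'_surjective K)]
      exact h _ fun h1 => hβ ((map_le_charKer_iff _ β).2 h1)
  obtain ⟨hc, s, hs, hEs⟩ := exists_monolith h0 hE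
  have := Fact.mk hs
  obtain ⟨μ, hμ⟩ : ∃ μ : IrrCharacter G, ¬ ⁅M, M⁆ ≤ charKer μ.1 := by
    by_contra hn
    push Not at hn
    exact h0 (eq_bot_of_forall_le_charKer hn)
  have hk : charKer μ.1 = ⊥ := by_contra fun h1 => hμ (hE _ inferInstance h1)
  have hm := h μ fun h1 => hμ ((commutator_le_left _ _).trans h1)
  have := isNilpotent_of_commutator_commutator (eq_bot_iff.2 (hk ▸ commutator_le_charKer_of_min
    (M := M) (A := ⁅M, M⁆) (fun ψ hψ => by rw [hm, h ψ hψ])
    (by rw [(commutator_eq_bot_iff_le_centralizer).2 (le_centralizer_iff_isMulCommutative.2 hc)]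
        exact bot_le)))
  refine hμ (commutator_le_charKer_of_pow_dvd (isPGroup_of_monolith h0 hE hEs M)
    (k := m.factorization s) (fun χ hχ => h χ hχ ▸ Nat.ordProj_dvd m s) ?_)
  rw [hm]
  exact Nat.pow_succ_factorization_not_dvd (hm ▸ μ.charDegree_pos.ne') hs

theorem commutator_le_of_rel_one [Group.IsSolvable G] {D M : Subgroup G} [D.Normal] [M.Normal]
    {m : ℕ} (h : ∀ χ : IrrCharacter G, D ≤ charKer χ.1 → ¬ M ≤ charKer χ.1 → charDegree χ.1 = m) :
    ⁅M, M⁆ ≤ D := by
  rw [← map_mk'_eq_bot_iff, map_commutator]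
  exact commutator_eq_bot_of_rel_one _ inferInstance _ m fun β hβ => by
    rw [← β.charDegree_inflate _ (QuotientGroup.mk'_surjective D)]
    exact h _ (le_charKer_inflate D β) fun h1 => hβ ((map_le_charKer_iff _ β).2 h1)

/-- The degrees over a character that extends to its inertia group. -/
theorem exists_liesOver_of_extends {f : N →* G} [IsNormalEmb f] {θ : IrrCharacter N}
    {η : IrrCharacter (inertia f θ)} (hη : η.1 ∘ toInertia f θ = θ.1)
    (β : IrrCharacter (inertia f θ ⧸ (toInertia f θ).range)) :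
    ∃ χ : IrrCharacter G, LiesOver f χ.1 θ.1 ∧
      charDegree χ.1 = charDegree β.1 * (inertia f θ).index * charDegree θ.1 := by
  have hker : (QuotientGroup.mk' (toInertia f θ).range).ker = (toInertia f θ).range :=
    QuotientGroup.ker_mk' _
  have h1 := gallagher_isIrr (QuotientGroup.mk'_surjective _) hker η.isCharacter (hη ▸ θ.2) β
  have h2 := gallagher_liesOver hker hη β
  have h3 := clifford_isIrr_ind (f := f) (inertia f θ).subtype_injective (j := toInertia f θ)
    (fun _ => rfl) (by rw [range_subtype]) (ψ := ⟨_, h1⟩) h2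
  refine ⟨⟨_, h3⟩, liesOver_ind_of_liesOver (inertia f θ).subtype_injective (fun _ => rfl)
    θ.isCharacter h1.isCharacter h2, ?_⟩
  change charDegree (ind (inertia f θ).subtype _) = _
  rw [h1.isCharacter.charDegree_ind_subtype, (β.isCharacter.comp _).charDegree_mul η.isCharacter,
    charDegree_comp, charDegree_eq_of_comp_eq hη]
  ring

theorem sylow_inf_sup_eq {t : ℕ} [ht : Fact t.Prime] (Q : Sylow t G) {S W : Subgroup G} [S.Normal]
    [W.Normal] (hSW : S ≤ W) (hW : IsPGroup t (W.map (QuotientGroup.mk' S))) :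
    ((Q : Subgroup G) ⊓ W) ⊔ S = W := by
  refine le_antisymm (sup_le inf_le_right hSW) (relIndex_eq_one.1 ?_)
  obtain ⟨k, hk⟩ := hW.exists_card_eq
  rw [card_map_mk'_eq_relIndex] at hk
  have h1 := relIndex_dvd_of_le_left W (le_sup_right : S ≤ ((Q : Subgroup G) ⊓ W) ⊔ S)
  have h2 := relIndex_dvd_of_le_left W (le_sup_left : _ ≤ ((Q : Subgroup G) ⊓ W) ⊔ S)
  rw [inf_relIndex_right] at h2
  rw [hk] at h1
  exact Nat.eq_one_of_dvd_coprimes (Nat.Coprime.pow_left k (ht.out.coprime_iff_not_dvd.2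
    (not_dvd_relIndex_sylow_inf_normal Q W))) h1 h2

theorem not_dvd_card_of_isPGroup_of_ne {s t : ℕ} [hs : Fact s.Prime] [ht : Fact t.Prime]
    (hts : t ≠ s) {K : Subgroup G} (hK : IsPGroup t K) : ¬ s ∣ Nat.card K := by
  obtain ⟨k, hk⟩ := hK.exists_card_eq
  rw [hk]
  exact fun hd => hts ((Nat.prime_dvd_prime_iff_eq hs.out ht.out).1 (hs.out.dvd_of_dvd_pow hd)).symm

theorem not_commutator_le_of_chief {s t : ℕ} [Fact s.Prime] [Fact t.Prime] (hts : t ≠ s)
    {S W : Subgroup G} [S.Normal] [W.Normal] (hS : IsPGroup s S) (hSW : S < W)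
    (hW : IsPGroup t (W.map (QuotientGroup.mk' S)))
    (hno : ∀ K : Subgroup G, K.Normal → IsPGroup t K → K = ⊥) : ¬ ⁅S, W⁆ ≤ ⁅S, S⁆ := by
  intro h
  obtain ⟨Q⟩ : Nonempty (Sylow t G) := inferInstance
  have hQ : IsPGroup t ((Q : Subgroup G) ⊓ W : Subgroup G) := Q.isPGroup'.to_inf_left
  have h1 := sylow_inf_sup_eq Q hSW.le hW
  have h2 := le_centralizer_of_commutator_le_commutator hS (not_dvd_card_of_isPGroup_of_ne hts hQ)
    (normalizer_eq_top S ▸ le_top) ((commutator_mono le_rfl inf_le_right).trans h)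
  have h3 := normalizer_sylow_inf_sup_eq_top Q W
  rw [sup_eq_left.2 (h1.ge.trans (sup_le le_normalizer (h2.trans (centralizer_le_normalizer _)))),
    normalizer_eq_top_iff] at h3
  rw [hno _ h3 hQ, bot_sup_eq] at h1
  exact hSW.ne h1

theorem smul_prod_subgroup_smul {V : Type v} [CommGroup V] [MulDistribMulAction G V]
    {A : Subgroup G} [Fintype A] (x : V) {a : G} (ha : a ∈ A) :
    a • ∏ w : A, (w : G) • x = ∏ w : A, (w : G) • x := by
  rw [Finset.smul_prod']
  simp only [← mul_smul]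
  exact Fintype.prod_equiv (Equiv.mulLeft ⟨a, ha⟩) _ _ fun _ => rfl

/-- If all characters over the linear characters of `S` moved by `W` have degree `m`, then `m` is
not a degree of `G / S`. -/
theorem charDegree_ne_of_chief [Group.IsSolvable G] {s t : ℕ} [hs : Fact s.Prime] [ht : Fact t.Prime] (hts : t ≠ s)
    {S W : Subgroup G} [S.Normal] [hWn : W.Normal] (hS : IsPGroup s S) (hSW : S < W)
    (hm : IsMinNormal (W.map (QuotientGroup.mk' S)))
    (hW : IsPGroup t (W.map (QuotientGroup.mk' S)))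
    (hno : ∀ K : Subgroup G, K.Normal → IsPGroup t K → K = ⊥) {m : ℕ}
    (h : ∀ x : LinC S.subtype, ¬ W ≤ stabilizer G x → ∀ χ : IrrCharacter G,
      LiesOver S.subtype χ.1 x.irr.1 → charDegree χ.1 = m)
    {ζ : IrrCharacter G} (hζ : S ≤ charKer ζ.1) : charDegree ζ.1 ≠ m := by
  obtain ⟨Q⟩ : Nonempty (Sylow t G) := inferInstance
  set W₀ : Subgroup G := (Q : Subgroup G) ⊓ W with hW₀
  have hQ : IsPGroup t W₀ := Q.isPGroup'.to_inf_left
  have h1 : W₀ ⊔ S = W := sylow_inf_sup_eq Q hSW.le hW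
  have hel := hm.isElementaryAbelian_of_isPGroup hW
  have hK : ∀ k ∈ S, ∀ x : LinC S.subtype, k • x = x := fun k hk x => LinC.smul_eq_of_mem hk x
  have hfaith : ∀ a ∈ W, (∀ x : LinC S.subtype, a • x = x) → a ∈ S := by
    intro a ha hx
    rcases ((isMinNormal_map_mk'_iff hSW.le).1 hm).2
      (W ⊓ (MulDistribMulAction.toMulAut G (LinC S.subtype)).ker) inferInstance
      (le_inf hSW.le fun k hk => MulEquiv.ext (hK k hk)) inf_le_left with e | e
    · exact e ▸ mem_inf.2 ⟨ha, MulEquiv.ext hx⟩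
    · exact (not_commutator_le_of_chief hts hS hSW hW hno (ThreePrimes.commutator_le_of_forall_smul
        fun x y hy => DFunLike.congr_fun (MonoidHom.mem_ker.1 (e.ge hy).2) x)).elim
  obtain ⟨k, hk⟩ := hS.exists_card_eq
  have hcop : t.Coprime (Nat.card (LinC S.subtype)) := by
    rw [LinC.card_eq]
    exact (((Nat.coprime_primes ht.out hs.out).2 hts).pow_right k).coprime_dvd_right
      (hk ▸ index_dvd_card _)
  obtain ⟨x, hx⟩ := exists_regular_of_comm (V := LinC S.subtype) (A := W) (fun a ha b hb v => by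
    have : ⁅a, b⁆ ∈ S := by
      rw [← QuotientGroup.eq_one_iff, ← QuotientGroup.mk'_apply, map_commutatorElement,
        commutatorElement_eq_one_iff_mul_comm]
      exact isMulCommutative_iff_forall.1 hel.1 _ (mem_map_of_mem _ ha) _ (mem_map_of_mem _ hb)
    rw [← hK _ this (b • a • v), ← mul_smul, ← mul_smul, ← mul_smul, commutatorElement_def]
    congr 1
    group) fun a ha => ⟨t, hcop, hK _ (by
      rw [← QuotientGroup.eq_one_iff, ← QuotientGroup.mk'_apply, map_pow]
      exact hel.2 _ (mem_map_of_mem _ ha))⟩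
  have := Fintype.ofFinite W₀
  set z : LinC S.subtype := ∏ w : W₀, (w : G) • x with hz
  have hzW : W ≤ stabilizer G z := by
    rw [← h1]
    refine sup_le (fun a ha => ?_) fun a ha => hK a ha z
    exact smul_prod_subgroup_smul x ha
  set y : LinC S.subtype := x ^ Nat.card W₀ / z with hy
  have hyW : ∀ a ∈ W, a • y = y → a ∈ S := by
    intro a ha hay
    refine hfaith a ha (hx a ha ?_)
    rw [hy, smul_div', show a • z = z from hzW ha, div_left_inj, smul_pow'] at hay
    obtain ⟨j, hj⟩ := hQ.exists_card_eq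
    exact (powCoprime (G := LinC S.subtype) (n := Nat.card W₀)
      (hj ▸ (hcop.pow_left j).symm)).injective hay
  have hyC : ∀ c : S, (c : G) ∈ centralizer (W₀ : Set G) → y.hom c = 1 := by
    intro c hc
    have e1 : z.hom c = x.hom c ^ Nat.card W₀ := by
      have : ∀ w : W₀, ((w : G) • x).hom c = x.hom c := fun w => by
        rw [LinC.hom_smul_apply]
        congr 1
        refine Subtype.ext ((map_conjAut_inv S.subtype w c).trans ?_)
        rw [subtype_apply, mul_assoc, ← hc w w.2, inv_mul_cancel_left]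
      rw [hz, Nat.card_eq_fintype_card, ← Finset.card_univ, ← Finset.prod_const,
        ← Finset.prod_congr rfl fun w _ => this w]
      exact MonoidHom.finsetProd_apply _ _ _
    rw [hy, div_eq_mul_inv, LinC.hom_mul, LinC.hom_inv, LinC.hom_pow, e1, mul_inv_cancel]
  have hH : normalizer (W₀ : Set G) ⊔ S = ⊤ := by
    rw [eq_top_iff, ← normalizer_sylow_inf_sup_eq_top Q W]
    exact sup_le le_sup_left (h1.ge.trans (sup_le_sup_right le_normalizer _))
  obtain ⟨η, hη, -⟩ := exists_extension_of_supplement (inertia_toInertia S.subtype y.irr)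
    (by simp) ((normalizer (W₀ : Set G)).subgroupOf _) (by
      rw [range_toInertia, range_subtype]
      exact subgroupOf_sup_subgroupOf_of_le (le_inertia_subtype _ _) hH) (fun n hn => by
        rw [y.irr.isCharacter.detChar_of_apply_one_eq_one (by simp [LinC.irr])]
        have := hyC n (mem_centralizer_of_mem_normalizer_of_inf_eq_bot
          (normalizer_eq_top S ▸ le_top) (inf_eq_bot_of_isPGroup_of_not_dvd hS
            (not_dvd_card_of_isPGroup_of_ne hts hQ)) n.2 hn)
        simp [LinC.irr, this])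
  have hnot : ¬ W ≤ stabilizer G y := fun hle => hSW.not_ge fun a ha => hyW a ha (hle ha)
  have hdeg : ∀ β : IrrCharacter (inertia S.subtype y.irr ⧸ (toInertia S.subtype y.irr).range),
      charDegree β.1 * (inertia S.subtype y.irr).index = m := fun β => by
    obtain ⟨χ, hχ, e⟩ := exists_liesOver_of_extends hη β
    rw [← h y hnot χ hχ, e, LinC.charDegree_irr, mul_one]
  have hidx : (inertia S.subtype y.irr).index = m := by
    simpa using hdeg (IrrCharacter.one _)
  have hab : commutator (inertia S.subtype y.irr) ≤ (toInertia S.subtype y.irr).range := by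
    rw [← map_mk'_eq_bot_iff, ← commutator_quotient_eq, commutator_eq_bot_iff_comm,
      comm_iff_forall_irr_charDegree]
    intro β
    have := hdeg β
    rw [← hidx] at this
    exact Nat.eq_of_mul_eq_mul_right (index_pos _) (by rw [this, one_mul])
  intro hζm
  obtain ⟨κ, hκ⟩ := ζ.exists_liesOver_below (inertia S.subtype y.irr).subtype
  have hκ1 : charDegree κ.1 = 1 := κ.commutator_le_charKer_iff'.1 (hab.trans (by
    rintro _ ⟨n, rfl⟩
    exact hκ.comap_charKer_le (hζ n.2)))
  have hind := hκ.ind_eq_of_le_charDegree (subtype_injective _) κ.isCharacter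
    (by rw [range_subtype, hidx, hκ1, hζm, mul_one])
  have hvan : ∀ g ∈ W, g ∉ S → ζ g = 0 := fun g hg hgS => by
    change ζ.1 g = 0
    rw [← hind]
    refine ind_apply_eq_zero _ _ fun a ha => hgS ?_
    obtain ⟨c, hc⟩ := isConj_iff.1 ha
    have := hyW _ (hWn.conj_mem g hg c) (LinC.mem_inertia_iff.1 (hc ▸ a.2))
    simpa [mul_assoc] using Normal.conj_mem ‹S.Normal› _ this c⁻¹
  obtain ⟨g, hg, hgS⟩ := SetLike.exists_of_lt hSW
  exact ζ.apply_one_ne_zero ((ζ.mem_charKer.1 (ζ.le_charKer_of_vanish hζ hvan hg)).symm.trans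
    (hvan g hg hgS))

end Cfsg
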