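import Cfsg.Agent.Char.RelTaketa
import Cfsg.Agent.Char.RelGraph

/-!
# Two degrees relative to a normal subgroup
-/

set_option autoImplicit false
set_option linter.unusedSectionVars false

namespace Cfsg

open scoped commutatorElement Classical
open Subgroup MulAction

universe u v

variable {G : Type u} [Group G] [Finite G] {N : Type v} [Group N] [Finite N] {p : ℕ}

theorem exists_liesOver_index_mul_not_dvd [hp : Fact p.Prime] (f : N →* G) [IsNormalEmb f]
    {θ : IrrCharacter N} (h : ¬ p ∣ charDegree θ.1 * detOrder θ.1) :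
    ∃ (χ : IrrCharacter G) (k : ℕ), LiesOver f χ.1 θ.1 ∧
      charDegree χ.1 = (inertia f θ).index * k ∧ ¬ p ∣ k := by
  obtain ⟨P⟩ : Nonempty (Sylow p (inertia f θ)) := inferInstance
  obtain ⟨H, hH⟩ : ∃ H, H = (P : Subgroup (inertia f θ)) ⊔ (toInertia f θ).range := ⟨_, rfl⟩
  have hLH : ∀ n, toInertia f θ n ∈ H := fun n => hH ▸ mem_sup_right ⟨n, rfl⟩
  have hfac : ∀ k, H.subtype ((toInertia f θ).codRestrict H hLH k) = toInertia f θ k :=
    fun _ => rfl
  obtain ⟨η, hη, -⟩ := exists_extension_of_coprime (f := (toInertia f θ).codRestrict H hLH)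
    (θ := θ) (by rw [inertia_of_factor hfac, inertia_toInertia, comap_top]) (by
      have : ((toInertia f θ).codRestrict H hLH).range = (toInertia f θ).range.subgroupOf H := by
        ext x
        exact ⟨fun ⟨n, hn⟩ => ⟨n, congrArg Subtype.val hn⟩, fun ⟨n, hn⟩ => ⟨n, Subtype.ext hn⟩⟩
      rw [this, ← relIndex, hH, relIndex_sup_right]
      obtain ⟨k, hk⟩ := P.isPGroup'.exists_card_eq
      exact (((hp.out.coprime_iff_not_dvd.2 h).pow_left k).coprime_dvd_left
        (hk ▸ relIndex_dvd_card _ _)).symm)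
  obtain ⟨κ, h1, h2⟩ := IrrCharacter.exists_liesOver_above_not_dvd hp.out
    H.subtype_injective (θ := η)
    (by rw [range_subtype]; exact not_dvd_index_of_sylow_le P (hH ▸ le_sup_left))
    (by rw [charDegree_eq_of_comp_eq hη]; exact fun h' => h (h'.mul_right _))
  have h3 := LiesOver.trans_of_eq hfac κ.isCharacter θ.isCharacter h1 (liesOver_of_comp_eq hη)
  refine ⟨⟨_, clifford_isIrr_ind (f := f) (inertia f θ).subtype_injective (j := toInertia f θ)
    (fun _ => rfl) (by rw [range_subtype]) h3⟩, charDegree κ.1, liesOver_ind_of_liesOver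
      (inertia f θ).subtype_injective (fun _ => rfl) θ.isCharacter κ.isCharacter h3, ?_, h2⟩
  exact κ.isCharacter.charDegree_ind_subtype

theorem exists_isMinNormal_of_not_isPGroup {s : ℕ} [hs : Fact s.Prime] {K : Subgroup G}
    [hK : K.Normal] [Group.IsNilpotent K] (h : ¬ IsPGroup s K) :
    ∃ t : ℕ, t.Prime ∧ t ≠ s ∧ ∃ W : Subgroup G, IsMinNormal W ∧ W ≤ K ∧ IsPGroup t W := by
  obtain ⟨t, ht, hts, htd⟩ : ∃ t : ℕ, t.Prime ∧ t ≠ s ∧ t ∣ Nat.card K := by
    by_contra hn
    push Not at hn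
    exact h (IsPGroup.of_card (Nat.eq_prime_pow_of_unique_prime_dvd Nat.card_pos.ne'
      fun hd h1 => by_contra fun h2 => hn _ hd h2 h1))
  have := Fact.mk ht
  obtain ⟨x, hx⟩ := exists_prime_orderOf_dvd_card' t htd
  have h1 : (x : G) ∈ pCore t G := mem_pCore_of_mem_isNilpotent hK.isSubnormal x.2
    ⟨1, by rw [pow_one, ← hx, orderOf_coe]⟩
  obtain ⟨W, hW, hle⟩ := exists_isMinNormal_le (pCore t G ⊓ K) fun e => by
    have : (x : G) = 1 := mem_bot.1 (e ▸ mem_inf.2 ⟨h1, x.2⟩)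
    rw [← orderOf_coe, this, orderOf_one] at hx
    exact ht.one_lt.ne hx
  exact ⟨t, ht, hts, W, hW, hle.trans inf_le_right,
    (isPGroup_pCore t G).to_le (hle.trans inf_le_left)⟩

theorem commutator_le_charKer_of_two [hp : Fact p.Prime] {S : Subgroup G} [S.Normal]
    (hS : IsPGroup p S) {m n : ℕ} (hmn : m.factorization p ≤ n.factorization p)
    (h : ∀ χ : IrrCharacter G, ¬ S ≤ charKer χ.1 → charDegree χ.1 = m ∨ charDegree χ.1 = n)
    {χ : IrrCharacter G} (hχ : charDegree χ.1 = m) : ⁅S, S⁆ ≤ charKer χ.1 :=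
  commutator_le_charKer_of_pow_dvd hS (k := m.factorization p)
    (fun ψ hψ => (h ψ hψ).elim (· ▸ Nat.ordProj_dvd m p)
      (· ▸ (pow_dvd_pow p hmn).trans (Nat.ordProj_dvd n p)))
    (hχ ▸ Nat.pow_succ_factorization_not_dvd χ.charDegree_pos.ne' hp.out)

theorem LiesOver.not_le_charKer_of_ne_one {S : Subgroup G} [S.Normal] {x : LinC S.subtype}
    (hx : x ≠ 1) {χ : IrrCharacter G} (h : LiesOver S.subtype χ.1 x.irr.1) :
    ¬ S ≤ charKer χ.1 := fun hle => hx (LinC.ext' fun z => by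
  have := x.irr.mem_charKer.1 (h.comap_charKer_le (hle z.2))
  simpa [LinC.irr] using this)

theorem LiesOver.not_commutator_le_charKer {S : Subgroup G} [S.Normal] {θ : IrrCharacter S}
    (hθ : charDegree θ.1 ≠ 1) {χ : IrrCharacter G} (h : LiesOver S.subtype χ.1 θ.1) :
    ¬ ⁅S, S⁆ ≤ charKer χ.1 := fun hle => hθ (θ.commutator_le_charKer_iff'.1 fun _ hx =>
      h.comap_charKer_le (hle (coe_mem_commutator_iff.2 hx)))

/-- The last step of the faithful case. -/
theorem false_of_rel_two {s t : ℕ} [hs : Fact s.Prime] [ht : Fact t.Prime] (hts : t ≠ s)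
    {S W : Subgroup G} [S.Normal] [W.Normal] (hS : IsPGroup s S) (hSW : S < W)
    (hW : IsPGroup t (W.map (QuotientGroup.mk' S))) (hab : ⁅W, W⁆ ≤ S) {m : ℕ}
    {θ : IrrCharacter S} (hθ : charDegree θ.1 ≠ 1) (hWθ : W ≤ inertia S.subtype θ)
    (h1 : ∀ χ : IrrCharacter G, LiesOver S.subtype χ.1 θ.1 → charDegree χ.1 = m)
    (h2 : ∀ χ : IrrCharacter G, S ≤ charKer χ.1 → ¬ W ≤ charKer χ.1 → charDegree χ.1 = m) :
    False := by
  have hfac : ∀ k, W.subtype (inclusion hSW.le k) = S.subtype k := fun _ => rfl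
  have : IsNormalEmb (inclusion hSW.le) := IsNormalEmb.of_factor W.subtype_injective hfac
  obtain ⟨a, ha⟩ := hS.exists_card_eq
  obtain ⟨b, hb⟩ := hW.exists_card_eq
  rw [card_map_mk'_eq_relIndex] at hb
  have hc : (t ^ b).Coprime (s ^ a) := Nat.coprime_pow_primes _ _ ht.out hs.out hts
  obtain ⟨η, hη, hη'⟩ := exists_extension_of_coprime_card (f := inclusion hSW.le) (θ := θ)
    (by rw [inertia_of_factor hfac]; exact subgroupOf_eq_top.2 hWθ)
    (by rw [inclusion_range, ← relIndex, ha, hb]; exact hc.symm)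
  obtain ⟨g, hg, hgS⟩ := SetLike.exists_of_lt hSW
  obtain ⟨ν, hν, hνg⟩ := exists_linear_ne_one (L := S.subgroupOf W)
    (fun x hx => hab (coe_mem_commutator_iff.2 hx)) (g := ⟨g, hg⟩) hgS
  have ho : orderOf ν ∣ t ^ b := by
    rw [← detHom_ofLinear ν, ← detOrder_eq_orderOf_detHom, ← hb]
    exact detOrder_dvd_index_of_le_ker fun x hx => by
      rw [← coe_detHom, detHom_ofLinear, hν x hx, Units.val_one]
  have hI := inertia_linear_smul W.subtype (lam := ν) (θ := η)
    ((hc.coprime_dvd_left ho).coprime_dvd_right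
      (charDegree_eq_of_comp_eq hη ▸ ha ▸ θ.charDegree_dvd_card))
    ((hc.coprime_dvd_left ho).coprime_dvd_right
      (by rw [← detOrder_eq_orderOf_detHom, hη', ← ha]; exact detOrder_dvd_card _))
  obtain ⟨χ, hχ⟩ := (ν • η).exists_liesOver_above W.subtype_injective
  have hχm := h1 χ (LiesOver.trans_of_eq hfac χ.isCharacter θ.isCharacter hχ
    (liesOver_of_comp_eq (by
      rw [← hη]
      funext n
      change (ν • η) _ = η _
      rw [IrrCharacter.linear_smul_apply, hν _ n.2, Units.val_one, one_mul])))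
  have hd : (inertia W.subtype (IrrCharacter.ofLinear ν)).index * s ∣ m := by
    rw [← hχm, hχ.charDegree_eq, mul_assoc]
    refine Dvd.dvd.mul_left (mul_dvd_mul (index_dvd_of_le (hI ▸ inf_le_right)) ?_) _
    rw [IrrCharacter.charDegree_linear_smul, charDegree_eq_of_comp_eq hη]
    obtain ⟨i, -, hi⟩ := (Nat.dvd_prime_pow hs.out).1 (ha ▸ θ.charDegree_dvd_card)
    rw [hi] at hθ ⊢
    exact dvd_pow_self s fun e => hθ (by rw [e, pow_zero])
  obtain ⟨ψ, k, hψ, hk, hk'⟩ := exists_liesOver_index_mul_not_dvd (p := s) W.subtype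
    (θ := IrrCharacter.ofLinear ν) (by
      rw [IrrCharacter.charDegree_ofLinear, one_mul, detOrder_eq_orderOf_detHom, detHom_ofLinear]
      exact fun hd => hts ((Nat.prime_dvd_prime_iff_eq hs.out ht.out).1
        (hs.out.dvd_of_dvd_pow (hd.trans ho))).symm)
  have hψm := h2 ψ (hψ.le_charKer_of_le_map W.subtype_injective fun x hx =>
    ⟨⟨x, hSW.le hx⟩, (IrrCharacter.ofLinear ν).mem_charKer.2 (by simp [hν ⟨x, hSW.le hx⟩ hx]), rfl⟩)
    fun hle => hνg (by
      simpa using (IrrCharacter.ofLinear ν).mem_charKer.1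
        (hψ.comap_charKer_le (x := ⟨g, hg⟩) (hle hg)))
  rw [← hψm, hk] at hd
  exact hk' (Nat.dvd_of_mul_dvd_mul_left (index_pos _) hd)

/-- Two relative degrees. -/
theorem commutator_commutator_eq_bot_of_rel_two (G : Type u) [Group G] [Finite G] :
    Group.IsSolvable G → ∀ (M : Subgroup G) [M.Normal] (m n : ℕ),
      (∀ χ : IrrCharacter G, ¬ M ≤ charKer χ.1 → charDegree χ.1 = m ∨ charDegree χ.1 = n) →
        ⁅⁅M, M⁆, ⁅M, M⁆⁆ = ⊥ := by
  refine card_induction (P := fun G _ _ => Group.IsSolvable G → ∀ (M : Subgroup G) [M.Normal]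
    (m n : ℕ), (∀ χ : IrrCharacter G, ¬ M ≤ charKer χ.1 → charDegree χ.1 = m ∨
      charDegree χ.1 = n) → ⁅⁅M, M⁆, ⁅M, M⁆⁆ = ⊥) ?_ G
  intro G _ _ ih hsol M _ m n h
  wlog hmn : m ≤ n generalizing m n
  · exact this n m (fun χ hχ => (h χ hχ).symm) (le_of_not_ge hmn)
  by_contra h0
  have hE : ∀ K : Subgroup G, K.Normal → K ≠ ⊥ → ⁅⁅M, M⁆, ⁅M, M⁆⁆ ≤ K := fun K _ hK => by
    rw [← map_mk'_eq_bot_iff, map_commutator, map_commutator]
    exact ih _ (card_quotient_lt hK) inferInstance _ m n fun β hβ => by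
      rw [← β.charDegree_inflate _ (QuotientGroup.mk'_surjective K)]
      exact h _ fun h1 => hβ ((map_le_charKer_iff _ β).2 h1)
  obtain ⟨-, s, hs, hEs⟩ := exists_monolith h0 hE
  have := Fact.mk hs
  have hno : ∀ t : ℕ, t.Prime → t ≠ s → ∀ K : Subgroup G, K.Normal → IsPGroup t K → K = ⊥ :=
    fun t ht hts => have := Fact.mk ht; eq_bot_of_monolith h0 hE hEs hts
  have hM' : ⁅M, M⁆ ≤ M := commutator_le_left _ _
  have hmin : ∀ μ : IrrCharacter G, charDegree μ.1 = m → ∀ ψ : IrrCharacter G,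
      ¬ M ≤ charKer ψ.1 → charDegree μ.1 ≤ charDegree ψ.1 := fun μ hμ ψ hψ => by
    rcases h ψ hψ with e | e <;> omega
  have hMs : ¬ IsPGroup s M := fun hMs => h0 (by
    rcases le_total (m.factorization s) (n.factorization s) with e | e
    · exact commutator_eq_bot_of_rel_one G hsol _ n fun χ hχ =>
        (h χ fun h1 => hχ (hM'.trans h1)).resolve_left fun h1 =>
          hχ (commutator_le_charKer_of_two hMs e h h1)
    · exact commutator_eq_bot_of_rel_one G hsol _ m fun χ hχ =>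
        (h χ fun h1 => hχ (hM'.trans h1)).resolve_right fun h1 =>
          hχ (commutator_le_charKer_of_two hMs e (fun ψ hψ => (h ψ hψ).symm) h1))
  by_cases hf : ∀ μ : IrrCharacter G, charDegree μ.1 = m → charKer μ.1 ≠ ⊥
  · obtain ⟨D, hD⟩ : ∃ D, D = M ⊓ ⨅ μ : {μ : IrrCharacter G // charDegree μ.1 = m},
      charKer μ.1.1 := ⟨_, rfl⟩
    have := normal_iInf_normal fun μ : {μ : IrrCharacter G // charDegree μ.1 = m} =>
      (inferInstance : (charKer μ.1.1).Normal)
    have : D.Normal := hD ▸ inferInstance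
    have hDM : D ≤ M := hD ▸ inf_le_left
    have hDn : ∀ χ : IrrCharacter G, ¬ D ≤ charKer χ.1 → charDegree χ.1 = n := fun χ hχ =>
      (h χ fun h1 => hχ (hDM.trans h1)).resolve_left fun h1 =>
        hχ (hD ▸ inf_le_right.trans (iInf_le_of_le ⟨χ, h1⟩ le_rfl))
    have hDab := commutator_eq_bot_of_rel_one G hsol D n hDn
    have hMD : ⁅⁅M, M⁆, M⁆ ≤ D := hD ▸ le_inf (commutator_le_right _ _) (le_iInf fun μ =>
      commutator_le_charKer_of_min (hmin μ.1 μ.2) (hE _ inferInstance (hf μ.1 μ.2)))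
    have := isNilpotent_of_commutator_commutator (M := D) (by rw [hDab, commutator_bot_left])
    have hDs := isPGroup_of_monolith h0 hE hEs D
    have := isNilpotent_of_commutator_commutator (M := M.map (QuotientGroup.mk' D))
      (by rw [← map_commutator, ← map_commutator, map_mk'_eq_bot_iff]; exact hMD)
    obtain ⟨t, ht, hts, W, hW, hWM, hWt⟩ := exists_isMinNormal_of_not_isPGroup (s := s)
      (K := M.map (QuotientGroup.mk' D)) fun h1 => hMs ((h1.comap_of_ker_isPGroup _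
        (by rwa [QuotientGroup.ker_mk'])).to_le (le_comap_map _ _))
    have := Fact.mk ht
    have := hW.1
    have hWe := map_comap_eq_self_of_surjective (QuotientGroup.mk'_surjective D) W
    refine h0 (eq_bot_iff.2 (hDab ▸ ?_))
    have hMD' : ⁅M, M⁆ ≤ D := commutator_le_of_rel_one (m := m) fun χ hχ hχ' =>
      (h χ hχ').resolve_right (charDegree_ne_of_chief hts (W := W.comap (QuotientGroup.mk' D)) hDs
        (lt_of_le_of_ne (QuotientGroup.le_comap_mk' D W) fun e => hW.2 (by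
          rw [← hWe, ← e, map_mk'_eq_bot_iff])) (hWe.symm ▸ hW) (hWe.symm ▸ hWt) (hno t ht hts)
        (fun x hx ψ hψ => hDn ψ (hψ.not_le_charKer_of_ne_one fun e => hx fun g _ => by
          rw [e]; exact smul_one g)) hχ)
    exact commutator_mono hMD' hMD'
  push Not at hf
  obtain ⟨μ, hμ, hk⟩ := hf
  obtain ⟨S, hS⟩ : ∃ S, S = pCore s G ⊓ M := ⟨_, rfl⟩
  have : S.Normal := hS ▸ inferInstance
  have hSM : S ≤ M := hS ▸ inf_le_right
  have hSs : IsPGroup s S := hS ▸ (isPGroup_pCore s G).to_inf_left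
  obtain ⟨W, _, hSW, hWM, hW⟩ := exists_chief_above (lt_of_le_of_ne hSM fun e => hMs (e ▸ hSs))
  obtain ⟨t, ht, hel⟩ := hW.exists_isElementaryAbelian
  have := Fact.mk ht
  have hts : t ≠ s := fun e => hSW.not_ge (hS ▸ le_inf (le_pCore (((e ▸ hel.isPGroup :
    IsPGroup s _).comap_of_ker_isPGroup _ (by rwa [QuotientGroup.ker_mk'])).to_le
      (le_comap_map _ _))) hWM)
  have hS' : ¬ ⁅S, S⁆ ≤ charKer μ.1 := fun h1 => not_commutator_le_of_chief hts hSs hSW
    hel.isPGroup (hno t ht hts) (((commutator_mono le_rfl hWM).trans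
      (commutator_le_charKer_of_min (hmin μ hμ) h1)).trans (hk ▸ bot_le))
  have hS2 : ∀ χ : IrrCharacter G, ¬ S ≤ charKer χ.1 → charDegree χ.1 = m ∨ charDegree χ.1 = n :=
    fun χ hχ => h χ fun h1 => hχ (hSM.trans h1)
  have hn : ∀ χ : IrrCharacter G, charDegree χ.1 = n → ⁅S, S⁆ ≤ charKer χ.1 := fun χ hχ =>
    commutator_le_charKer_of_two hSs (le_of_not_ge fun e =>
      hS' (commutator_le_charKer_of_two hSs e hS2 hμ)) (fun ψ hψ => (hS2 ψ hψ).symm) hχ
  obtain ⟨θ, hθ⟩ : ∃ θ : IrrCharacter S, charDegree θ.1 ≠ 1 := by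
    obtain ⟨θ, hθ⟩ := μ.exists_liesOver_below S.subtype
    refine ⟨θ, fun e => hS' (hθ.le_charKer_of_le_map S.subtype_injective ?_)⟩
    rw [← map_subtype_commutator]
    exact map_mono (θ.commutator_le_charKer_iff'.2 e)
  have h1 : ∀ χ : IrrCharacter G, LiesOver S.subtype χ.1 θ.1 → charDegree χ.1 = m := fun χ hχ =>
    (hS2 χ fun e => hχ.not_commutator_le_charKer hθ ((commutator_le_left _ _).trans e)).resolve_right
      fun e => hχ.not_commutator_le_charKer hθ (hn χ e)
  obtain ⟨χ, hχ⟩ := θ.exists_liesOver_above S.subtype_injective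
  refine false_of_rel_two hts hSs hSW hel.isPGroup ?_ hθ
    (hWM.trans (hχ.le_inertia_of_min (hmin χ (h1 χ hχ)))) h1 fun ψ hψ hψ' =>
      (h ψ fun e => hψ' (hWM.trans e)).resolve_right (charDegree_ne_of_chief hts hSs hSW hW
        hel.isPGroup (hno t ht hts) (fun x hx ζ hζ => ?_) hψ)
  · rw [← map_mk'_eq_bot_iff, map_commutator, commutator_eq_bot_iff_le_centralizer]
    exact le_centralizer_iff_isMulCommutative.2 hel.1
  · refine (hS2 ζ (hζ.not_le_charKer_of_ne_one fun e => hx fun g _ => by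
      rw [e]; exact smul_one g)).resolve_left fun e => hx ?_
    exact LinC.stabilizer_eq x ▸ hWM.trans (hζ.le_inertia_of_min (hmin ζ e))

end Cfsg
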