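import Cfsg.Agent.Grp.SylCentB
import Cfsg.Agent.Grp.Frattini
import Cfsg.Agent.Char.LinAct
import Cfsg.Agent.Char.GlaubInv

/-!
# Sylow subgroups of inertia groups and primes dividing character degrees
-/

set_option autoImplicit false
set_option linter.unusedSectionVars false

namespace Cfsg

open scoped commutatorElement Classical
open Subgroup MulAction

universe u v

variable {G : Type u} [Group G] [Finite G] {N : Type v} [Group N] [Finite N]
variable {p q r : ℕ}

section Group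

theorem Sylow.mem_of_isPElt_of_forall_commute [Fact q.Prime] (Q : Sylow q G) {y : G}
    (hy : IsPElt q y) (h : ∀ x ∈ (Q : Subgroup G), Commute x y) : y ∈ (Q : Subgroup G) := by
  have hn : zpowers y ≤ normalizer ((Q : Subgroup G) : Set G) :=
    zpowers_le.2 (centralizer_le_normalizer _ fun x hx => (h x hx).eq)
  have := Q.is_maximal' (IsPGroup.to_sup_of_normal_left' Q.isPGroup'
    (isPElt_iff_isPGroup_zpowers.1 hy) hn) le_sup_left
  exact this ▸ mem_sup_right (mem_zpowers y)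

/-- A Sylow subgroup normalized by `L` with `QL` normal is normal. -/
theorem Sylow.normal_of_sup_normal [Fact q.Prime] (Q : Sylow q G) {L : Subgroup G}
    [((Q : Subgroup G) ⊔ L).Normal] (hL : L ≤ normalizer ((Q : Subgroup G) : Set G)) :
    (Q : Subgroup G).Normal := by
  have := Q.normalizer_sup_eq_top' (N := (Q : Subgroup G) ⊔ L) le_sup_left
  exact normalizer_eq_top_iff.1 ((sup_eq_left.2 (sup_le le_normalizer hL)).symm.trans this)

theorem Sylow.sup_normal_of_forall_commutator [Fact q.Prime] (Q : Sylow q G) {K C : Subgroup G}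
    [K.Normal] [hC : C.Normal] (hQ : (Q : Subgroup G) ≤ C)
    (h : ∀ x ∈ C, ∀ y ∈ C, IsPElt q x → IsPElt q y → ⁅x, y⁆ ∈ K) :
    ((Q : Subgroup G) ⊔ K).Normal := by
  rw [← comap_map_mk'_eq_sup]
  refine Normal.comap ⟨?_⟩ _
  rintro _ ⟨y, hy, rfl⟩ g
  obtain ⟨g, rfl⟩ := QuotientGroup.mk'_surjective K g
  have hy' := isPElt_of_mem Q.isPGroup' hy
  refine Sylow.mem_of_isPElt_of_forall_commute (Q.mapSurjective (QuotientGroup.mk'_surjective K))
    (isPElt_conj_iff.2 (hy'.map _)) ?_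
  rintro _ ⟨x, hx, rfl⟩
  rw [← map_inv, ← map_mul, ← map_mul, ← commutatorElement_eq_one_iff_commute,
    ← map_commutatorElement, QuotientGroup.mk'_apply, QuotientGroup.eq_one_iff]
  exact h x (hQ hx) _ (hC.conj_mem y (hQ hy) g) (isPElt_of_mem Q.isPGroup' hx)
    (isPElt_conj_iff.2 hy')

theorem Sylow.le_of_sup_normal [Fact q.Prime] (Q : Sylow q G) {K S : Subgroup G} [K.Normal]
    [hn : ((Q : Subgroup G) ⊔ K).Normal] (hK : K ≤ S) (hS : ¬ q ∣ S.index) :
    (Q : Subgroup G) ≤ S := by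
  obtain ⟨Q', hQ'⟩ := exists_sylow_le_of_not_dvd_index hS
  obtain ⟨g, rfl⟩ := MulAction.exists_smul_eq G Q Q'
  refine le_sup_left.trans ((map_conj_eq_of_normal g ((Q : Subgroup G) ⊔ K)).ge.trans ?_)
  rw [Subgroup.map_sup, map_conj_eq_of_normal g K, ← Sylow.coe_smul_eq_map']
  exact sup_le hQ' hK

/-- A coprime action on a `p`-group that is trivial modulo the derived subgroup is trivial. -/
theorem le_centralizer_of_commutator_le_commutator [Fact p.Prime] {P A : Subgroup G}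
    (hP : IsPGroup p P) (hA : ¬ p ∣ Nat.card A) (hn : A ≤ normalizer (P : Set G))
    (h : ⁅P, A⁆ ≤ ⁅P, P⁆) : P ≤ centralizer (A : Set G) := by
  have h1 := (isCoprimeAction_of_isPGroup_right hn hP hA).inf_centralizer_sup_commutator
  have := hP.isNilpotent
  have h2 : (centralizer (A : Set G)).subgroupOf P = ⊤ := by
    refine eq_top_of_sup_commutator (map_injective P.subtype_injective ?_)
    rw [Subgroup.map_sup, subgroupOf_map_subtype, map_subtype_commutator, ← MonoidHom.range_eq_map,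
      range_subtype, inf_comm]
    exact le_antisymm (sup_le inf_le_left (commutator_le.2 fun a ha b hb =>
      mul_mem (mul_mem (mul_mem ha hb) (inv_mem ha)) (inv_mem hb)))
      (h1.ge.trans (sup_le_sup_left h _))
  exact subgroupOf_eq_top.1 h2

theorem pow_eq_pow_of_sub_one {a b c d n : ℕ} (hp : p.Prime) (ha : a ≠ 0) (hb : b ≠ 0) (hn : n ≠ 1)
    (hc : c ∣ p ^ a) (hd : d ∣ p ^ b) (h1 : p ^ a - 1 = n * (c - 1))
    (h2 : p ^ b - 1 = n * (d - 1)) : p ^ a = p ^ b := by
  have key : ∀ {a c : ℕ}, a ≠ 0 → c ∣ p ^ a → p ^ a - 1 = n * (c - 1) →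
      ∃ (i : ℕ) (m : ℤ), c = p ^ i ∧ (n : ℤ) - 1 = p ^ i * m ∧ ¬ (p : ℤ) ∣ m := by
    intro a c ha hc h
    obtain ⟨i, hi, rfl⟩ := (Nat.dvd_prime_pow hp).1 hc
    have hpa : 1 < p ^ a := Nat.one_lt_pow ha hp.one_lt
    have hpi : 1 ≤ p ^ i := Nat.one_le_pow _ _ hp.pos
    have hZ : (p : ℤ) ^ a - 1 = n * (p ^ i - 1) := by
      have := congrArg (Nat.cast : ℕ → ℤ) h
      push_cast [hpa.le, hpi] at this
      exact this
    have hia : i ≠ a := by
      rintro rfl
      refine hn (Nat.eq_of_mul_eq_mul_right (Nat.sub_pos_of_lt hpa) ?_)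
      rw [one_mul, ← h]
    obtain ⟨k, rfl⟩ := Nat.exists_eq_add_of_lt (lt_of_le_of_ne hi hia)
    refine ⟨i, n - p ^ (k + 1), rfl, by linear_combination hZ, fun hd => ?_⟩
    have h3 : (p : ℤ) ∣ n := by
      simpa using hd.add (dvd_pow_self (p : ℤ) (Nat.succ_ne_zero k))
    have h4 : (p : ℤ) ∣ 1 := by
      have := (dvd_pow_self (p : ℤ) ha).sub (hZ ▸ h3.mul_right ((p : ℤ) ^ i - 1))
      simpa using this
    exact hp.one_lt.ne' (Nat.dvd_one.1 (by exact_mod_cast h4))
  obtain ⟨i, m, rfl, hm, hm'⟩ := key ha hc h1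
  obtain ⟨j, l, rfl, hl, hl'⟩ := key hb hd h2
  have hp0 : (p : ℤ) ≠ 0 := by exact_mod_cast hp.ne_zero
  have hij : i = j := by
    rcases lt_trichotomy i j with h | h | h
    · obtain ⟨k, rfl⟩ := Nat.exists_eq_add_of_lt h
      refine (hm' ⟨p ^ k * l, mul_left_cancel₀ (pow_ne_zero i hp0) ?_⟩).elim
      rw [← hm, hl]; ring
    · exact h
    · obtain ⟨k, rfl⟩ := Nat.exists_eq_add_of_lt h
      refine (hl' ⟨p ^ k * m, mul_left_cancel₀ (pow_ne_zero j hp0) ?_⟩).elim
      rw [← hl, hm]; ring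
  subst hij
  have := Nat.one_le_pow a p hp.pos
  have := Nat.one_le_pow b p hp.pos
  omega

end Group

section Action

variable {W : Type v} [CommGroup W] [Finite W] [MulDistribMulAction G W]

/-- Counting the vectors fixed by the Sylow subgroups of `G / K`. -/
theorem exists_card_sub_one_eq [Fact r.Prime] {K : Subgroup G} [K.Normal]
    (hK : ∀ k ∈ K, ∀ w : W, k • w = w) (Λ : Subgroup W) (hΛ : ∀ (g : G), ∀ w ∈ Λ, g • w ∈ Λ)
    (h : ∀ w ∈ Λ, w ≠ 1 → ¬ r ∣ (stabilizer G w).index ∧ ∀ x ∈ stabilizer G w,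
      ∀ y ∈ stabilizer G w, IsPElt r x → IsPElt r y → ⁅x, y⁆ ∈ K) :
    ∃ c, c ∣ Nat.card Λ ∧ Nat.card Λ - 1 = Nat.card (Sylow r (G ⧸ K)) * (c - 1) := by
  let F : Sylow r (G ⧸ K) → Subgroup W := fun S =>
    { carrier := {w | w ∈ Λ ∧ ∀ g : G, (g : G ⧸ K) ∈ (S : Subgroup (G ⧸ K)) → g • w = w}
      one_mem' := ⟨one_mem _, fun g _ => smul_one g⟩
      mul_mem' := fun {a b} ha hb => ⟨mul_mem ha.1 hb.1, fun g hg => by
        rw [smul_mul', ha.2 g hg, hb.2 g hg]⟩
      inv_mem' := fun {a} ha => ⟨inv_mem ha.1, fun g hg => by rw [smul_inv', ha.2 g hg]⟩ }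
  have hex : ∀ w ∈ Λ, w ≠ 1 → ∃! S, w ∈ F S := by
    intro w hw h1
    obtain ⟨R, hR⟩ := exists_sylow_le_of_not_dvd_index (h w hw h1).1
    refine ⟨R.mapSurjective (QuotientGroup.mk'_surjective K), ⟨hw, ?_⟩, fun S hS => ?_⟩
    · rintro g ⟨x, hx, hxg⟩
      have : x⁻¹ * g ∈ K := QuotientGroup.eq.1 hxg
      rw [← mul_inv_cancel_left x g, mul_smul, hK _ this]
      exact hR hx
    refine Sylow.ext (Sylow.is_maximal' _ (Sylow.isPGroup' _) fun y hy => ?_).symm
    obtain ⟨y, hy', rfl⟩ := (isPElt_of_mem S.isPGroup' hy).exists_lift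
      (QuotientGroup.mk'_surjective K)
    refine Sylow.mem_of_isPElt_of_forall_commute _ (hy'.map _) ?_
    rintro _ ⟨x, hx, rfl⟩
    rw [← commutatorElement_eq_one_iff_commute, ← map_commutatorElement, QuotientGroup.mk'_apply,
      QuotientGroup.eq_one_iff]
    exact (h w hw h1).2 x (hR hx) y (hS.2 y hy) (isPElt_of_mem R.isPGroup' hx) hy'
  have hle : ∀ (g : G) S, Nat.card (F S) ≤ Nat.card (F ((g : G ⧸ K) • S)) := by
    intro g S
    refine Nat.card_le_card_of_injective (fun w => ⟨g • w.1, hΛ g _ w.2.1, fun x hx => ?_⟩)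
      fun a b hab => Subtype.ext (MulAction.injective g (congrArg Subtype.val hab))
    rw [Sylow.coe_smul_eq_map', mem_map_conj] at hx
    have := w.2.2 (g⁻¹ * x * g) hx
    rw [mul_smul, mul_smul, inv_smul_eq_iff] at this
    exact this
  obtain ⟨S₀⟩ : Nonempty (Sylow r (G ⧸ K)) := inferInstance
  have hcard : ∀ S, Nat.card (F S) = Nat.card (F S₀) := by
    intro S
    obtain ⟨g, rfl⟩ := MulAction.exists_smul_eq (G ⧸ K) S₀ S
    obtain ⟨g, rfl⟩ := QuotientGroup.mk_surjective g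
    refine le_antisymm ?_ (hle g S₀)
    simpa using hle g⁻¹ ((g : G ⧸ K) • S₀)
  have hne : ∀ L : Subgroup W, Nat.card {w : W // w ∈ L ∧ w ≠ 1} = Nat.card L - 1 := by
    intro L
    rw [← Nat.card_congr (Equiv.subtypeSubtypeEquivSubtypeInter (· ∈ L) (· ≠ 1))]
    have : Nat.card {w : L // (w : W) ≠ 1} = Nat.card {w : L // w ≠ 1} :=
      Nat.card_congr (Equiv.subtypeEquivRight fun w => by simp)
    have _ := Fintype.ofFinite L
    rw [this, Nat.card_eq_fintype_card, Nat.card_eq_fintype_card, Fintype.card_subtype_compl,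
      Fintype.card_subtype_eq]
  refine ⟨Nat.card (F S₀), card_dvd_of_le fun w hw => hw.1, ?_⟩
  rw [← hne]
  refine card_eq_card_mul_of_fiber (fun w => (hex w.1 w.2.1 w.2.2).choose) fun S => ?_
  rw [← hcard S, ← hne]
  refine Nat.card_congr ⟨fun w => ⟨w.1.1, (congrArg F w.2).le (hex _ w.1.2.1 w.1.2.2).choose_spec.1,
    w.1.2.2⟩,
    fun w => ⟨⟨w.1, w.2.1.1, w.2.2⟩, ((hex _ w.2.1.1 w.2.2).choose_spec.2 S w.2.1).symm⟩,
    fun _ => rfl, fun _ => rfl⟩

theorem smul_eq_of_card_sylow_eq_one [Fact r.Prime] {K : Subgroup G} [K.Normal]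
    (hK : ∀ k ∈ K, ∀ w : W, k • w = w) (h1 : Nat.card (Sylow r (G ⧸ K)) = 1) {w : W}
    (h : ¬ r ∣ (stabilizer G w).index) {y : G} (hy : IsPElt r y) : y • w = w := by
  obtain ⟨R, hR⟩ := exists_sylow_le_of_not_dvd_index h
  obtain ⟨S, hS⟩ := (hy.map (QuotientGroup.mk' K)).exists_mem_sylow
  have := (Nat.card_eq_one_iff_unique.1 h1).1
  rw [Subsingleton.elim S (R.mapSurjective (QuotientGroup.mk'_surjective K))] at hS
  obtain ⟨x, hx, hxg⟩ := hS
  have : x⁻¹ * y ∈ K := QuotientGroup.eq.1 hxg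
  rw [← mul_inv_cancel_left x y, mul_smul, hK _ this]
  exact hR hx

theorem sylCent_of_action [Fact q.Prime] {K : Subgroup G} (hK : ∀ k ∈ K, ∀ w : W, k • w = w)
    (h : ∀ w : W, w ≠ 1 → ¬ q ∣ (stabilizer G w).index ∧ ∀ x ∈ stabilizer G w,
      ∀ y ∈ stabilizer G w, IsPElt q x → IsPElt q y → ⁅x, y⁆ ∈ K)
    (h0 : ∃ y : G, IsPElt q y ∧ ∃ w : W, y • w ≠ w)
    {ρ : (MulDistribMulAction.toMulAut G W).range →* AddMonoid.End (Additive W)}
    (hρ : ∀ g v, (ρ g v).toMul = (g : MulAut W) v.toMul) : SylCent ρ q := by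
  set π := (MulDistribMulAction.toMulAut G W).rangeRestrict with hπ
  have hs : Function.Surjective π := MonoidHom.rangeRestrict_surjective _
  have hfix : ∀ (g : G) v, ρ (π g) v = v ↔ g • v.toMul = v.toMul := fun g v => by
    rw [← Additive.toMul.injective.eq_iff, hρ]; rfl
  refine ⟨fun a b hab => Subtype.ext (MulEquiv.ext fun w => ?_), ?_, fun v hv => ?_⟩
  · exact (hρ a (Additive.ofMul w)).symm.trans (hab ▸ hρ b (Additive.ofMul w))
  · obtain ⟨y, hy, w, hw⟩ := h0
    obtain ⟨k, hk⟩ := hy.map π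
    refine dvd_trans ?_ (orderOf_dvd_natCard (π y))
    rw [hk]
    refine dvd_pow_self q fun e => hw ?_
    rw [e, pow_zero, orderOf_eq_one_iff] at hk
    exact (hfix y (Additive.ofMul w)).1 (by rw [hk, FpfEnd.rho_one])
  obtain ⟨Q, hQ⟩ := exists_sylow_le_of_not_dvd_index (h v.toMul hv).1
  refine ⟨Q.mapSurjective hs, fun y => ⟨?_, fun ⟨hy1, hy2⟩ => ?_⟩⟩
  · rintro ⟨x, hx, rfl⟩
    exact ⟨(hfix x v).2 (hQ hx), (isPElt_of_mem Q.isPGroup' hx).map _⟩
  obtain ⟨y, hy', rfl⟩ := hy2.exists_lift hs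
  refine Sylow.mem_of_isPElt_of_forall_commute _ hy2 ?_
  rintro _ ⟨x, hx, rfl⟩
  rw [← commutatorElement_eq_one_iff_commute, ← map_commutatorElement]
  exact Subtype.ext (MulEquiv.ext fun w => hK _ ((h v.toMul hv).2 x (hQ hx) y ((hfix y v).1 hy1)
    (isPElt_of_mem Q.isPGroup' hx) hy') w)

end Action

theorem SylCent.exists_mul_dvd_charDegree [Group.IsSolvable G] {V : Type v} [AddCommGroup V]
    [Finite V] {ρ : G →* AddMonoid.End V} [hq : Fact q.Prime] [hr : Fact r.Prime]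
    (h : SylCent ρ q) (h' : SylCent ρ r) (hqr : q ≠ r) :
    ∃ χ : IrrCharacter G, q * r ∣ charDegree χ.1 := by
  obtain ⟨a, ha, han, haq⟩ := h.exists_prime_normal h' hqr
  obtain ⟨b, hb, hbn, hbr⟩ := h'.exists_prime_normal h hqr.symm
  have hab : Commute a b := by
    rcases le_or_inf_eq_bot_of_prime_card (K := zpowers a) (by rwa [Nat.card_zpowers])
      (zpowers b) with e | e
    · obtain ⟨k, rfl⟩ := e (mem_zpowers a)
      exact Commute.zpow_self b k
    · exact commute_of_normal_of_disjoint _ _ han hbn (disjoint_iff.2 e) a b (mem_zpowers a)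
        (mem_zpowers b)
  set A := zpowers a ⊔ zpowers b with hA
  have hAc : ∀ x y : A, x * y = y * x := by
    have : A ≤ centralizer (A : Set G) := by
      rw [hA, centralizer_sup, centralizer_zpowers, centralizer_zpowers]
      simp only [sup_le_iff, zpowers_le, mem_inf, mem_centralizer_singleton_iff]
      exact ⟨⟨trivial, hab.eq⟩, hab.symm.eq, trivial⟩
    exact fun x y => Subtype.ext (this y.2 x x.2)
  have haA : a ∈ A := mem_sup_left (mem_zpowers a)
  have hbA : b ∈ A := mem_sup_right (mem_zpowers b)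
  obtain ⟨lam, hla, hlb⟩ : ∃ lam : A →* ℂˣ, lam ⟨a, haA⟩ ≠ 1 ∧ lam ⟨b, hbA⟩ ≠ 1 := by
    obtain ⟨l1, h1⟩ := exists_linear_ne_one_of_comm hAc (g := ⟨a, haA⟩) fun e =>
      ha.ne_one (orderOf_eq_one_iff.2 (congrArg Subtype.val e))
    obtain ⟨l2, h2⟩ := exists_linear_ne_one_of_comm hAc (g := ⟨b, hbA⟩) fun e =>
      hb.ne_one (orderOf_eq_one_iff.2 (congrArg Subtype.val e))
    by_cases e1 : l1 ⟨b, hbA⟩ = 1
    · by_cases e2 : l2 ⟨a, haA⟩ = 1
      · exact ⟨l1 * l2, by simpa [e2] using h1, by simpa [e1] using h2⟩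
      · exact ⟨l2, e2, h2⟩
    · exact ⟨l1, h1, e1⟩
  obtain ⟨χ, hχ⟩ := (IrrCharacter.ofLinear lam).exists_liesOver_above A.subtype_injective
  have key : ∀ (u : ℕ) [Fact u.Prime] (c : G) (hc : c ∈ A), (orderOf c).Prime →
      (zpowers c).Normal → c ∉ peltCent u G → lam ⟨c, hc⟩ ≠ 1 →
      u ∣ (inertia A.subtype (IrrCharacter.ofLinear lam)).index := by
    intro u _ c hc hco hcn hcu hl
    by_contra hd
    obtain ⟨U, hU⟩ := exists_sylow_le_of_not_dvd_index hd
    refine hcu (le_peltCent_of_sylow U (K := zpowers c) (fun y hy => ?_) (mem_zpowers c))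
    rintro _ ⟨n, rfl⟩
    refine Commute.zpow_right ?_ n
    obtain ⟨k, hk⟩ := hcn.conj_mem c (mem_zpowers c) y
    have h1 := mem_inertia_iff_forall.1 (hU hy) ⟨c, hc⟩ (⟨c, hc⟩ ^ k) hk
    simp only [IrrCharacter.ofLinear_apply, Units.val_inj, map_zpow] at h1
    have h2 : orderOf (lam ⟨c, hc⟩) = orderOf c := by
      have := orderOf_map_dvd lam ⟨c, hc⟩
      rw [← orderOf_coe] at this
      exact ((Nat.dvd_prime hco).1 this).resolve_left fun e => hl (orderOf_eq_one_iff.1 e)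
    have h3 : c ^ k = c ^ (1 : ℤ) := by
      rw [zpow_eq_zpow_iff_modEq, ← h2, ← zpow_eq_zpow_iff_modEq, h1, zpow_one]
    simp only at hk
    rw [h3, zpow_one, eq_mul_inv_iff_mul_eq] at hk
    exact hk.symm
  exact ⟨χ, (((Nat.coprime_primes hq.out hr.out).2 hqr).mul_dvd_of_dvd_of_dvd
    (key q a haA ha han haq hla) (key r b hbA hb hbn hbr hlb)).trans hχ.index_inertia_dvd⟩

/-- Two primes cannot both have the unique Sylow centralizer property on a module unless their
product divides a degree. -/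
theorem exists_mul_dvd_charDegree_of_action [Group.IsSolvable G] {W : Type v} [CommGroup W]
    [Finite W] [MulDistribMulAction G W] [Fact q.Prime] [Fact r.Prime] (hqr : q ≠ r)
    {K : Subgroup G} (hK : ∀ k ∈ K, ∀ w : W, k • w = w)
    (hq : ∀ w : W, w ≠ 1 → ¬ q ∣ (stabilizer G w).index ∧ ∀ x ∈ stabilizer G w,
      ∀ y ∈ stabilizer G w, IsPElt q x → IsPElt q y → ⁅x, y⁆ ∈ K)
    (hr : ∀ w : W, w ≠ 1 → ¬ r ∣ (stabilizer G w).index ∧ ∀ x ∈ stabilizer G w,
      ∀ y ∈ stabilizer G w, IsPElt r x → IsPElt r y → ⁅x, y⁆ ∈ K)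
    (hq0 : ∃ y : G, IsPElt q y ∧ ∃ w : W, y • w ≠ w)
    (hr0 : ∃ y : G, IsPElt r y ∧ ∃ w : W, y • w ≠ w) :
    ∃ χ : IrrCharacter G, q * r ∣ charDegree χ.1 := by
  let ρ : (MulDistribMulAction.toMulAut G W).range →* AddMonoid.End (Additive W) :=
    { toFun g := MonoidHom.toAdditive (g : MulAut W).toMonoidHom
      map_one' := rfl
      map_mul' _ _ := rfl }
  have hs := MonoidHom.rangeRestrict_surjective (MulDistribMulAction.toMulAut G W)
  have := solvable_of_surjective hs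
  have := Finite.of_surjective _ hs
  obtain ⟨χ, hχ⟩ := (sylCent_of_action hK hq hq0 (ρ := ρ) fun _ _ => rfl).exists_mul_dvd_charDegree
    (sylCent_of_action hK hr hr0 (ρ := ρ) fun _ _ => rfl) hqr
  exact ⟨χ.inflate _ hs, by rwa [IrrCharacter.charDegree_inflate]⟩

/-- If `θ` extends to its inertia group `T` and `q` divides no degree over `θ`, then `T / N`
contains a Sylow `q`-subgroup of `G / N` as an abelian normal subgroup. -/
theorem commutator_mem_of_extends [Group.IsSolvable G] [Fact q.Prime] {f : N →* G} [IsNormalEmb f]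
    {θ : IrrCharacter N} {η : IrrCharacter (inertia f θ)} (hη : η.1 ∘ toInertia f θ = θ.1)
    (h : ∀ χ : IrrCharacter G, LiesOver f χ.1 θ.1 → ¬ q ∣ charDegree χ.1) :
    ¬ q ∣ (inertia f θ).index ∧ ∀ x ∈ inertia f θ, ∀ y ∈ inertia f θ,
      IsPElt q x → IsPElt q y → ⁅x, y⁆ ∈ f.range := by
  obtain ⟨χ, hχ⟩ := θ.exists_liesOver_above (IsNormalEmb.injective (f := f))
  refine ⟨fun hd => h χ hχ (hd.trans hχ.index_inertia_dvd), fun x hx y hy hx' hy' => ?_⟩
  have hker : (QuotientGroup.mk' (toInertia f θ).range).ker = (toInertia f θ).range :=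
    QuotientGroup.ker_mk' _
  have hβ : ∀ β : IrrCharacter (inertia f θ ⧸ (toInertia f θ).range), ¬ q ∣ charDegree β.1 := by
    intro β hd
    have h1 := gallagher_isIrr (QuotientGroup.mk'_surjective _) hker η.isCharacter (hη ▸ θ.2) β
    have h2 := gallagher_liesOver hker hη β
    have h3 := clifford_isIrr_ind (f := f) (inertia f θ).subtype_injective (j := toInertia f θ)
      (fun _ => rfl) (by rw [range_subtype]) (ψ := ⟨_, h1⟩) h2
    refine h ⟨_, h3⟩ (liesOver_ind_of_liesOver (inertia f θ).subtype_injective (fun _ => rfl)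
      θ.isCharacter h1.isCharacter h2) ?_
    change q ∣ charDegree (ind (inertia f θ).subtype _)
    rw [h1.isCharacter.charDegree_ind_subtype, (β.isCharacter.comp _).charDegree_mul η.isCharacter]
    exact (hd.mul_right _).mul_left _
  obtain ⟨S⟩ : Nonempty (Sylow q (inertia f θ ⧸ (toInertia f θ).range)) := inferInstance
  obtain ⟨hSn, hSc⟩ := ((isPSolvable_of_isSolvable q _).sylow_normal_comm_iff S).2 hβ
  have hmem : ∀ z (hz : z ∈ inertia f θ), IsPElt q z →
      QuotientGroup.mk' (toInertia f θ).range ⟨z, hz⟩ ∈ (S : Subgroup _) := by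
    intro z hz hz'
    obtain ⟨g, hg⟩ := ((isPElt_coe_iff (g := ⟨z, hz⟩)).1 hz' |>.map
      (QuotientGroup.mk' (toInertia f θ).range)).exists_conj_mem S
    simpa [mul_assoc] using hSn.conj_mem _ hg g⁻¹
  have := isMulCommutative_iff_forall.1 hSc _ (hmem x hx hx') _ (hmem y hy hy')
  rw [← commutatorElement_eq_one_iff_mul_comm, ← map_commutatorElement, QuotientGroup.mk'_apply,
    QuotientGroup.eq_one_iff, range_toInertia] at this
  exact this

theorem commutator_mem_of_normal_sylow [Group.IsSolvable G] [Fact p.Prime] [Fact q.Prime]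
    (P : Sylow p G) [(P : Subgroup G).Normal] {θ : IrrCharacter (P : Subgroup G)}
    (h : ∀ χ : IrrCharacter G, LiesOver (P : Subgroup G).subtype χ.1 θ.1 → ¬ q ∣ charDegree χ.1) :
    ¬ q ∣ (inertia (P : Subgroup G).subtype θ).index ∧ ∀ x ∈ inertia (P : Subgroup G).subtype θ,
      ∀ y ∈ inertia (P : Subgroup G).subtype θ, IsPElt q x → IsPElt q y →
        ⁅x, y⁆ ∈ (P : Subgroup G) := by
  obtain ⟨η, hη, -⟩ := exists_extension_of_coprime_card
    (inertia_toInertia (P : Subgroup G).subtype θ) (IsPGroup.coprime_card_of_not_dvd P.isPGroup' (by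
      rw [range_toInertia, range_subtype]
      exact fun hd => P.not_dvd_index (hd.trans (relIndex_dvd_index_of_le
        (le_inertia_subtype _ θ)))))
  simpa only [range_subtype] using commutator_mem_of_extends hη h

end Cfsg
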