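import Cfsg.Agent.Char.RankOneSz
import Cfsg.Prelude.Def_Sz

/-!
# The Suzuki groups as rank one groups
-/

set_option autoImplicit false
set_option linter.unusedSectionVars false

namespace Cfsg

open Subgroup Matrix _root_.Cfsg.Lie

universe u v w

namespace Suz

variable {F : Type u} [Field F]

theorem ext44 {A B : Matrix (Fin 4) (Fin 4) F}
    (h : A 0 0 = B 0 0 ∧ A 0 1 = B 0 1 ∧ A 0 2 = B 0 2 ∧ A 0 3 = B 0 3 ∧ A 1 0 = B 1 0 ∧ A 1 1 = B
      1 1 ∧ A 1 2 = B 1 2 ∧ A 1 3 = B 1 3 ∧ A 2 0 = B 2 0 ∧ A 2 1 = B 2 1 ∧ A 2 2 = B 2 2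
      ∧ A 2 3 = B 2 3 ∧ A 3 0 = B 3 0 ∧ A 3 1 = B 3 1 ∧ A 3 2 = B 3 2 ∧ A 3 3 = B 3 3) : A = B := by
  ext i j; fin_cases i <;> fin_cases j <;> simp [h]

/-- The Gram matrix. -/
def gram (F : Type u) [Field F] : Matrix (Fin 4) (Fin 4) F :=
  !![0, 0, 0, 1; 0, 0, 1, 0; 0, 1, 0, 0; 1, 0, 0, 0]

theorem gram_mul_gram : gram F * gram F = 1 :=
  ext44 (by simp [gram, Matrix.mul_apply, Fin.sum_univ_four])

theorem altForm4_eq (u v : Fin 4 → F) : altForm4 u v = u ⬝ᵥ gram F *ᵥ v := by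
  simp [altForm4, gram, dotProduct, mulVec, Fin.sum_univ_four]

theorem mem_Sp4 {g : GL (Fin 4) F} : g ∈ Sp4 F ↔ g.1ᵀ * gram F * g.1 = gram F := by
  have key : ∀ u v, altForm4 (g.1 *ᵥ u) (g.1 *ᵥ v) = u ⬝ᵥ (g.1ᵀ * gram F * g.1) *ᵥ v := fun u v => by
    rw [altForm4_eq, ← mulVec_mulVec, ← mulVec_mulVec, dotProduct_mulVec u, vecMul_transpose]
  refine ⟨fun h => ?_, fun h u v => (key u v).trans (by rw [h, altForm4_eq])⟩
  ext i j
  have := (key _ _).symm.trans ((h (Pi.single i 1) (Pi.single j 1)).trans (altForm4_eq _ _))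
  simpa using this

theorem row_of_col {A : Matrix (Fin 4) (Fin 4) F} (h : Aᵀ * gram F * A = gram F) :
    A * gram F * Aᵀ = gram F := by
  have h1 : gram F * Aᵀ * gram F * A = 1 := by
    rw [Matrix.mul_assoc, Matrix.mul_assoc, ← Matrix.mul_assoc Aᵀ, h, gram_mul_gram]
  have h2 := congrArg (· * gram F) (mul_eq_one_comm.1 h1)
  simpa only [Matrix.mul_assoc, gram_mul_gram, Matrix.mul_one, Matrix.one_mul] using h2

theorem col_eq {A : Matrix (Fin 4) (Fin 4) F} (h : Aᵀ * gram F * A = gram F) (i j : Fin 4) :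
    A 0 i * A 3 j + A 1 i * A 2 j + A 2 i * A 1 j + A 3 i * A 0 j = gram F i j := by
  rw [← h]; simp [gram, Matrix.mul_apply, Fin.sum_univ_four]; ring

theorem row_eq {A : Matrix (Fin 4) (Fin 4) F} (h : Aᵀ * gram F * A = gram F) (i j : Fin 4) :
    A i 0 * A j 3 + A i 1 * A j 2 + A i 2 * A j 1 + A i 3 * A j 0 = gram F i j :=
  col_eq (A := Aᵀ) (row_of_col h) i j

@[simp] theorem pairOf0 : pairOf 0 = (0, 1) := rfl
@[simp] theorem pairOf1 : pairOf 1 = (0, 2) := rfl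
@[simp] theorem pairOf2 : pairOf 2 = (1, 3) := rfl
@[simp] theorem pairOf3 : pairOf 3 = (2, 3) := rfl

theorem star4_apply (A : Matrix (Fin 4) (Fin 4) F) (p r : Fin 4) : star4 A p r =
    A (pairOf p).1 (pairOf r).1 * A (pairOf p).2 (pairOf r).2 -
      A (pairOf p).2 (pairOf r).1 * A (pairOf p).1 (pairOf r).2 := rfl

theorem gram_pair (p : Fin 4) : gram F (pairOf p).1 (pairOf p).2 = 0 := by
  fin_cases p <;> rfl

variable [CharP F 2]

theorem star4_mul {A B : Matrix (Fin 4) (Fin 4) F} (hA : Aᵀ * gram F * A = gram F)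
    (hB : Bᵀ * gram F * B = gram F) : star4 (A * B) = star4 A * star4 B := by
  ext p r
  have h1 := (row_eq hA _ _).trans (gram_pair p)
  have h2 := (col_eq hB _ _).trans (gram_pair r)
  simp only [star4_apply, Matrix.mul_apply, Fin.sum_univ_four]
  generalize (pairOf p).1 = k at *
  generalize (pairOf p).2 = l at *
  generalize (pairOf r).1 = i at *
  generalize (pairOf r).2 = j at *
  simp only [pairOf0, pairOf1, pairOf2, pairOf3]
  grind

theorem star4_one : star4 (1 : Matrix (Fin 4) (Fin 4) F) = 1 :=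
  ext44 (by simp [star4_apply, Matrix.one_apply])

/-- The Suzuki group. -/
def grp (θ : F →+* F) : Subgroup (GL (Fin 4) F) where
  carrier := {g | g ∈ Sp4 F ∧ star4 g.1 = g.1.map θ}
  mul_mem' {a b} ha hb := ⟨mul_mem ha.1 hb.1, by
    rw [Units.val_mul, star4_mul (mem_Sp4.1 ha.1) (mem_Sp4.1 hb.1), ha.2, hb.2, Matrix.map_mul]⟩
  one_mem' := ⟨one_mem _, by rw [Units.val_one, star4_one, Matrix.map_one _ θ.map_zero θ.map_one]⟩
  inv_mem' {a} ha := ⟨inv_mem ha.1, by
    have h1 := star4_mul (mem_Sp4.1 (inv_mem ha.1)) (mem_Sp4.1 ha.1)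
    rw [Units.inv_mul, star4_one, ha.2] at h1
    rw [← Matrix.mul_one (star4 _), ← Matrix.map_one θ θ.map_zero θ.map_one, ← a.mul_inv,
      Matrix.map_mul, ← Matrix.mul_assoc, ← h1, Matrix.one_mul]⟩

variable {θ : F →+* F}

/-- The underlying matrix. -/
def mat (g : grp θ) : Matrix (Fin 4) (Fin 4) F := g.1.1

theorem mat_injective : Function.Injective (mat : grp θ → _) :=
  fun _ _ h => Subtype.ext (Units.ext h)

@[simp] theorem mat_mul (g h : grp θ) : mat (g * h) = mat g * mat h := rfl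
@[simp] theorem mat_one : mat (1 : grp θ) = 1 := rfl

theorem mat_sp (g : grp θ) : (mat g)ᵀ * gram F * mat g = gram F := mem_Sp4.1 g.2.1

theorem mat_star (g : grp θ) (p r : Fin 4) :
    mat g (pairOf p).1 (pairOf r).1 * mat g (pairOf p).2 (pairOf r).2 -
      mat g (pairOf p).2 (pairOf r).1 * mat g (pairOf p).1 (pairOf r).2 = θ (mat g p r) :=
  congrFun (congrFun g.2.2 p) r

/-- An element of the Suzuki group from a matrix. -/
def mk (A : Matrix (Fin 4) (Fin 4) F) (h1 : Aᵀ * gram F * A = gram F) (h2 : star4 A = A.map θ) :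
    grp θ :=
  ⟨⟨A, gram F * Aᵀ * gram F, by
    rw [← Matrix.mul_assoc, ← Matrix.mul_assoc, row_of_col h1, gram_mul_gram], by
    rw [Matrix.mul_assoc, Matrix.mul_assoc, ← Matrix.mul_assoc Aᵀ, h1, gram_mul_gram]⟩,
    mem_Sp4.2 h1, h2⟩

@[simp] theorem mat_mk (A : Matrix (Fin 4) (Fin 4) F) (h1) (h2 : star4 A = A.map θ) :
    mat (mk A h1 h2) = A := rfl

theorem mat_col (g : grp θ) (i j : Fin 4) : mat g 0 i * mat g 3 j + mat g 1 i * mat g 2 j +
    mat g 2 i * mat g 1 j + mat g 3 i * mat g 0 j = gram F i j := col_eq (mat_sp g) i j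

theorem mat_mul_apply (g h : grp θ) (i j : Fin 4) : mat (g * h) i j =
    mat g i 0 * mat h 0 j + mat g i 1 * mat h 1 j + mat g i 2 * mat h 2 j + mat g i 3 * mat h 3 j := by
  simp [Matrix.mul_apply, Fin.sum_univ_four]

theorem inv_mul_col {g h : grp θ} {c : F} (e : ∀ i, mat g i 0 = c * mat h i 0) (i : Fin 4) :
    mat (h⁻¹ * g) i 0 = c * mat (1 : grp θ) i 0 := by
  rw [← inv_mul_cancel h, mat_mul_apply, mat_mul_apply, e, e, e, e]; ring

/-- The stabiliser of the first coordinate line. -/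
def borel (θ : F →+* F) : Subgroup (grp θ) where
  carrier := {g | mat g 1 0 = 0 ∧ mat g 2 0 = 0 ∧ mat g 3 0 = 0}
  mul_mem' {a b} ha hb := by
    simp [Matrix.mul_apply, Fin.sum_univ_four, ha.1, ha.2.1, ha.2.2, hb.1, hb.2.1, hb.2.2]
  one_mem' := ⟨rfl, rfl, rfl⟩
  inv_mem' {a} ha := by
    have h0 : mat a 0 0 ≠ 0 := fun e => by simpa [e, ha.1, ha.2.1, ha.2.2, gram] using mat_col a 0 3
    have := inv_mul_col (g := 1) (h := a) (c := (mat a 0 0)⁻¹) fun i => by
      fin_cases i <;> simp [h0, ha.1, ha.2.1, ha.2.2]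
    rw [mul_one] at this
    simp [this]

theorem mem_borel {g : grp θ} : g ∈ borel θ ↔ mat g 1 0 = 0 ∧ mat g 2 0 = 0 ∧ mat g 3 0 = 0 :=
  Iff.rfl

theorem borel_ne_zero {a : grp θ} (ha : a ∈ borel θ) : mat a 0 0 ≠ 0 :=
  fun e => by simpa [e, ha.1, ha.2.1, ha.2.2, gram] using mat_col a 0 3

/-- The upper left entry. -/
def borelHom (θ : F →+* F) : borel θ →* Fˣ where
  toFun b := Units.mk0 (mat b.1 0 0) (borel_ne_zero b.2)
  map_one' := Units.ext rfl
  map_mul' a b := Units.ext (by simp [mat_mul_apply, b.2.1, b.2.2.1, b.2.2.2, -mat_mul])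

@[simp] theorem borelHom_val (b : borel θ) : (borelHom θ b : F) = mat b.1 0 0 := rfl

/-- The Sylow `2`-subgroup in coordinates. -/
@[ext] structure SU (θ : F →+* F) where
  a : F
  b : F

instance : Group (SU θ) where
  mul x y := ⟨x.a + y.a, x.b + y.b + θ x.a * y.a⟩
  one := ⟨0, 0⟩
  inv x := ⟨-x.a, -x.b + θ x.a * x.a⟩
  mul_assoc x y z := SU.ext (add_assoc _ _ _) (by
    change x.b + y.b + θ x.a * y.a + z.b + θ (x.a + y.a) * z.a =
      x.b + (y.b + z.b + θ y.a * z.a) + θ x.a * (y.a + z.a)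
    rw [map_add]; ring)
  one_mul x := SU.ext (zero_add _) (by change 0 + x.b + θ 0 * x.a = _; simp)
  mul_one x := SU.ext (add_zero _) (by change x.b + 0 + θ x.a * 0 = _; simp)
  inv_mul_cancel x := SU.ext (neg_add_cancel _) (by
    change -x.b + θ x.a * x.a + x.b + θ (-x.a) * x.a = 0; simp)

@[simp] theorem mul_a (x y : SU θ) : (x * y).a = x.a + y.a := rfl
@[simp] theorem mul_b (x y : SU θ) : (x * y).b = x.b + y.b + θ x.a * y.a := rfl
@[simp] theorem one_a : (1 : SU θ).a = 0 := rfl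
@[simp] theorem one_b : (1 : SU θ).b = 0 := rfl
@[simp] theorem inv_a (x : SU θ) : x⁻¹.a = -x.a := rfl
@[simp] theorem inv_b (x : SU θ) : x⁻¹.b = -x.b + θ x.a * x.a := rfl

/-- Coordinates. -/
def equivProd (θ : F →+* F) : SU θ ≃ F × F where
  toFun x := (x.a, x.b)
  invFun x := ⟨x.1, x.2⟩

instance [Finite F] : Finite (SU θ) := Finite.of_equiv _ (equivProd θ).symm

/-- `θ` is a square root of the Frobenius map. -/
class Tits (θ : F →+* F) : Prop where
  sq : ∀ x, θ (θ x) = x ^ 2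

attribute [simp] Tits.sq

variable [Tits θ]

/-- The unitriangular matrices of the Suzuki group. -/
def umat (x : SU θ) : Matrix (Fin 4) (Fin 4) F :=
  !![1, x.a, x.b + θ x.a * x.a, x.a * x.b + θ x.b + x.a ^ 2 * θ x.a;
    0, 1, θ x.a, x.b; 0, 0, 1, x.a; 0, 0, 0, 1]

theorem umat_sp (x : SU θ) : (umat x)ᵀ * gram F * umat x = gram F :=
  ext44 (by simp [umat, gram, Matrix.mul_apply, Fin.sum_univ_four]; grind)

theorem umat_star (x : SU θ) : star4 (umat x) = (umat x).map θ :=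
  ext44 (by simp [umat, star4_apply]; grind)

theorem umat_one : umat (1 : SU θ) = 1 := ext44 (by simp [umat])

theorem umat_mul (x y : SU θ) : umat (x * y) = umat x * umat y :=
  ext44 (by simp [umat, Matrix.mul_apply, Fin.sum_univ_four]; grind)

/-- The unitriangular elements of the Suzuki group. -/
def uni (θ : F →+* F) [Tits θ] : SU θ →* grp θ where
  toFun x := mk (umat x) (umat_sp x) (umat_star x)
  map_one' := mat_injective umat_one
  map_mul' x y := mat_injective (umat_mul x y)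

@[simp] theorem mat_uni (x : SU θ) : mat (uni θ x) = umat x := rfl

theorem gram_sp : (gram F)ᵀ * gram F * gram F = gram F :=
  ext44 (by simp [gram, Matrix.mul_apply, Fin.sum_univ_four])

theorem gram_star (θ : F →+* F) : star4 (gram F) = (gram F).map θ :=
  ext44 (by simp [gram, star4_apply]; grind)

/-- The Weyl element. -/
def weyl (θ : F →+* F) : grp θ := mk (gram F) gram_sp (gram_star θ)

@[simp] theorem mat_weyl : mat (weyl θ) = gram F := rfl

theorem weyl_inv : (weyl θ)⁻¹ = weyl θ :=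
  inv_eq_of_mul_eq_one_left (mat_injective gram_mul_gram)

/-- The diagonal matrices. -/
def dmat (θ : F →+* F) (t : Fˣ) : Matrix (Fin 4) (Fin 4) F :=
  !![t.1, 0, 0, 0; 0, θ t / t, 0, 0; 0, 0, t / θ t, 0; 0, 0, 0, (t.1)⁻¹]

theorem dmat_sp (t : Fˣ) : (dmat θ t)ᵀ * gram F * dmat θ t = gram F :=
  ext44 (by simp [dmat, gram, Matrix.mul_apply, Fin.sum_univ_four])

theorem dmat_star (t : Fˣ) : star4 (dmat θ t) = (dmat θ t).map θ := by
  have := t.ne_zero
  have := (map_ne_zero θ).2 t.ne_zero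
  exact ext44 (by simp [dmat, star4_apply]; grind)

theorem dmat_one : dmat θ 1 = 1 := ext44 (by simp [dmat])

theorem dmat_mul (s t : Fˣ) : dmat θ (s * t) = dmat θ s * dmat θ t :=
  ext44 (by simp [dmat, Matrix.mul_apply, Fin.sum_univ_four]; grind)

/-- The diagonal elements. -/
def dia (θ : F →+* F) [Tits θ] : Fˣ →* grp θ where
  toFun t := mk (dmat θ t) (dmat_sp t) (dmat_star t)
  map_one' := mat_injective dmat_one
  map_mul' x y := mat_injective (dmat_mul x y)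

@[simp] theorem mat_dia (t : Fˣ) : mat (dia θ t) = dmat θ t := rfl

@[simp] theorem mat_dia_inv (t : Fˣ) : mat (dia θ t)⁻¹ = dmat θ t⁻¹ := by rw [← map_inv, mat_dia]

theorem eq_uni {g : grp θ} (hg : g ∈ borel θ) (h0 : mat g 0 0 = 1) :
    uni θ ⟨mat g 2 3, mat g 1 3⟩ = g := by
  obtain ⟨h1, h2, h3⟩ := hg
  have h21 : mat g 2 1 = 0 := by simpa [h0, h1, h2] using mat_star g 1 0
  have h31 : mat g 3 1 = 0 := by simpa [h0, h1, h2, h3, gram] using mat_col g 0 1
  have h32 : mat g 3 2 = 0 := by simpa [h0, h1, h2, h3, gram] using mat_col g 0 2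
  have h33 : mat g 3 3 = 1 := by simpa [h0, h1, h2, h3, gram] using mat_col g 0 3
  have h11 : mat g 1 1 = 1 := by simpa [h0, h1] using mat_star g 0 0
  have h22 : mat g 2 2 = 1 := by simpa [h21, h31, h32, h11, gram] using mat_col g 1 2
  have e1 := mat_col g 1 3
  have e2 := mat_col g 2 3
  have e3 := mat_star g 2 3
  have e4 := mat_star g 1 3
  simp [h21, h31, h32, h33, h11, h22, gram] at e1 e2 e3 e4
  exact mat_injective (ext44 (by simp [umat, *]; grind))

theorem uni_mem (x : SU θ) : uni θ x ∈ borel θ := ⟨rfl, rfl, rfl⟩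

theorem dia_mem (t : Fˣ) : dia θ t ∈ borel θ := ⟨rfl, rfl, rfl⟩

theorem exists_eq_uni_mul {g : grp θ} (hg : g ∈ borel θ) : ∃ x t, g = uni θ x * dia θ t := by
  have h0 := borel_ne_zero hg
  refine ⟨_, borelHom θ ⟨g, hg⟩, mul_inv_eq_iff_eq_mul.1
    (eq_uni (mul_mem hg (inv_mem (dia_mem _))) ?_).symm⟩
  rw [mat_mul_apply]
  simp [dmat, h0]

theorem ovoid (g : grp θ) : (mat g 3 0 = 0 → g ∈ borel θ) ∧ (mat g 3 0 ≠ 0 →
    ∃ x, ∀ i, mat g i 0 = mat g 3 0 * mat (uni θ x * weyl θ) i 0) := by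
  have e0 := mat_star g 0 0
  have e1 := mat_star g 1 0
  have e2 := mat_star g 2 0
  have e3 := mat_star g 3 0
  have e4 := mat_col g 0 1
  simp only [pairOf0, pairOf1, pairOf2, pairOf3, gram, of_apply, cons_val] at e0 e1 e2 e3 e4
  refine ⟨fun h => ?_, fun h => ⟨⟨mat g 2 0 / mat g 3 0, mat g 1 0 / mat g 3 0⟩, fun i => ?_⟩⟩
  · rw [h] at e2 e3 e4
    rw [map_zero] at e3
    have h2 : mat g 2 0 = 0 := by
      by_contra h2
      exact (map_ne_zero θ).2 h2 (by grind)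
    rw [h2] at e1 e2 e4
    rw [map_zero] at e2
    have h1 : mat g 1 0 = 0 := by
      by_contra h1
      exact (map_ne_zero θ).2 h1 (by grind)
    exact ⟨h1, h2, h⟩
  · have h' := (map_ne_zero θ).2 h
    rw [mat_mul_apply]
    fin_cases i <;> simp [umat, gram, mul_div_cancel₀ _ h]
    field_simp
    grind

theorem weyl_dia (t : Fˣ) : weyl θ * dia θ t = dia θ t⁻¹ * weyl θ :=
  mat_injective (ext44 (by simp [dmat, gram, Matrix.mul_apply, Fin.sum_univ_four, div_eq_inv_mul,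
    mul_comm]))

theorem dia_uni (t : Fˣ) (x : SU θ) :
    dia θ t * uni θ x * (dia θ t)⁻¹ = uni θ ⟨t ^ 2 / θ t * x.a, θ t * x.b⟩ := by
  have := t.ne_zero
  have := (map_ne_zero θ).2 t.ne_zero
  rw [mul_inv_eq_iff_eq_mul]
  exact mat_injective (ext44 (by simp [dmat, umat, Matrix.mul_apply, Fin.sum_univ_four]; grind))

theorem uni_injective : Function.Injective (uni θ) := fun _ _ h =>
  SU.ext (congrArg (fun g => mat g 2 3) h) (congrArg (fun g => mat g 1 3) h)

theorem rankOne [Finite F] : RankOne (uni θ) (borel θ) (weyl θ) where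
  inj := uni_injective
  mem := uni_mem
  norm b hb x := ⟨_, eq_uni (mul_mem (mul_mem hb (uni_mem x)) (inv_mem hb)) (by
    have : borelHom θ (⟨b, hb⟩ * ⟨_, uni_mem x⟩ * ⟨b, hb⟩⁻¹) = 1 := by
      rw [map_mul, map_mul, map_inv, mul_inv_cancel_comm]; exact Units.ext rfl
    exact congrArg Units.val this)⟩
  comm a ha b hb := ⟨_, eq_uni (mul_mem (mul_mem (mul_mem ha hb) (inv_mem ha)) (inv_mem hb)) (by
    have := congrArg Units.val
      (map_commutatorElement (borelHom θ) ⟨a, ha⟩ ⟨b, hb⟩ |>.trans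
        (commutatorElement_eq_one_iff_mul_comm.2 (mul_comm _ _)))
    exact this)⟩
  notMem h := one_ne_zero (α := F) h.2.2
  cover g hg := by
    obtain ⟨x, hx⟩ := (ovoid g).2 fun e => hg ((ovoid g).1 e)
    exact ⟨x, by simp only [mem_borel, inv_mul_col hx]; simp⟩
  free u hu := by
    simp [weyl_inv, mem_borel, umat, gram, Matrix.mul_apply, Fin.sum_univ_four] at hu
    exact SU.ext hu.1 hu.2.1
  gen K hK h := by
    let π := QuotientGroup.mk' K
    have hπ : ∀ x, π (uni θ x) = 1 := fun x => (QuotientGroup.eq_one_iff _).2 (h x)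
    have hB : ∀ b ∈ borel θ, ∃ t, π b = π (dia θ t) := fun b hb => by
      obtain ⟨x, t, rfl⟩ := exists_eq_uni_mul hb
      exact ⟨t, by rw [map_mul, hπ, one_mul]⟩
    have hc : ∀ g, g ∉ borel θ → ∃ t, π g = π (weyl θ) * π (dia θ t) := fun g hg => by
      obtain ⟨x, hx⟩ := (ovoid g).2 fun e => hg ((ovoid g).1 e)
      obtain ⟨t, ht⟩ := hB ((uni θ x * weyl θ)⁻¹ * g)
        (by simp only [mem_borel, inv_mul_col hx]; simp)
      exact ⟨t, by rwa [map_mul, map_inv, map_mul, hπ, one_mul, inv_mul_eq_iff_eq_mul] at ht⟩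
    obtain ⟨s, hs⟩ := hc (weyl θ * uni θ ⟨1, 0⟩ * weyl θ) (by
      simp [mem_borel, umat, gram, Matrix.mul_apply, Fin.sum_univ_four])
    rw [map_mul, map_mul, hπ, mul_one, mul_right_inj] at hs
    have hT : ∀ t, π (dia θ t) = 1 := fun t => by
      obtain ⟨r, hr⟩ := (frobeniusEquiv F 2).surjective t
      have hr0 : r ≠ 0 := by rintro rfl; exact t.ne_zero (by simpa using hr.symm)
      obtain rfl : t = Units.mk0 r hr0 * Units.mk0 r hr0 := Units.ext (by
        rw [← hr]; exact sq r)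
      have := congrArg π (weyl_dia (θ := θ) (Units.mk0 r hr0))
      rw [map_mul, map_mul, hs, ← map_mul, ← map_mul, ← map_mul, ← map_mul, mul_comm s, map_mul,
        map_mul, map_mul, map_mul, mul_left_inj, map_inv, map_inv, eq_inv_iff_mul_eq_one] at this
      rw [map_mul, map_mul, this]
    refine eq_top_iff.2 fun g _ => (QuotientGroup.eq_one_iff g).1 ?_
    by_cases hg : g ∈ borel θ
    · obtain ⟨t, ht⟩ := hB g hg
      exact ht.trans (hT t)
    · obtain ⟨t, ht⟩ := hc g hg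
      exact ht.trans (by rw [hs, hT, hT, mul_one])

theorem eq_of_fixed {x : F} (h : θ x = x) : x = 0 ∨ x = 1 := by
  have := Tits.sq (θ := θ) x
  rw [h, h] at this
  grind

theorem eq_one_of_sq {t : F} (ht : t ≠ 0) (h : θ t = t ^ 2) : t = 1 := by
  have h1 := Tits.sq (θ := θ) t
  rw [h, map_pow, h] at h1
  grind

theorem commute_iff {x y : SU θ} : Commute x y ↔ x.a = 0 ∨ y.a = 0 ∨ x.a = y.a := by
  rw [commute_iff_eq, SU.ext_iff]
  simp only [mul_a, mul_b, add_comm x.a, add_comm x.b, add_right_inj, true_and]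
  refine ⟨fun h => ?_, by rintro (h | h | h) <;> simp [h]⟩
  by_contra! hne
  have := (map_ne_zero θ).2 hne.2.1
  have := eq_of_fixed (θ := θ) (x := x.a / y.a) (by rw [map_div₀]; grind)
  grind

variable [Finite F]

theorem card_SU : Nat.card (SU θ) = Nat.card F ^ 2 := by
  rw [Nat.card_congr (equivProd θ), Nat.card_prod, sq]

theorem card_conjClasses_SU : Nat.card (ConjClasses (SU θ)) = 3 * (Nat.card F - 1) + 1 := by
  have h1 := card_comm_eq_card_conjClasses_mul_card (SU θ)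
  have h2 : Nat.card (Option (Fˣ ⊕ Fˣ ⊕ Fˣ)) =
      Nat.card {p : F × F // p.1 = 0 ∨ p.2 = 0 ∨ p.1 = p.2} := by
    refine Nat.card_eq_of_bijective (fun o => o.elim ⟨(0, 0), .inl rfl⟩ (Sum.elim
      (fun t => ⟨(0, t), .inl rfl⟩) (Sum.elim (fun t => ⟨(t, 0), .inr (.inl rfl)⟩)
      fun t => ⟨(t, t), .inr (.inr rfl)⟩))) ⟨?_, ?_⟩
    · rintro (_ | s | s | s) (_ | t | t | t) <;> simp [Units.ext_iff, eq_comm (a := (0 : F))]
    · rintro ⟨⟨a, c⟩, h⟩
      by_cases ha : a = 0 <;> by_cases hc : c = 0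
      · exact ⟨none, by simp [ha, hc]⟩
      · exact ⟨some (.inl (.mk0 c hc)), by simp [ha]⟩
      · exact ⟨some (.inr (.inl (.mk0 a ha))), by simp [hc]⟩
      · exact ⟨some (.inr (.inr (.mk0 a ha))), by simpa [ha, hc] using h⟩
  have h3 : Nat.card {p : SU θ × SU θ // Commute p.1 p.2} =
      Nat.card ({p : F × F // p.1 = 0 ∨ p.2 = 0 ∨ p.1 = p.2} × SU θ) :=
    Nat.card_congr
      { toFun p := (⟨(p.1.1.a, p.1.2.a), commute_iff.1 p.2⟩, ⟨p.1.1.b, p.1.2.b⟩)
        invFun p := ⟨(⟨p.1.1.1, p.2.a⟩, ⟨p.1.1.2, p.2.b⟩), commute_iff.2 p.1.2⟩ }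
  rw [h3, Nat.card_prod, ← h2] at h1
  rw [← Nat.eq_of_mul_eq_mul_right Nat.card_pos h1]
  simp [Nat.card_units]
  ring

theorem range_j : (rankOne (θ := θ)).j.range = (borelHom θ).ker := by
  ext b
  refine ⟨by rintro ⟨x, rfl⟩; exact Units.ext rfl, fun hb => ⟨_, Subtype.ext (eq_uni b.2 ?_)⟩⟩
  exact congrArg Units.val hb

theorem index_j : (rankOne (θ := θ)).j.range.index = Nat.card F - 1 := by
  rw [range_j, index_ker, MonoidHom.range_eq_top.2 fun t => ⟨⟨dia θ t, dia_mem t⟩, Units.ext rfl⟩,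
    card_top, Nat.card_units]

theorem conj_eq {x y z : SU θ} {t : Fˣ}
    (h : uni θ x * dia θ t * uni θ y * (uni θ x * dia θ t)⁻¹ = uni θ z) :
    x * ⟨t ^ 2 / θ t * y.a, θ t * y.b⟩ * x⁻¹ = z :=
  uni_injective (by rw [← h, map_mul, map_mul, map_inv, ← dia_uni]; group)

theorem frob (n : SU θ) (hn : n ≠ 1) :
    centralizer ({(rankOne (θ := θ)).j n} : Set (borel θ)) ≤ (rankOne (θ := θ)).j.range := by
  rintro ⟨b, hb⟩ h
  obtain ⟨x, t, rfl⟩ := exists_eq_uni_mul hb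
  have h1 := conj_eq (x := x) (y := n) (z := n) (t := t) (mul_inv_eq_iff_eq_mul.2
    (congrArg Subtype.val (mem_centralizer_singleton_iff.1 h)))
  have h2 := t.ne_zero
  have h3 := (map_ne_zero θ).2 h2
  have h4 := congrArg SU.a h1
  have h5 := congrArg SU.b h1
  simp at h4 h5
  obtain rfl : t = 1 := Units.ext (by
    by_cases ha : n.a = 0
    · have hb : n.b ≠ 0 := fun e => hn (SU.ext ha e)
      simp [ha] at h5
      exact (map_eq_one_iff θ θ.injective).1 (by grind)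
    · exact eq_one_of_sq (θ := θ) h2 (by grind))
  exact ⟨x, Subtype.ext (by simp)⟩

theorem exists_linear : ∃ ψ : IrrCharacter (SU θ), ψ ≠ IrrCharacter.one _ ∧ charDegree ψ.1 = 1 := by
  obtain ⟨lam, hlam⟩ := exists_linear_ne_one_of_comm (G := Multiplicative F) mul_comm
    (g := .ofAdd 1) (by simp)
  let φ : SU θ →* Multiplicative F := MonoidHom.mk' (fun x => .ofAdd x.a) fun _ _ => rfl
  exact ⟨.ofLinear (lam.comp φ), fun e => hlam (DFunLike.congr_fun
    (IrrCharacter.ofLinear_eq_one_iff.1 e) ⟨1, 0⟩), IrrCharacter.charDegree_ofLinear _⟩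

theorem exists_sq (t : Fˣ) : ∃ r, t = r * r := by
  obtain ⟨r, hr⟩ := (frobeniusEquiv F 2).surjective t
  have hr0 : r ≠ 0 := by rintro rfl; exact t.ne_zero (by simpa using hr.symm)
  exact ⟨Units.mk0 r hr0, Units.ext (by rw [← hr]; exact sq r)⟩

theorem ps (lam : borel θ →* ℂˣ) (h1 : (rankOne (θ := θ)).IsPS lam) (h2 : lam ≠ 1) :
    ∃ t t' : borel θ, (t' : grp θ) = (weyl θ)⁻¹ * t * weyl θ ∧ lam t' ≠ lam t := by
  by_contra! h
  refine h2 (MonoidHom.ext fun ⟨b, hb⟩ => ?_)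
  obtain ⟨x, t, rfl⟩ := exists_eq_uni_mul hb
  obtain ⟨r, rfl⟩ := exists_sq t
  have h3 := h ⟨_, dia_mem r⟩ ⟨_, dia_mem r⟩⁻¹ (by
    rw [weyl_inv, weyl_dia, mul_assoc, ← weyl_inv, weyl_inv, ← weyl_inv (θ := θ)]
    simp [weyl_inv, ← mul_eq_one_iff_eq_inv.2 (weyl_inv (θ := θ)).symm, mul_assoc])
  rw [map_inv, inv_eq_iff_mul_eq_one] at h3
  rw [show (⟨_, hb⟩ : borel θ) = rankOne.j x * (⟨_, dia_mem r⟩ * ⟨_, dia_mem r⟩) from
    Subtype.ext (by simp), map_mul, h1, map_mul, h3, mul_one, MonoidHom.one_apply]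

theorem trace_eq {g g' : grp θ} (h : IsConj g g') : trace (mat g) = trace (mat g') := by
  obtain ⟨c, rfl⟩ := isConj_iff.1 h
  rw [mat_mul, trace_mul_comm, ← mat_mul, inv_mul_cancel_left]

theorem not_isConj : ¬ IsConj (uni θ ⟨1, 0⟩) (uni θ ⟨1, 1⟩) := by
  intro h
  obtain ⟨g, hg⟩ := isConj_iff.1 h
  by_cases hb : g ∈ borel θ
  · obtain ⟨x, t, rfl⟩ := exists_eq_uni_mul hb
    have h1 := conj_eq hg
    have h4 := congrArg SU.a h1
    have h5 := congrArg SU.b h1
    simp at h4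
    simp [h4] at h5
    have h6 := Tits.sq (θ := θ) x.a
    have h7 : θ x.a = x.a + 1 := by grind
    rw [h7, map_add, h7, map_one] at h6
    have h8 : x.a = 0 ∨ x.a = 1 := by grind
    rcases h8 with e | e <;> simp [e] at h7
  · obtain ⟨u, hu⟩ := rankOne.cover g hb
    have := rankOne.free (u⁻¹ * ⟨1, 1⟩ * u) (by
      convert mul_mem (mul_mem hu (uni_mem ⟨1, 0⟩)) (inv_mem hu) using 1
      rw [map_mul, map_mul, map_inv, ← hg]; group)
    simpa using congrArg SU.a this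

theorem card_le : Nat.card F + 3 ≤ Nat.card (ConjClasses (grp θ)) := by
  have h0 : 0 < Nat.card F := Nat.card_pos
  have h1 : Nat.card (Fˣ ⊕ Fin 4) = Nat.card F + 3 := by
    simp [Nat.card_units]; omega
  rw [← h1]
  refine Nat.card_le_card_of_injective (fun x => ConjClasses.mk (Sum.elim
    (fun τ : Fˣ => uni θ ⟨0, τ⟩ * weyl θ) (fun i : Fin 4 => uni θ 
      (![1, ⟨0, 1⟩, ⟨1, 0⟩, ⟨1, 1⟩] i)) x)) ?_
  have t1 : ∀ τ : F, trace (mat (uni θ ⟨0, τ⟩ * weyl θ)) = θ τ := fun τ => by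
    simp [trace, umat, gram, Matrix.mul_apply, Fin.sum_univ_four]
  have t2 : ∀ x, trace (mat (uni θ x)) = 0 := fun x => by
    simp [trace, umat, Fin.sum_univ_four]; grind
  have k1 : ∀ x, IsConj (uni θ 1) (uni θ x) → x = 1 := fun x h => by
    rwa [map_one, isConj_one_right, map_eq_one_iff _ uni_injective] at h
  have k2 : ∀ x, IsConj (uni θ ⟨0, 1⟩) (uni θ x) → x.a = 0 := fun x h => by
    have := h.pow 2
    rw [← map_pow, ← map_pow, show (⟨0, 1⟩ : SU θ) ^ 2 = 1 from SU.ext (by simp [sq])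
      (by simp [sq]; grind)] at this
    have := congrArg SU.b (k1 _ this)
    simp [sq, CharTwo.add_self_eq_zero] at this
    exact this
  rintro (τ | i) (σ | j) e <;> rw [ConjClasses.mk_eq_mk_iff_isConj] at e
  · have := trace_eq e
    simp only [Sum.elim_inl, t1] at this
    rw [Units.ext (θ.injective this)]
  · have := trace_eq e
    simp [t1, t2, -mat_mul, -mat_uni] at this
  · have := trace_eq e.symm
    simp [t1, t2, -mat_mul, -mat_uni] at this
  · have hk : ∀ x y : SU θ, IsConj (uni θ x) (uni θ y) → (x = 1 → y = 1) ∧ (x = ⟨0, 1⟩ → y.a = 0) ∧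
        (x = ⟨1, 0⟩ → y ≠ ⟨1, 1⟩) := fun x y h =>
      ⟨by rintro rfl; exact k1 y h, by rintro rfl; exact k2 y h, by rintro rfl rfl; exact not_isConj h⟩
    have a := hk _ _ e
    have b := hk _ _ e.symm
    clear e
    fin_cases i <;> fin_cases j <;> simp [SU.ext_iff] at a b ⊢

theorem isSz {k : ℕ} (hk : 1 ≤ k) (hF : Nat.card F = 2 ^ (2 * k + 1)) :
    (rankOne (θ := θ)).IsSz k (Nat.card F - 1) := by
  have h0 : Nat.card F - 1 + 1 = Nat.card F := Nat.sub_add_cancel Nat.card_pos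
  exact ⟨hk, by rw [h0, hF]; ring, by rw [h0, card_SU], index_j, frob, card_conjClasses_SU,
    exists_linear, ps, le_trans (by omega) card_le⟩

end Suz

end Cfsg

set_option linter.all false in
theorem Cfsg.Rz.Char_SzGroup_0 : True := by
  have := @_root_.Cfsg.Suz.weyl.eq_def.{0}
  have := @_root_.Cfsg.Suz.weyl.eq_1.{0}
  have := @_root_.Cfsg.Suz.weyl.fun_cases
  have := @_root_.Cfsg.Suz.umat.eq_def.{0}
  have := @_root_.Cfsg.Suz.umat.fun_cases
  have := @_root_.Cfsg.Suz.Tits.mk.congr_simp.{0}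
  have := @_root_.Cfsg.Suz.gram.eq_def.{0}
  have := @_root_.Cfsg.Suz.gram.fun_cases
  have := @_root_.Cfsg.Suz.borel.eq_def.{0}
  have := @_root_.Cfsg.Suz.borel.eq_1.{0}
  have := @_root_.Cfsg.Suz.borel.fun_cases
  have := @_root_.Cfsg.Suz.mk.congr_simp.{0}
  have := @_root_.Cfsg.Suz.mk.eq_def.{0}
  have := @_root_.Cfsg.Suz.mk.eq_1.{0}
  have := @_root_.Cfsg.Suz.mk.fun_cases
  have := @_root_.Cfsg.Suz.equivProd.eq_def.{0}
  have := @_root_.Cfsg.Suz.equivProd.eq_1.{0}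
  have := @_root_.Cfsg.Suz.equivProd.fun_cases
  have := @_root_.Cfsg.Suz.instGroupSU.eq_def.{0}
  have := @_root_.Cfsg.Suz.instGroupSU.eq_1.{0}
  have := @_root_.Cfsg.Suz.instGroupSU.fun_cases
  have := @_root_.Cfsg.Suz.dmat.eq_def.{0}
  have := @_root_.Cfsg.Suz.dmat.fun_cases
  have := @_root_.Cfsg.Suz.borelHom.eq_def.{0}
  have := @_root_.Cfsg.Suz.borelHom.eq_1.{0}
  have := @_root_.Cfsg.Suz.borelHom.fun_cases
  have := @_root_.Cfsg.Suz.mat.eq_def.{0}
  have := @_root_.Cfsg.Suz.mat.eq_1.{0}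
  have := @_root_.Cfsg.Suz.mat.fun_cases
  have := @_root_.Cfsg.Suz.dia.eq_def.{0}
  trivial

set_option linter.all false in
theorem Cfsg.Rz.Char_SzGroup_1 : True := by
  have := @_root_.Cfsg.Suz.dia.eq_1.{0}
  have := @_root_.Cfsg.Suz.dia.fun_cases
  have := @_root_.Cfsg.Suz.uni.eq_def.{0}
  have := @_root_.Cfsg.Suz.uni.eq_1.{0}
  have := @_root_.Cfsg.Suz.uni.fun_cases
  have := @_root_.Cfsg.Suz.grp.congr_simp.{0}
  have := @_root_.Cfsg.Suz.grp.eq_def.{0}
  have := @_root_.Cfsg.Suz.grp.eq_1.{0}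
  have := @_root_.Cfsg.Suz.grp.fun_cases
  trivial
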