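import Cfsg.Agent.Char.SylDeg

/-!
# Pálfy's three primes theorem
-/

set_option autoImplicit false
set_option linter.unusedSectionVars false

namespace Cfsg

open scoped commutatorElement Classical
open Subgroup MulAction

universe u v

variable {G : Type u} [Group G] [Finite G] {p q r : ℕ}

theorem LinC.smul_eq_iff_subtype {P : Subgroup G} [P.Normal] {g : G} {x : LinC P.subtype} :
    g • x = x ↔ ∀ z z' : P, (z' : G) = g * z * g⁻¹ → x.hom z' = x.hom z := by
  rw [← LinC.mem_inertia_iff, mem_inertia_iff_forall]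
  exact forall₃_congr fun _ _ _ => Units.val_inj

theorem LinC.apply_commutator_of_smul_eq {P : Subgroup G} [hP : P.Normal] {g : G}
    {x : LinC P.subtype} (h : g • x = x) {z : G} (hz : z ∈ P) (w : P) (hw : (w : G) = ⁅z, g⁆) :
    x.hom w = 1 := by
  have h1 := LinC.smul_eq_iff_subtype.1 h ⟨z, hz⟩⁻¹ ⟨_, hP.conj_mem _ (inv_mem hz) g⟩ rfl
  have : w = ⟨z, hz⟩ * ⟨_, hP.conj_mem _ (inv_mem hz) g⟩ := Subtype.ext (by
    simp only [hw, commutatorElement_def, coe_mul, mul_assoc])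
  rw [this, map_mul, h1, map_inv, mul_inv_cancel]

theorem coe_mem_commutator_iff {P : Subgroup G} {x : P} : (x : G) ∈ ⁅P, P⁆ ↔ x ∈ commutator P := by
  rw [← map_subtype_commutator]
  exact mem_map_iff_mem P.subtype_injective

theorem LinC.smul_eq_of_mem {P : Subgroup G} [P.Normal] {g : G} (hg : g ∈ P)
    (x : LinC P.subtype) : g • x = x := LinC.map_smul_eq (f := P.subtype) ⟨g, hg⟩ x

theorem subgroupOf_sup_subgroupOf_of_le {N L T : Subgroup G} [N.Normal] (hT : N ≤ T)
    (h : L ⊔ N = ⊤) : N.subgroupOf T ⊔ L.subgroupOf T = ⊤ := by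
  refine eq_top_iff.2 fun t _ => ?_
  obtain ⟨l, hl, n, hn, e⟩ := (mem_sup_of_le_normalizer (H := L) (N := N)
    (normalizer_eq_top N ▸ le_top)).1 (h ▸ mem_top (t : G))
  have : t = (t * ⟨n, hT hn⟩⁻¹) * ⟨n, hT hn⟩ := by group
  rw [this]
  refine mul_mem (mem_sup_right ?_) (mem_sup_left hn)
  rw [mem_subgroupOf, coe_mul, coe_inv, ← e]
  simpa using hl

namespace ThreePrimes

variable [Group.IsSolvable G] [hp : Fact p.Prime] [hq : Fact q.Prime] [hr : Fact r.Prime]

omit hq hr in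
theorem not_dvd_right {χ : IrrCharacter G} {a b : ℕ} (ha : a.Prime) (hb : b.Prime) (hab : a ≠ b)
    (h : ¬ a * b ∣ charDegree χ.1) (h1 : a ∣ charDegree χ.1) : ¬ b ∣ charDegree χ.1 := fun h2 =>
  h (((Nat.coprime_primes ha hb).2 hab).mul_dvd_of_dvd_of_dvd h1 h2)

/-- The case where no Sylow subgroup is normal. -/
theorem caseA (hpq : p ≠ q) (hpr : p ≠ r) (hqr : q ≠ r)
    (h1 : ∀ χ : IrrCharacter G, ¬ p * q ∣ charDegree χ.1)
    (h2 : ∀ χ : IrrCharacter G, ¬ p * r ∣ charDegree χ.1)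
    (h3 : ∀ χ : IrrCharacter G, ¬ q * r ∣ charDegree χ.1)
    (nP : ∀ P : Sylow p G, ¬ (P : Subgroup G).Normal)
    (nQ : ∀ Q : Sylow q G, ¬ (Q : Subgroup G).Normal)
    (nR : ∀ R : Sylow r G, ¬ (R : Subgroup G).Normal) {N : Subgroup G} [N.Normal]
    (hN : IsMinNormal N) (h : ∀ χ : IrrCharacter (G ⧸ N), ¬ p ∣ charDegree χ.1) : False := by
  obtain ⟨P⟩ : Nonempty (Sylow p G) := inferInstance
  have := hN.isMulCommutative_of_isSolvable
  have hPN : ((P : Subgroup G) ⊔ N).Normal := by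
    rw [← comap_map_mk'_eq_sup]
    exact (((isPSolvable_of_isSolvable p _).sylow_normal_comm_iff
      (P.mapSurjective (QuotientGroup.mk'_surjective N))).2 h).1.comap _
  set L := normalizer ((P : Subgroup G) : Set G) with hL
  have hLN : L ⊔ N = ⊤ := by
    rw [eq_top_iff, ← P.normalizer_sup_eq_top' (N := (P : Subgroup G) ⊔ N) le_sup_left]
    exact sup_le le_sup_left (sup_le (le_normalizer.trans le_sup_left) le_sup_right)
  have hNL : N ⊓ L = ⊥ := hN.inf_eq_bot_of_sup_eq_top hLN fun e => nP P (normalizer_eq_top_iff.1 e)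
  have hpN : ¬ p ∣ Nat.card N := fun hd => hN.ne_bot (by
    rw [← hNL, eq_comm, inf_eq_left]
    exact ((le_pCore (hN.isPGroup_of_isSolvable_of_dvd hd)).trans (pCore_le_sylow P)).trans
      le_normalizer)
  have hcomm : ⁅N, (P : Subgroup G)⁆ = N := by
    have := (isCoprimeAction_of_isPGroup_left (A := P) (N := N) (normalizer_eq_top N ▸ le_top)
      P.isPGroup' hpN).inf_centralizer_sup_commutator
    rwa [eq_bot_iff.2 ((inf_le_inf_left N (centralizer_le_normalizer _)).trans hNL.le),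
      bot_sup_eq] at this
  have hK : ∀ k ∈ N, ∀ w : LinC N.subtype, k • w = w := fun k hk w => LinC.smul_eq_of_mem hk w
  have hidx : ∀ w : LinC N.subtype, w ≠ 1 → p ∣ (stabilizer G w).index := by
    intro w hw
    by_contra hd
    have hP := Sylow.le_of_sup_normal P (K := N) (fun k hk => hK k hk w) hd
    refine hw (LinC.ext' fun n => ?_)
    have : N ≤ w.hom.ker.map N.subtype := by
      conv_lhs => rw [← hcomm]
      refine commutator_le.2 fun z hz y hy => ⟨⟨_, hcomm.le (commutator_mem_commutator hz hy)⟩,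
        LinC.apply_commutator_of_smul_eq (hP hy) hz _ rfl, rfl⟩
    exact (mem_map_iff_mem N.subtype_injective).1 (this n.2)
  have hst : ∀ (s : ℕ) [Fact s.Prime], p ≠ s → (∀ χ : IrrCharacter G, ¬ p * s ∣ charDegree χ.1) →
      ∀ w : LinC N.subtype, w ≠ 1 → ¬ s ∣ (stabilizer G w).index ∧ ∀ x ∈ stabilizer G w,
        ∀ y ∈ stabilizer G w, IsPElt s x → IsPElt s y → ⁅x, y⁆ ∈ N := by
    intro s hs hps hh w hw
    have hi := hidx w hw
    rw [LinC.stabilizer_eq] at hi ⊢
    obtain ⟨η, hη, -⟩ := exists_extension_of_supplement (inertia_toInertia N.subtype w.irr)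
      (by simp) (L.subgroupOf _) (by
        rw [range_toInertia, range_subtype]
        exact subgroupOf_sup_subgroupOf_of_le (le_inertia_subtype _ _) hLN) (fun n hn => by
          have : n = 1 := Subtype.ext (mem_bot.1 (hNL ▸ mem_inf.2 ⟨n.2, hn⟩))
          rw [this, detChar_apply_one])
    simpa only [range_subtype] using commutator_mem_of_extends hη fun χ hχ =>
      not_dvd_right hp.out hs.out hps (hh χ) (hi.trans hχ.index_inertia_dvd)
  have hact : ∀ (s : ℕ) [Fact s.Prime], p ≠ s → (∀ χ : IrrCharacter G, ¬ p * s ∣ charDegree χ.1) →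
      (∀ S : Sylow s G, ¬ (S : Subgroup G).Normal) →
      ∃ y : G, IsPElt s y ∧ ∃ w : LinC N.subtype, y • w ≠ w := by
    intro s hs hps hh nS
    by_contra hn
    push Not at hn
    obtain ⟨S⟩ : Nonempty (Sylow s G) := inferInstance
    have hS : (S : Subgroup G) ≤ centralizer (N : Set G) := fun y hy =>
      LinC.forall_smul_eq_iff.1 (hn y (isPElt_of_mem S.isPGroup' hy))
    obtain ⟨w, hw⟩ : ∃ w : LinC N.subtype, w ≠ 1 := by
      have : Nontrivial (LinC N.subtype) := Finite.one_lt_card_iff_nontrivial.1 (by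
        rw [LinC.card_eq_of_comm]; exact (one_lt_card_iff_ne_bot _).2 hN.ne_bot)
      exact exists_ne 1
    have := Sylow.sup_normal_of_forall_commutator S (K := N) hS fun x hx y hy =>
      (hst s hps hh w hw).2 x (LinC.forall_smul_eq_iff.2 hx w) y (LinC.forall_smul_eq_iff.2 hy w)
    exact nS S (Sylow.normal_of_sup_normal S (L := N)
      ((le_centralizer_iff.1 hS).trans (centralizer_le_normalizer _)))
  obtain ⟨χ, hχ⟩ := exists_mul_dvd_charDegree_of_action hqr hK (hst q hpq h1) (hst r hpr h2)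
    (hact q hpq h1 nQ) (hact r hpr h2 nR)
  exact h3 χ hχ

omit hq hr in
theorem dvd_of_nonlinear (P : Sylow p G) {θ : IrrCharacter (P : Subgroup G)}
    (h : charDegree θ.1 ≠ 1) : p ∣ charDegree θ.1 := by
  obtain ⟨k, hk⟩ := P.isPGroup'.exists_card_eq
  obtain ⟨i, -, hi⟩ := (Nat.dvd_prime_pow hp.out).1 (hk ▸ θ.charDegree_dvd_card)
  rw [hi] at h ⊢
  exact dvd_pow_self p fun e => h (by rw [e, pow_zero])

omit hr in
theorem not_dvd_card_sylow (hpq : p ≠ q) (Q : Sylow q G) : ¬ p ∣ Nat.card Q := by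
  obtain ⟨k, hk⟩ := Q.isPGroup'.exists_card_eq
  rw [hk]
  exact fun hd => hpq ((Nat.prime_dvd_prime_iff_eq hp.out hq.out).1 (hp.out.dvd_of_dvd_pow hd))

omit hr in
/-- A Sylow `q`-subgroup acting trivially on `P / P'` with `QL` normal, `L ≤ P`, is normal. -/
theorem normal_of_commutator_le (hpq : p ≠ q) (P : Sylow p G) [(P : Subgroup G).Normal]
    (Q : Sylow q G) {L : Subgroup G} (hL : L ≤ P) [((Q : Subgroup G) ⊔ L).Normal]
    (h : ⁅(P : Subgroup G), (Q : Subgroup G)⁆ ≤ ⁅(P : Subgroup G), (P : Subgroup G)⁆) :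
    (Q : Subgroup G).Normal :=
  Sylow.normal_of_sup_normal Q (L := L) (hL.trans ((le_centralizer_of_commutator_le_commutator
    P.isPGroup' (not_dvd_card_sylow hpq Q) (normalizer_eq_top (P : Subgroup G) ▸ le_top) h).trans
    (centralizer_le_normalizer _)))

omit hr in
theorem not_normal (hpq : p ≠ q) (h1 : ∀ χ : IrrCharacter G, ¬ p * q ∣ charDegree χ.1)
    (P : Sylow p G) [(P : Subgroup G).Normal] (hP : ¬ IsMulCommutative (P : Subgroup G))
    (hQ : ∃ χ : IrrCharacter G, q ∣ charDegree χ.1) (Q : Sylow q G) :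
    ¬ (Q : Subgroup G).Normal := by
  intro hn
  obtain ⟨χ, hχ⟩ := hQ
  refine ((isPSolvable_of_isSolvable q G).sylow_normal_comm_iff Q).1 ⟨hn, ?_⟩ χ hχ
  obtain ⟨θ, hθ⟩ : ∃ θ : IrrCharacter (P : Subgroup G), charDegree θ.1 ≠ 1 := by
    by_contra h
    push Not at h
    exact hP (isMulCommutative_iff_forall_irr_charDegree.2 h)
  have hPQ : (P : Subgroup G) ⊓ Q = ⊥ :=
    inf_eq_bot_of_isPGroup_of_not_dvd P.isPGroup' (not_dvd_card_sylow hpq Q)
  have hQT : (Q : Subgroup G) ≤ inertia (P : Subgroup G).subtype θ := by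
    refine le_trans ?_ (centralizer_le_inertia _ θ)
    rw [range_subtype]
    exact fun y hy x hx => commute_of_normal_of_disjoint _ _ ‹_› hn (disjoint_iff.2 hPQ) x y hx hy
  refine isMulCommutative_iff_forall.2 fun x hx y hy => ?_
  rw [← commutatorElement_eq_one_iff_mul_comm, ← mem_bot, ← hPQ]
  exact mem_inf.2 ⟨(commutator_mem_of_normal_sylow P fun χ hχ => not_dvd_right hp.out hq.out hpq
    (h1 χ) ((dvd_of_nonlinear P hθ).trans hχ.charDegree_dvd)).2 x (hQT hx) y (hQT hy)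
    (isPElt_of_mem Q.isPGroup' hx) (isPElt_of_mem Q.isPGroup' hy),
    mul_mem (mul_mem (mul_mem hx hy) (inv_mem hx)) (inv_mem hy)⟩

omit hq hr in
theorem nonlinear_of_liesOver {P : Subgroup G} [P.Normal] (hle : ⁅P, P⁆ ≤ P)
    {ξ : LinC (⁅P, P⁆).subtype} (hξ : ξ ≠ 1) {φ : IrrCharacter P}
    (h : LiesOver (inclusion hle) φ.1 ξ.irr.1) : charDegree φ.1 ≠ 1 := by
  intro h1
  have h2 := h.comp_eq_of_charDegree_le φ.isCharacter (by rw [h1, LinC.charDegree_irr])
  refine hξ (LinC.ext' fun n => Units.val_inj.1 ?_)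
  have h3 := apply_of_mem_charKer ((φ.commutator_le_charKer_iff'.2 h1)
    (coe_mem_commutator_iff.1 (show ((inclusion hle n : P) : G) ∈ _ from n.2)))
  have h4 := congrFun h2 n
  have h5 := congrFun h2 1
  simp only [Function.comp_apply, map_one] at h4 h5
  rw [h4, h5] at h3
  simpa [LinC.irr] using h3

omit hr in
/-- The action on the dual of `P'` when `P'` is central in `P`. -/
theorem stab_dual (hpq : p ≠ q) (h1 : ∀ χ : IrrCharacter G, ¬ p * q ∣ charDegree χ.1)
    (P : Sylow p G) [(P : Subgroup G).Normal]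
    (hc : (P : Subgroup G) ≤ centralizer ((⁅(P : Subgroup G), (P : Subgroup G)⁆ : Subgroup G) : Set G))
    (ξ : LinC (⁅(P : Subgroup G), (P : Subgroup G)⁆).subtype) (hξ : ξ ≠ 1) :
    ¬ q ∣ (stabilizer G ξ).index ∧ ∀ x ∈ stabilizer G ξ, ∀ y ∈ stabilizer G ξ,
      IsPElt q x → IsPElt q y → ⁅x, y⁆ ∈ (P : Subgroup G) := by
  have hle : ⁅(P : Subgroup G), (P : Subgroup G)⁆ ≤ P := commutator_le_left _ _
  rw [LinC.stabilizer_eq]
  have hPT : (P : Subgroup G) ≤ inertia _ ξ.irr :=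
    le_trans (by rwa [range_subtype]) (centralizer_le_inertia _ _)
  obtain ⟨φ, hφ, hT⟩ := exists_invariant_liesOver_above_of_coprime_index
    (f := toInertia _ ξ.irr) (i := inclusion hPT) (j := inclusion hle) (fun _ => rfl)
    (by
      rw [inclusion_range, inclusion_range]
      refine (IsPGroup.coprime_card_of_not_dvd P.isPGroup' fun hd => P.not_dvd_index
        (hd.trans (relIndex_dvd_index_of_le hPT))).symm.coprime_dvd_right (index_dvd_card _))
    (Or.inl inferInstance) (inertia_toInertia _ _)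
  have hφ1 := dvd_of_nonlinear P (nonlinear_of_liesOver hle hξ hφ)
  have hnd : ∀ χ : IrrCharacter G, LiesOver (P : Subgroup G).subtype χ.1 φ.1 →
      ¬ q ∣ charDegree χ.1 := fun χ hχ =>
    not_dvd_right hp.out hq.out hpq (h1 χ) (hφ1.trans hχ.charDegree_dvd)
  have hTT : inertia _ ξ.irr ≤ inertia (P : Subgroup G).subtype φ := fun t ht => by
    rw [inertia_of_factor (f := (P : Subgroup G).subtype) (i := (inertia _ ξ.irr).subtype)
      (fun _ => rfl)] at hT
    exact (hT.ge (mem_top ⟨t, ht⟩) :)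
  obtain ⟨χ, hχ⟩ := φ.exists_liesOver_above (P : Subgroup G).subtype_injective
  exact ⟨fun hd => hnd χ hχ (hd.trans (LiesOver.index_inertia_dvd (LiesOver.trans_of_eq
    (fun _ => rfl) χ.isCharacter ξ.irr.isCharacter hχ hφ))), fun x hx y hy =>
    (commutator_mem_of_normal_sylow P hnd).2 x (hTT hx) y (hTT hy)⟩

omit hr in
theorem sup_normal (hpq : p ≠ q) (h1 : ∀ χ : IrrCharacter G, ¬ p * q ∣ charDegree χ.1)
    (P : Sylow p G) [(P : Subgroup G).Normal]
    (hc : (P : Subgroup G) ≤ centralizer ((⁅(P : Subgroup G), (P : Subgroup G)⁆ : Subgroup G) : Set G))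
    (h0 : ⁅(P : Subgroup G), (P : Subgroup G)⁆ ≠ ⊥) (Q : Sylow q G)
    (hQ : (Q : Subgroup G) ≤
      centralizer ((⁅(P : Subgroup G), (P : Subgroup G)⁆ : Subgroup G) : Set G)) :
    ((Q : Subgroup G) ⊔ P).Normal := by
  have : IsMulCommutative (⁅(P : Subgroup G), (P : Subgroup G)⁆ : Subgroup G) :=
    isMulCommutative_iff_forall.2 fun a ha b hb => hc (commutator_le_left _ _ hb) a ha
  obtain ⟨w, hw⟩ : ∃ w : LinC (⁅(P : Subgroup G), (P : Subgroup G)⁆).subtype, w ≠ 1 := by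
    have : Nontrivial (LinC (⁅(P : Subgroup G), (P : Subgroup G)⁆).subtype) :=
      Finite.one_lt_card_iff_nontrivial.1 (by
        rw [LinC.card_eq_of_comm]; exact (one_lt_card_iff_ne_bot _).2 h0)
    exact exists_ne 1
  exact Sylow.sup_normal_of_forall_commutator Q hQ fun x hx y hy =>
    (stab_dual hpq h1 P hc w hw).2 x (LinC.forall_smul_eq_iff.2 hx w) y
      (LinC.forall_smul_eq_iff.2 hy w)

omit hq hr hp in
theorem commutator_le_of_forall_smul {P Q : Subgroup G} [hP : P.Normal]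
    (h : ∀ x : LinC P.subtype, ∀ y ∈ Q, y • x = x) : ⁅P, Q⁆ ≤ ⁅P, P⁆ :=
  commutator_le.2 fun z hz y hy => (coe_mem_commutator_iff
    (x := ⟨_, commutator_le_left P Q (commutator_mem_commutator hz hy)⟩)).2
    (mem_commutator_iff_forall_linear.2 fun lam =>
      LinC.apply_commutator_of_smul_eq (h (LinC.mk _ lam) y hy) hz _ rfl)

theorem caseBoth (hpq : p ≠ q) (hpr : p ≠ r) (hqr : q ≠ r)
    (h3 : ∀ χ : IrrCharacter G, ¬ q * r ∣ charDegree χ.1)
    (P : Sylow p G) [(P : Subgroup G).Normal] (Q : Sylow q G) (R : Sylow r G)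
    [((Q : Subgroup G) ⊔ P).Normal] [((R : Subgroup G) ⊔ P).Normal]
    (nQ : ¬ (Q : Subgroup G).Normal) (nR : ¬ (R : Subgroup G).Normal) : False := by
  obtain ⟨a, y, hy, ha⟩ : ∃ a : LinC (P : Subgroup G).subtype, ∃ y ∈ (Q : Subgroup G),
      y • a ≠ a := by
    by_contra hn
    push Not at hn
    exact nQ (normal_of_commutator_le hpq P Q le_rfl (commutator_le_of_forall_smul hn))
  obtain ⟨b, z, hz, hb⟩ : ∃ a : LinC (P : Subgroup G).subtype, ∃ y ∈ (R : Subgroup G),
      y • a ≠ a := by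
    by_contra hn
    push Not at hn
    exact nR (normal_of_commutator_le hpr P R le_rfl (commutator_le_of_forall_smul hn))
  obtain ⟨c, hc1, hc2⟩ : ∃ c : LinC (P : Subgroup G).subtype, y • c ≠ c ∧ z • c ≠ c := by
    by_cases e1 : z • a = a
    · by_cases e2 : y • b = b
      · exact ⟨a * b, by rwa [smul_mul', e2, Ne, mul_left_inj],
          by rwa [smul_mul', e1, Ne, mul_right_inj]⟩
      · exact ⟨b, e2, hb⟩
    · exact ⟨a, ha, e1⟩
  have hK : (P : Subgroup G) ≤ stabilizer G c := fun k hk => LinC.smul_eq_of_mem hk c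
  have d1 : q ∣ (stabilizer G c).index := by
    by_contra hd
    exact hc1 (Sylow.le_of_sup_normal Q hK hd hy)
  have d2 : r ∣ (stabilizer G c).index := by
    by_contra hd
    exact hc2 (Sylow.le_of_sup_normal R hK hd hz)
  rw [LinC.stabilizer_eq] at d1 d2
  obtain ⟨χ, hχ⟩ := c.irr.exists_liesOver_above (P : Subgroup G).subtype_injective
  exact not_dvd_right hq.out hr.out hqr (h3 χ) (d1.trans hχ.index_inertia_dvd)
    (d2.trans hχ.index_inertia_dvd)

theorem caseOne (hpq : p ≠ q) (hpr : p ≠ r) (hqr : q ≠ r)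
    (h1 : ∀ χ : IrrCharacter G, ¬ p * q ∣ charDegree χ.1)
    (h2 : ∀ χ : IrrCharacter G, ¬ p * r ∣ charDegree χ.1)
    (h3 : ∀ χ : IrrCharacter G, ¬ q * r ∣ charDegree χ.1)
    (P : Sylow p G) [hPn : (P : Subgroup G).Normal]
    (hc : (P : Subgroup G) ≤ centralizer ((⁅(P : Subgroup G), (P : Subgroup G)⁆ : Subgroup G) : Set G))
    (h0 : ⁅(P : Subgroup G), (P : Subgroup G)⁆ ≠ ⊥) (Q : Sylow q G)
    (hQ : (Q : Subgroup G) ≤
      centralizer ((⁅(P : Subgroup G), (P : Subgroup G)⁆ : Subgroup G) : Set G))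
    (nQ : ¬ (Q : Subgroup G).Normal)
    (hR : ∃ y : G, IsPElt r y ∧ ∃ w : LinC (⁅(P : Subgroup G), (P : Subgroup G)⁆).subtype,
      y • w ≠ w) : False := by
  have hM := sup_normal hpq h1 P hc h0 Q hQ
  have hW := stab_dual hpr h2 P hc
  set W : Subgroup G := ⁅(P : Subgroup G), (P : Subgroup G)⁆ with hWd
  have hle : W ≤ P := commutator_le_left _ _
  have : IsMulCommutative W := isMulCommutative_iff_forall.2 fun a ha b hb => hc (hle hb) a ha
  have hpQ := not_dvd_card_sylow hpq Q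
  have hcop : IsCoprimeAction (Q : Subgroup G) (P : Subgroup G) :=
    isCoprimeAction_of_isPGroup_right (normalizer_eq_top (P : Subgroup G) ▸ le_top) P.isPGroup' hpQ
  let D : Subgroup G := (centralizer ((((Q : Subgroup G) ⊔ P).map (QuotientGroup.mk' W) :
    Subgroup (G ⧸ W)) : Set (G ⧸ W))).comap (QuotientGroup.mk' W)
  have hDn : D.Normal := inferInstance
  have hD : ∀ c, c ∈ D ↔ ∀ y ∈ (Q : Subgroup G) ⊔ P, ⁅c, y⁆ ∈ W := fun c => by
    have : ∀ y, ⁅c, y⁆ ∈ W ↔ QuotientGroup.mk' W y * QuotientGroup.mk' W c =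
        QuotientGroup.mk' W c * QuotientGroup.mk' W y := fun y => by
      rw [eq_comm, ← commutatorElement_eq_one_iff_mul_comm, ← map_commutatorElement,
        QuotientGroup.mk'_apply, QuotientGroup.eq_one_iff]
    simp only [this]
    exact ⟨fun h y hy => h _ (mem_map_of_mem _ hy), by rintro h _ ⟨y, hy, rfl⟩; exact h y hy⟩
  have hDQ : ∀ c ∈ (P : Subgroup G), (∀ y ∈ (Q : Subgroup G), ⁅c, y⁆ ∈ W) → c ∈ D := by
    intro c hcP h
    refine (hD c).2 fun y hy => ?_
    obtain ⟨a, ha, b, hb, rfl⟩ :=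
      (mem_sup_of_le_normalizer (normalizer_eq_top (P : Subgroup G) ▸ le_top)).1 hy
    have : ⁅c, a * b⁆ = ⁅c, a⁆ * (a * ⁅c, b⁆ * a⁻¹) := by
      simp only [commutatorElement_def]; group
    rw [this]
    exact mul_mem (h a ha) (Normal.conj_mem inferInstance _ (commutator_mem_commutator hcP hb) a)
  let Λ : Subgroup (LinC (P : Subgroup G).subtype) :=
    { carrier := {l | ∀ c : (P : Subgroup G), (c : G) ∈ D → l.hom c = 1}
      one_mem' := fun _ _ => rfl
      mul_mem' := fun {a b} ha hb c hc => by rw [LinC.hom_mul, ha c hc, hb c hc, one_mul]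
      inv_mem' := fun {a} ha c hc => by rw [LinC.hom_inv, ha c hc, inv_one] }
  have hΛ : ∀ (g : G), ∀ l ∈ Λ, g • l ∈ Λ := fun g l hl c hc => hl _ (by
    have := map_conjAut_inv (P : Subgroup G).subtype g c
    simp only [subtype_apply] at this
    refine this.symm ▸ (show g⁻¹ * c * g ∈ D from ?_)
    simpa using hDn.conj_mem _ hc g⁻¹)
  have hK : ∀ k ∈ (P : Subgroup G), ∀ l : LinC (P : Subgroup G).subtype, k • l = l :=
    fun k hk l => LinC.smul_eq_of_mem hk l
  have hidx : ∀ l ∈ Λ, l ≠ 1 → q ∣ (stabilizer G l).index := by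
    intro l hl hl1
    by_contra hd
    have hQl := Sylow.le_of_sup_normal Q (K := P) (fun k hk => hK k hk l) hd
    have : ⁅(P : Subgroup G), (Q : Subgroup G)⁆ ≤ l.hom.ker.map (P : Subgroup G).subtype :=
      commutator_le.2 fun z hz y hy => ⟨⟨_, commutator_le_left _ _ (commutator_mem_commutator hz hy)⟩,
        LinC.apply_commutator_of_smul_eq (hQl hy) hz _ rfl, rfl⟩
    refine hl1 (LinC.ext' fun z => ?_)
    obtain ⟨c, hc, m, hm, e⟩ := hcop.exists_centralizer_mul_commutator z.2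
    obtain ⟨m, hm', rfl⟩ := this hm
    have e' : z = ⟨c, hc.1⟩ * m := Subtype.ext e.symm
    rw [e', map_mul, hl ⟨c, hc.1⟩ (hDQ c hc.1 fun y hy => by
      rw [commutatorElement_eq_one_iff_mul_comm.2 (hc.2 y hy).symm]; exact one_mem _),
      show l.hom m = 1 from hm', one_mul, LinC.hom_one]
  obtain ⟨c₁, hc₁, e₁⟩ := exists_card_sub_one_eq (r := r) hK Λ hΛ fun l hl hl1 => by
    have hi := hidx l hl hl1
    rw [LinC.stabilizer_eq] at hi ⊢
    exact commutator_mem_of_normal_sylow P fun χ hχ =>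
      not_dvd_right hq.out hr.out hqr (h3 χ) (hi.trans hχ.index_inertia_dvd)
  have hK' : ∀ k ∈ (P : Subgroup G), ∀ l : LinC W.subtype, k • l = l :=
    fun k hk => LinC.forall_smul_eq_iff.2 (hc hk)
  obtain ⟨c₂, hc₂, e₂⟩ := exists_card_sub_one_eq (r := r) hK' ⊤ (fun _ _ _ => mem_top _)
    fun l _ hl1 => hW l hl1
  have hn : Nat.card (Sylow r (G ⧸ (P : Subgroup G))) ≠ 1 := fun e => by
    obtain ⟨y, hy, w, hw⟩ := hR
    exact hw (smul_eq_of_card_sylow_eq_one hK' e (hW w fun e => hw (by rw [e, smul_one])).1 hy)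
  -- the element `x`
  obtain ⟨g, hg, y, hy, hx⟩ : ∃ g ∈ (P : Subgroup G), ∃ y ∈ (Q : Subgroup G), ⁅g, y⁆ ∉ D := by
    by_contra hn
    push Not at hn
    refine nQ (normal_of_commutator_le hpq P Q le_rfl ?_)
    rw [← hcop.commutator_commutator]
    exact commutator_le.2 fun a ha b hb => (hD a).1 (commutator_le.2 hn ha) b (mem_sup_left hb)
  have hxP : ⁅g, y⁆ ∈ (P : Subgroup G) := commutator_le_left _ _ (commutator_mem_commutator hg hy)
  set x := ⁅g, y⁆ with hxd
  have hmul : ∀ z z' : (P : Subgroup G), ⁅x, ((z * z' : (P : Subgroup G)) : G)⁆ =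
      ⁅x, (z : G)⁆ * ⁅x, (z' : G)⁆ := fun z z' => by
    have := hc z.2 _ (commutator_mem_commutator hxP z'.2)
    calc _ = ⁅x, (z : G)⁆ * (z * ⁅x, (z' : G)⁆ * (z : G)⁻¹) := by
          simp only [commutatorElement_def, coe_mul]; group
      _ = _ := by rw [← this, mul_inv_cancel_right]
  let κ : (P : Subgroup G) →* W := MonoidHom.mk'
    (fun z => ⟨⁅x, (z : G)⁆, commutator_mem_commutator hxP z.2⟩) fun z z' => Subtype.ext (hmul z z')
  have hκ : ∀ c : (P : Subgroup G), (c : G) ∈ D → κ c = 1 := by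
    intro c hcD
    obtain ⟨m, hm, hcm⟩ := (hcop.mono_right hle (normalizer_eq_top W ▸ le_top)).exists_mul_mem_centralizer
      (x := c) fun a ha => by
        simpa [commutatorElement_def] using (hD _).1 (inv_mem hcD) a (mem_sup_left ha)
    have e1 : κ ⟨m, hle hm⟩ = 1 := Subtype.ext
      (commutatorElement_eq_one_iff_mul_comm.2 (hc hxP m hm).symm)
    rw [← mul_one (κ c), ← congrArg (κ c * ·) e1, ← map_mul]
    refine Subtype.ext (commutatorElement_eq_one_iff_mul_comm.2 ?_)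
    change x * (c * m) = c * m * x
    have hcP : (c : G) * m ∈ (P : Subgroup G) := mul_mem c.2 (hle hm)
    generalize (c : G) * m = d at hcm hcP
    have e2 := hcm y hy
    have e3 := hQ hy _ (commutator_mem_commutator (inv_mem hg) hcP)
    have e4 := hc hg _ (commutator_mem_commutator (inv_mem hg) hcP)
    calc x * d = g * (y * ⁅g⁻¹, d⁆) * d * g⁻¹ * (d⁻¹ * (y⁻¹ * d)) := by
          rw [hxd]; simp only [commutatorElement_def]; group
      _ = g * ⁅g⁻¹, d⁆ * (y * d) * g⁻¹ * y⁻¹ := by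
          rw [← e3, (show Commute y d from e2).inv_left.eq]; group
      _ = d * x := by rw [e2, hxd]; simp only [commutatorElement_def]; group
  have hinj : ∀ ξ : LinC W.subtype, (∀ z, ξ.hom (κ z) = 1) → ξ = 1 := by
    intro ξ hξ
    by_contra hξ1
    obtain ⟨φ, hφ⟩ := ξ.irr.exists_liesOver_above (inclusion_injective hle)
    have hφ1 := nonlinear_of_liesOver hle hξ1 hφ
    have hφW := hφ.comp_eq_smul_of_inertia_eq_top (inertia_eq_top_of_range_le_center (by
      rintro _ ⟨n, rfl⟩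
      exact mem_center_iff.2 fun z => Subtype.ext (hc z.2 n n.2).symm) _)
    have hx0 : φ ⟨x, hxP⟩ ≠ 0 := by
      have := φ.mem_charCenter.1 ((φ.mem_charCenter_iff (z := ⟨x, hxP⟩)).2 fun z => by
        rw [φ.mem_charKer]
        have a1 := congrFun hφW (κ z)
        have a2 := congrFun hφW 1
        simp only [Function.comp_apply, map_one, Pi.smul_apply, LinC.irr,
          IrrCharacter.ofLinear_val, hξ z] at a1 a2
        exact a1.trans a2.symm)
      intro e
      rw [e, norm_zero] at this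
      exact φ.charDegree_pos.ne' (by exact_mod_cast this.symm)
    have hinv : ∀ ψ : IrrCharacter (P : Subgroup G), charDegree ψ.1 ≠ 1 →
        (Q : Subgroup G) ≤ inertia (P : Subgroup G).subtype ψ := fun ψ hψ => by
      obtain ⟨χ, hχ⟩ := ψ.exists_liesOver_above (P : Subgroup G).subtype_injective
      exact Sylow.le_of_sup_normal Q (le_inertia_subtype _ ψ) fun hd => not_dvd_right hp.out hq.out
        hpq (h1 χ) ((dvd_of_nonlinear P hψ).trans hχ.charDegree_dvd) (hd.trans hχ.index_inertia_dvd)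
    refine hx (hDQ x hxP fun a ha => ?_)
    have hxa : ⁅x, a⁆ ∈ (P : Subgroup G) :=
      commutator_le_left _ _ (commutator_mem_commutator hxP ha)
    refine (coe_mem_commutator_iff (x := ⟨_, hxa⟩)).2
      (mem_commutator_iff_forall_linear.2 fun lam => ?_)
    have b1 := mem_inertia_iff_forall.1 (hinv φ hφ1 ha) ⟨x, hxP⟩ ⟨_, hPn.conj_mem x hxP a⟩ rfl
    have b2 := mem_inertia_iff_forall.1 (hinv (lam • φ) (by simpa using hφ1) ha) ⟨x, hxP⟩
      ⟨_, hPn.conj_mem x hxP a⟩ rfl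
    rw [IrrCharacter.linear_smul_apply, IrrCharacter.linear_smul_apply, b1,
      mul_left_inj' hx0, Units.val_inj] at b2
    have : (⟨_, hxa⟩ : (P : Subgroup G)) = ⟨x, hxP⟩ * (⟨_, hPn.conj_mem x hxP a⟩)⁻¹ :=
      Subtype.ext (by simp only [commutatorElement_def, coe_mul, coe_inv]; group)
    rw [this, map_mul, map_inv, b2, mul_inv_cancel]
  obtain ⟨l₀, hl₀, hl₀x⟩ := exists_linear_ne_one (L := D.subgroupOf P) (fun c hc => hDQ c c.2
    fun a _ => by
      simpa only [commutatorElement_def, mul_assoc] using mul_mem (coe_mem_commutator_iff.2 hc)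
        (Normal.conj_mem inferInstance _ (inv_mem (coe_mem_commutator_iff.2 hc)) a))
    (g := ⟨x, hxP⟩) hx
  have hlt : Nat.card (⊤ : Subgroup (LinC W.subtype)) < Nat.card Λ := by
    let Φ : (⊤ : Subgroup (LinC W.subtype)) → Λ := fun ξ =>
      ⟨LinC.mk _ (ξ.1.hom.comp κ), fun c hc => by
        rw [LinC.hom_mk, MonoidHom.comp_apply, hκ c hc, map_one]⟩
    have hΦ : Function.Injective Φ := fun a b hab => Subtype.ext (by
      rw [← mul_inv_eq_one]
      refine hinj _ fun z => ?_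
      rw [LinC.hom_mul, LinC.hom_inv, mul_inv_eq_one]
      exact DFunLike.congr_fun (congrArg (fun l : Λ => l.1.hom) hab) z)
    refine lt_of_le_of_ne (Nat.card_le_card_of_injective Φ hΦ) fun e => ?_
    obtain ⟨ξ, hξ⟩ := ((Nat.bijective_iff_injective_and_card Φ).2 ⟨hΦ, e⟩).2
      ⟨LinC.mk _ l₀, fun c hc => hl₀ c hc⟩
    refine hl₀x ((DFunLike.congr_fun (congrArg (fun l : Λ => l.1.hom) hξ) ⟨x, hxP⟩).symm.trans ?_)
    change ξ.1.hom (κ _) = 1
    rw [show κ ⟨x, hxP⟩ = 1 from Subtype.ext (commutatorElement_self x), map_one]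
  obtain ⟨k, hk⟩ := P.isPGroup'.exists_card_eq
  obtain ⟨a, -, ha⟩ := (Nat.dvd_prime_pow hp.out).1 (show Nat.card Λ ∣ p ^ k by
    rw [← hk]
    exact (card_subgroup_dvd_card Λ).trans (by rw [LinC.card_eq]; exact index_dvd_card _))
  obtain ⟨b, hb⟩ := (P.isPGroup'.to_le hle).exists_card_eq
  have hb' : Nat.card (⊤ : Subgroup (LinC W.subtype)) = p ^ b := by
    rw [card_top, LinC.card_eq_of_comm, hb]
  have hb0 : b ≠ 0 := fun e => h0 (card_eq_one.1 (by rw [hb, e, pow_zero]))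
  rw [ha] at hc₁ e₁ hlt
  rw [hb'] at hc₂ e₂ hlt
  refine hlt.ne' (pow_eq_pow_of_sub_one hp.out (fun e => ?_) hb0 hn hc₁ hc₂ e₁ e₂)
  rw [e, pow_zero] at hlt
  exact hlt.not_ge (Nat.one_le_pow _ _ hp.out.pos)

theorem caseB (hpq : p ≠ q) (hpr : p ≠ r) (hqr : q ≠ r)
    (h1 : ∀ χ : IrrCharacter G, ¬ p * q ∣ charDegree χ.1)
    (h2 : ∀ χ : IrrCharacter G, ¬ p * r ∣ charDegree χ.1)
    (h3 : ∀ χ : IrrCharacter G, ¬ q * r ∣ charDegree χ.1)
    (eP : ∃ χ : IrrCharacter G, p ∣ charDegree χ.1) (eQ : ∃ χ : IrrCharacter G, q ∣ charDegree χ.1)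
    (eR : ∃ χ : IrrCharacter G, r ∣ charDegree χ.1) (P : Sylow p G) [hPn : (P : Subgroup G).Normal]
    (ih : ∀ (K : Subgroup G) [K.Normal], K ≠ ⊥ →
      (∀ χ : IrrCharacter (G ⧸ K), ¬ p ∣ charDegree χ.1) ∨
      (∀ χ : IrrCharacter (G ⧸ K), ¬ q ∣ charDegree χ.1) ∨
      (∀ χ : IrrCharacter (G ⧸ K), ¬ r ∣ charDegree χ.1)) : False := by
  have hP : ¬ IsMulCommutative (P : Subgroup G) := fun h => by
    obtain ⟨χ, hχ⟩ := eP
    exact ((isPSolvable_of_isSolvable p G).sylow_normal_comm_iff P).1 ⟨hPn, h⟩ χ hχ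
  have nQ := not_normal hpq h1 P hP eQ
  have nR := not_normal hpr h2 P hP eR
  have h0 : ⁅(P : Subgroup G), (P : Subgroup G)⁆ ≠ ⊥ := fun e =>
    hP (isMulCommutative_iff_forall.2 fun a ha b hb =>
      commutator_eq_bot_iff_le_centralizer.1 e hb a ha)
  obtain ⟨K, hKn, -, hKW, hm⟩ := exists_chief_below (bot_lt_iff_ne_bot.2 h0)
  have hKP : K ≤ P := hKW.le.trans (commutator_le_left _ _)
  have key : ∀ (s : ℕ) [Fact s.Prime], p ≠ s → (∀ S : Sylow s G, ¬ (S : Subgroup G).Normal) →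
      ¬ ∀ χ : IrrCharacter (G ⧸ K), ¬ s ∣ charDegree χ.1 := by
    intro s _ hps nS h
    obtain ⟨S⟩ : Nonempty (Sylow s G) := inferInstance
    have hn : ((S : Subgroup G) ⊔ K).Normal := by
      rw [← comap_map_mk'_eq_sup]
      exact (((isPSolvable_of_isSolvable s _).sylow_normal_comm_iff
        (S.mapSurjective (QuotientGroup.mk'_surjective K))).2 h).1.comap _
    refine nS S (normal_of_commutator_le hps P S hKP (le_trans ?_ hKW.le))
    have : ((S : Subgroup G) ⊔ K) ⊓ P = K := by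
      rw [sup_normal_inf_eq' _ hKP, inf_comm,
        inf_eq_bot_of_isPGroup_of_not_dvd P.isPGroup' (not_dvd_card_sylow hps S), bot_sup_eq]
    rw [← this]
    exact le_inf ((commutator_mono le_rfl le_sup_left).trans (commutator_le_right _ _))
      (commutator_le_left _ _)
  have hK : K = ⊥ := by
    by_contra hK
    rcases ih K hK with h | h | h
    · have := comm_of_isPGroup_of_forall_not_dvd h (P := (P : Subgroup G).map (QuotientGroup.mk' K))
        (P.isPGroup'.map _)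
      refine hKW.not_ge (map_mk'_eq_bot_iff.1 ?_)
      rw [map_commutator, commutator_eq_bot_iff_le_centralizer]
      exact fun a ha b hb => isMulCommutative_iff_forall.1 this b hb a ha
    · exact key q hpq nQ h
    · exact key r hpr nR h
  subst hK
  have hmin : IsMinNormal ⁅(P : Subgroup G), (P : Subgroup G)⁆ :=
    ⟨inferInstance, h0, fun M hM hle =>
      ((isMinNormal_map_mk'_iff bot_le).1 hm).2 M hM bot_le hle⟩
  have := P.isPGroup'.isNilpotent
  have hc := le_centralizer_iff.1 (hmin.le_centralizer_of_isNilpotent (P : Subgroup G))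
  have : IsMulCommutative (⁅(P : Subgroup G), (P : Subgroup G)⁆ : Subgroup G) :=
    isMulCommutative_iff_forall.2 fun a ha b hb => hc (commutator_le_left _ _ hb) a ha
  have alt : ∀ (s : ℕ) [Fact s.Prime] (S : Sylow s G), ¬ (S : Subgroup G) ≤
      centralizer ((⁅(P : Subgroup G), (P : Subgroup G)⁆ : Subgroup G) : Set G) →
      ∃ y : G, IsPElt s y ∧ ∃ w : LinC (⁅(P : Subgroup G), (P : Subgroup G)⁆).subtype,
        y • w ≠ w := by
    intro s _ S hS
    by_contra hn
    push Not at hn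
    exact hS fun y hy => LinC.forall_smul_eq_iff.1 (hn y (isPElt_of_mem S.isPGroup' hy))
  obtain ⟨Q⟩ : Nonempty (Sylow q G) := inferInstance
  obtain ⟨R⟩ : Nonempty (Sylow r G) := inferInstance
  by_cases cQ : (Q : Subgroup G) ≤
    centralizer ((⁅(P : Subgroup G), (P : Subgroup G)⁆ : Subgroup G) : Set G) <;>
  by_cases cR : (R : Subgroup G) ≤
    centralizer ((⁅(P : Subgroup G), (P : Subgroup G)⁆ : Subgroup G) : Set G)
  · have := sup_normal hpq h1 P hc h0 Q cQ
    have := sup_normal hpr h2 P hc h0 R cR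
    exact caseBoth hpq hpr hqr h3 P Q R (nQ Q) (nR R)
  · exact caseOne hpq hpr hqr h1 h2 h3 P hc h0 Q cQ (nQ Q) (alt r R cR)
  · exact caseOne hpr hpq hqr.symm h2 h1 (fun χ => mul_comm q r ▸ h3 χ) P hc h0 R cR (nR R)
      (alt q Q cQ)
  · obtain ⟨χ, hχ⟩ := exists_mul_dvd_charDegree_of_action hqr
      (fun k hk => LinC.forall_smul_eq_iff.2 (hc hk)) (stab_dual hpq h1 P hc)
      (stab_dual hpr h2 P hc) (alt q Q cQ) (alt r R cR)
    exact h3 χ hχ

end ThreePrimes

/-- **Pálfy's three primes theorem.** -/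
theorem forall_not_dvd_of_three_primes (G : Type u) [Group G] [Finite G] :
    Group.IsSolvable G → ∀ {p q r : ℕ}, p.Prime → q.Prime → r.Prime → p ≠ q → p ≠ r → q ≠ r →
    (∀ χ : IrrCharacter G, ¬ p * q ∣ charDegree χ.1) →
    (∀ χ : IrrCharacter G, ¬ p * r ∣ charDegree χ.1) →
    (∀ χ : IrrCharacter G, ¬ q * r ∣ charDegree χ.1) →
    (∀ χ : IrrCharacter G, ¬ p ∣ charDegree χ.1) ∨ (∀ χ : IrrCharacter G, ¬ q ∣ charDegree χ.1) ∨
      ∀ χ : IrrCharacter G, ¬ r ∣ charDegree χ.1 := by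
  refine card_induction (P := fun G _ _ => Group.IsSolvable G → ∀ {p q r : ℕ}, p.Prime → q.Prime →
    r.Prime → p ≠ q → p ≠ r → q ≠ r → (∀ χ : IrrCharacter G, ¬ p * q ∣ charDegree χ.1) →
    (∀ χ : IrrCharacter G, ¬ p * r ∣ charDegree χ.1) →
    (∀ χ : IrrCharacter G, ¬ q * r ∣ charDegree χ.1) →
    (∀ χ : IrrCharacter G, ¬ p ∣ charDegree χ.1) ∨ (∀ χ : IrrCharacter G, ¬ q ∣ charDegree χ.1) ∨
      ∀ χ : IrrCharacter G, ¬ r ∣ charDegree χ.1) ?_ G
  intro G _ _ ih _ p q r hp hq hr hpq hpr hqr h1 h2 h3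
  have := Fact.mk hp
  have := Fact.mk hq
  have := Fact.mk hr
  by_contra hn
  simp only [not_or, not_forall, not_not] at hn
  obtain ⟨eP, eQ, eR⟩ := hn
  have h1' : ∀ χ : IrrCharacter G, ¬ q * p ∣ charDegree χ.1 := fun χ => mul_comm p q ▸ h1 χ
  have h2' : ∀ χ : IrrCharacter G, ¬ r * p ∣ charDegree χ.1 := fun χ => mul_comm p r ▸ h2 χ
  have h3' : ∀ χ : IrrCharacter G, ¬ r * q ∣ charDegree χ.1 := fun χ => mul_comm q r ▸ h3 χ
  have ih' : ∀ (K : Subgroup G) [K.Normal], K ≠ ⊥ →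
      (∀ χ : IrrCharacter (G ⧸ K), ¬ p ∣ charDegree χ.1) ∨
      (∀ χ : IrrCharacter (G ⧸ K), ¬ q ∣ charDegree χ.1) ∨
      (∀ χ : IrrCharacter (G ⧸ K), ¬ r ∣ charDegree χ.1) := by
    intro K _ hK
    have hi : ∀ {n}, (∀ χ : IrrCharacter G, ¬ n ∣ charDegree χ.1) →
        ∀ χ : IrrCharacter (G ⧸ K), ¬ n ∣ charDegree χ.1 := fun h χ => by
      rw [← χ.charDegree_inflate _ (QuotientGroup.mk'_surjective K)]; exact h _
    exact ih _ (card_quotient_lt hK) inferInstance hp hq hr hpq hpr hqr (hi h1) (hi h2) (hi h3)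
  by_cases nP : ∃ P : Sylow p G, (P : Subgroup G).Normal
  · obtain ⟨P, hP⟩ := nP
    exact ThreePrimes.caseB hpq hpr hqr h1 h2 h3 eP eQ eR P ih'
  by_cases nQ : ∃ P : Sylow q G, (P : Subgroup G).Normal
  · obtain ⟨P, hP⟩ := nQ
    exact ThreePrimes.caseB hpq.symm hqr hpr h1' h3 h2 eQ eP eR P fun K _ hK => by
      have := ih' K hK; tauto
  by_cases nR : ∃ P : Sylow r G, (P : Subgroup G).Normal
  · obtain ⟨P, hP⟩ := nR
    exact ThreePrimes.caseB hpr.symm hqr.symm hpq h2' h3' h1 eR eP eQ P fun K _ hK => by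
      have := ih' K hK; tauto
  push Not at nP nQ nR
  have : Nontrivial G := by
    by_contra h
    obtain ⟨P⟩ : Nonempty (Sylow p G) := inferInstance
    have := not_nontrivial_iff_subsingleton.1 h
    exact nP P (Subsingleton.elim ⊥ (P : Subgroup G) ▸ inferInstance)
  obtain ⟨N, hN⟩ := exists_isMinNormal G
  have := hN.normal
  rcases ih' N hN.ne_bot with h | h | h
  · exact ThreePrimes.caseA hpq hpr hqr h1 h2 h3 nP nQ nR hN h
  · exact ThreePrimes.caseA hpq.symm hqr hpr h1' h3 h2 nQ nP nR hN h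
  · exact ThreePrimes.caseA hpr.symm hqr.symm hpq h2' h3' h1 nR nP nQ hN h

end Cfsg
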